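import Cfsg.Agent.HSE.Trf
import Cfsg.Agent.HSE.Pc2

/-! All basic lemmas for `HSD/*`: `El` (normal forms), `Gen`, `Rig`, `Trf`, `Pc`, `Pc2`. -/
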