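import Mathlib
import Cfsg.Agent.HSE.Basic

/-! One translation layer over `A₁`. -/

set_option autoImplicit false
set_option linter.unusedSectionVars false
set_option linter.unusedVariables false

namespace Cfsg.Agent.HSE

open Cfsg Subgroup Cfsg.Agent.PLocal Cfsg.Agent.PLocal.Amb Cfsg.Agent.MacW

variable {G : Type*} [Group G] [Finite G]

theorem Cj.cj (g x : G) : Cj g x (g * x * g⁻¹) := rfl

theorem Cj.eq {g x y : G} (h : Cj g x y) : g * x * g⁻¹ = y := h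

theorem Cj.tr {g x y z x' y' z' : G} (h : Cj x y z) (h1 : Cj g x x') (h2 : Cj g y y')
    (h3 : Cj g z z') : Cj x' y' z' :=
  ((h1.mul h2).mul h1.inv).unique (by rw [h.eq]; exact h3)

theorem Cj.eq_mul {g x y : G} (h : Cj g x y) : g * x = y * g := by
  rw [← h, inv_mul_cancel_right]

/-- the data produced by `LQ` -/
structure QR (d : Dat G) (Q : Subgroup G) (ρ : G) : Prop where
  cen : ∀ q ∈ Q, Cj q d.t d.t → Cj q d.u d.u → Cj q d.z d.z → Cj q d.a d.a →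
    ∃ i j k m, q = d.el i j k false m
  A : d.A1 ≤ Q
  n : ρ ∈ 𝐍[Q]
  c3 : ∀ q ∈ Q, Cj ρ (ρ * (ρ * q * ρ⁻¹) * ρ⁻¹) q
  pt : Cj ρ d.t d.t
  pu : Cj ρ d.u d.u
  pz : Cj ρ d.z d.a
  pa : Cj ρ d.a (d.a * d.z)
  bp' : d.b * ρ * d.b * ρ = 1
  odd : Odd (orderOf ρ)

namespace Dat.Cfq

variable {d : Dat G} (h : d.Cfq)
include h

theorem bp_el (i j k l m p : Bool) :
    bp (d.el i j k l m) p = d.el (i && p) (j && p) (k && p) (l && p) (m && p) := by
  cases p <;> simp [h.el_one]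

theorem el_bt (i : Bool) : bp d.t i = d.el i false false false false := by simp [el]
theorem el_bu (i : Bool) : bp d.u i = d.el false i false false false := by simp [el]
theorem el_ba (i : Bool) : bp d.a i = d.el false false i false false := by simp [el]
theorem el_bz (i : Bool) : bp d.z i = d.el false false false false i := by simp [el]

theorem cjA {g t' u' a' z' : G} (h1 : Cj g d.t t') (h2 : Cj g d.u u') (h3 : Cj g d.a a')
    (h4 : Cj g d.z z') (i j k m : Bool) :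
    Cj g (d.el i j k false m) (bp t' i * bp u' j * bp a' k * bp z' m) :=
  (((((h1.bp i).mul (h2.bp j)).mul (h3.bp k)).mul (Cj.one g)).mul (h4.bp m)).to (by rw [mul_one])

theorem cjZ {g t' u' z' : G} (h1 : Cj g d.t t') (h2 : Cj g d.u u') (h4 : Cj g d.z z') (i j m : Bool) :
    Cj g (d.el i j false false m) (bp t' i * bp u' j * bp z' m) :=
  (((((h1.bp i).mul (h2.bp j)).mul (Cj.one g)).mul (Cj.one g)).mul (h4.bp m)).to
    (by rw [mul_one, mul_one])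

/-- an element of order three on `V₁` -/
theorem cjR {g : G} (h1 : Cj g d.t d.t) (h2 : Cj g d.u d.u) (h4 : Cj g d.z d.a)
    (h3 : Cj g d.a (d.a * d.z)) (i j k m : Bool) :
    Cj g (d.el i j k false m) (d.el i j (k ^^ m) false k) :=
  (h.cjA h1 h2 h3 h4 i j k m).to (by
    simp only [h.el_t, h.el_u, h.el_a, h.el_z, h.bp_el, h.el_mul]; simp)

/-- a translation -/
theorem cjT {g : G} {j' k' m' : Bool} (h1 : Cj g d.t (d.t * d.el false j' k' false m'))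
    (h2 : Cj g d.u d.u) (h4 : Cj g d.z d.z) (h3 : Cj g d.a d.a) (i j k m : Bool) :
    Cj g (d.el i j k false m) (d.el i (j ^^ (i && j')) (k ^^ (i && k')) false (m ^^ (i && m'))) :=
  (h.cjA h1 h2 h3 h4 i j k m).to (by
    simp only [h.el_t, h.el_u, h.el_a, h.el_z, h.bp_el, h.el_mul]
    simp [Bool.xor_comm, Bool.and_comm])

theorem el_A1 (i j k m : Bool) : d.el i j k false m ∈ d.A1 := h.mem_A1.2 ⟨_, _, _, _, rfl⟩
theorem el_S0 (i j k l m : Bool) : d.el i j k l m ∈ d.S0 := h.mem_S0.2 ⟨_, _, _, _, _, rfl⟩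
theorem el_Z0 (i j m : Bool) : d.el i j false false m ∈ d.Z0 := h.mem_Z0.2 ⟨_, _, _, rfl⟩

theorem cjE (i j k l m i' j' k' l' m' : Bool) : Cj (d.el i j k l m) (d.el i' j' k' l' m')
    (d.el i' j' k' l' (m' ^^ (l && k') ^^ (l' && k))) := by
  rw [Cj, h.el_inv, h.el_mul, h.el_mul, h.el_eq_iff]
  revert i j k l m i' j' k' l' m'
  decide

theorem acZ (i j m : Bool) : d.Ac (d.el i j false false m) d.t d.u d.a d.b := by
  refine ⟨?_, ?_, ?_, ?_⟩
  · rw [h.el_t]; exact h.cjE ..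
  · rw [h.el_u]; exact h.cjE ..
  · rw [h.el_a]; exact h.cjE ..
  · rw [h.el_b]; exact h.cjE ..

theorem acmZ {g t' u' a' b' : G} (c : d.Ac g t' u' a' b') (i j m : Bool) :
    d.Ac (g * d.el i j false false m) t' u' a' b' := (h.acZ i j m).comp c.t c.u c.a c.b

theorem norm_U1 {g : G} (h2 : Cj g d.u d.u) (h4 : g * d.z * g⁻¹ ∈ d.V1) (h3 : g * d.a * g⁻¹ ∈ d.V1) :
    g ∈ 𝐍[d.U1] := by
  have : d.V1 ≤ d.U1 := closure_mono (by simp)
  refine mem_norm_closure ?_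
  rintro x (rfl | rfl | rfl)
  exacts [h2.eq.symm ▸ subset_closure (by simp), this h4, this h3]

theorem S0_norm : d.S0 ≤ 𝐍[d.U1] ⊓ 𝐍[d.A1] := fun x hx => by
  obtain ⟨i, j, k, l, m, rfl⟩ := h.mem_S0.1 hx
  refine ⟨mem_normalizer_of_cj_le (cj_le_iff_forall.2 fun y hy => ?_),
    mem_normalizer_of_cj_le (cj_le_iff_forall.2 fun y hy => ?_)⟩
  · obtain ⟨j', k', m', rfl⟩ := h.mem_U1.1 hy
    exact h.mem_U1.2 ⟨_, _, _, h.cjE ..⟩
  · obtain ⟨i', j', k', m', rfl⟩ := h.mem_A1.1 hy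
    exact h.mem_A1.2 ⟨_, _, _, _, h.cjE ..⟩

theorem cent_A1 {g : G} (h1 : Cj g d.t d.t) (h2 : Cj g d.u d.u) (h4 : Cj g d.z d.z)
    (h3 : Cj g d.a d.a) : g ∈ 𝐂[d.A1] := mem_cent_closure (by simp [h1, h2, h3, h4])

theorem exists_QR (ε : d.Eps) {T : Subgroup G} (hT : IsPGroup 2 T) (hS : d.S0 ≤ T) :
    ∃ Q ρ, QR d Q ρ ∧ ∀ g ∈ T, ∀ v ∈ d.A1, Cj g d.t (d.t * v) → Cj g d.u d.u → Cj g d.z d.z →
      Cj g d.a d.a → g ∈ Q := by
  have tA : d.t ∈ d.A1 := subset_closure (by simp)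
  have uA : d.u ∈ d.A1 := subset_closure (by simp)
  have zA : d.z ∈ d.A1 := subset_closure (by simp)
  have aA : d.a ∈ d.A1 := subset_closure (by simp)
  have uU : d.u ∈ d.U1 := subset_closure (by simp)
  have zU : d.z ∈ d.U1 := subset_closure (by simp)
  have aU : d.a ∈ d.U1 := subset_closure (by simp)
  have zV : d.z ∈ d.V1 := subset_closure (by simp)
  have aV : d.a ∈ d.V1 := subset_closure (by simp)
  have UA : d.U1 ≤ d.A1 := closure_mono (by simp)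
  have cA : d.A1 ≤ 𝐂[d.A1] := fun x hx y hy => by
    obtain ⟨i, j, k, m, rfl⟩ := h.mem_A1.1 hx
    obtain ⟨i', j', k', m', rfl⟩ := h.mem_A1.1 hy
    simp [h.el_mul, Bool.xor_comm]
  have cF : 𝐂[d.A1] ≤ 𝐂[d.U1] ⊓ 𝐍[d.A1] := le_inf (centralizer_anti UA) (centralizer_le_normalizer' _)
  have nF : 𝐍[d.U1] ⊓ 𝐍[d.A1] ≤ 𝐍[𝐂[d.U1] ⊓ 𝐍[d.A1]] := le_normalizer_inf
    (le_normalizer_centralizer inf_le_left) (le_normalizer_normalizer inf_le_right)
  have nr : d.r₁ ∈ 𝐍[d.U1] ⊓ 𝐍[d.A1] := ⟨h.norm_U1 h.r1u (h.r1z.eq.symm ▸ aV)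
    (h.r1a.eq.symm ▸ mul_mem aV zV),
    h.A1_norm (h.r1t.to (mul_one _).symm) h.r1u h.r1z h.r1a (one_mem _) aA (mul_mem aA zA)⟩
  have az : Cj d.r₁ (d.a * d.z) d.z := (h.r1a.mul h.r1z).to (by
    rw [mul_assoc, h.za, ← mul_assoc, h.aa, one_mul])
  have bt : Cj d.b d.t d.t := .of_comm h.bt
  have bu : Cj d.b d.u d.u := .of_comm h.bu
  have bz : Cj d.b d.z d.z := .of_comm h.zb.symm
  have ba : Cj d.b d.a (d.a * d.z) := by rw [Cj, h.ba, mul_assoc d.a, ← h.zb]; group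
  have baz : Cj d.b (d.a * d.z) d.a := (ba.mul bz).to (by rw [mul_assoc, h.zz, mul_one])
  obtain ⟨Q, ρ, -, q2, -, q4, -, q6, q7, q8, q9, q10⟩ := LQ (R := T ⊓ (𝐍[d.U1] ⊓ 𝐍[d.A1]))
    (h.sylQ1 ε (h.pS0.to_le h.A1_le) le_rfl le_normalizer) (cA.trans cF) cF inf_le_right
    (fun g hg => ⟨1, by
      have c := fun {x} => Cj.of_cent (x := x) hg.1
      obtain ⟨i, j, k, m, y⟩ := h.mem_A1.1 (conj_mem_of_mem_normalizer hg.2 tA)
      rw [pow_one, sq]
      refine h.cent_A1 ?_ ((c uU).comp (c uU)) ((c zU).comp (c zU)) ((c aU).comp (c aU))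
      cases i
      · have := (Cj.symm y).unique (c (h.mem_U1.2 ⟨_, _, _, rfl⟩)).symm
        rw [h.el_t, h.el_eq_iff] at this
        simp at this
      · exact (Cj.comp y (h.cjT (j' := j) (k' := k) (m' := m) (y.trans (by
          rw [h.el_t, h.el_mul]; simp)) (c uU) (c zU) (c aU) true j k m)).to (by rw [h.el_t]; simp)⟩)
    (hT.to_le inf_le_left) (le_inf (h.A1_le.trans hS) (h.A1_le.trans h.S0_norm))
    (inf_le_right.trans inf_le_right) (inf_le_right.trans nF) nr.2 (nF nr)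
    ⟨hS d.b_S0, h.S0_norm d.b_S0⟩ h.bb
    (by
      rw [mul_assoc, mul_assoc]
      exact h.cent_A1 (((h.r1t.comp bt).comp h.r1t).comp bt) (((h.r1u.comp bu).comp h.r1u).comp bu)
        (((h.r1z.comp ba).comp az).comp bz) (((h.r1a.comp baz).comp h.r1a).comp baz))
    (by
      rw [pow_three]
      exact h.cent_A1 ((h.r1t.comp h.r1t).comp h.r1t) ((h.r1u.comp h.r1u).comp h.r1u)
        ((h.r1z.comp h.r1a).comp az) ((h.r1a.comp az).comp h.r1z))
  have k : ∀ {x y}, Cj d.r₁ x y → y ∈ d.A1 → Cj ρ x y := fun c hy => by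
    have := c.comp (Cj.of_cent q7 hy)
    rwa [inv_mul_cancel_right] at this
  refine ⟨Q, ρ, ⟨fun q hq h1 h2 h3 h4 => h.mem_A1.1 (q4 ⟨hq, h.cent_A1 h1 h2 h3 h4⟩),
    fun x hx => q2 ⟨⟨hS (h.A1_le hx), h.S0_norm (h.A1_le hx)⟩, cF (cA hx)⟩, q6, fun q hq => ?_,
    k h.r1t tA, k h.r1u uA, k h.r1z aA, k h.r1a (mul_mem aA zA), q8, q10⟩,
    fun g hg v hv h1 h2 h3 h4 => ?_⟩
  · refine Eq.trans ?_ (Cj.of_cent q9 hq).eq
    rw [pow_three]; group
  · have n := h.A1_norm h1 h2 h3 h4 hv zA aA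
    exact q2 ⟨⟨hg, h.norm_U1 h2 (h3.eq.symm ▸ zV) (h4.eq.symm ▸ aV), n⟩,
      mem_cent_closure (by simp [h2, h3, h4]), n⟩

end Dat.Cfq

/-- `g` is the translation `t ↦ t v` of `A₁` -/
structure Tl (d : Dat G) (g v : G) : Prop where
  t : Cj g d.t (d.t * v)
  u : Cj g d.u d.u
  z : Cj g d.z d.z
  a : Cj g d.a d.a

namespace Dat.Cfq

variable {d : Dat G} (h : d.Cfq) {Q : Subgroup G} {ρ : G}
include h

theorem tl_ac {g v b' : G} (c : d.Ac g (d.t * v) d.u d.a b') (hz : Cj g d.z d.z) : Tl d g v :=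
  ⟨c.t, c.u, hz, c.a⟩

theorem tl_cj (q : QR d Q ρ) {g g' v v' : G} (c : Tl d g v) (h1 : Cj ρ g g') (h2 : Cj ρ v v') :
    Tl d g' v' := by
  have a := c.z.tr h1 q.pz q.pz
  have := a.mul (c.a.tr h1 q.pa q.pa)
  rw [← mul_assoc, h.aa, one_mul] at this
  exact ⟨c.t.tr h1 q.pt (q.pt.mul h2), c.u.tr h1 q.pu q.pu, this, a⟩

theorem tl_el {g : G} {j' k' m' : Bool} (c : Tl d g (d.el false j' k' false m')) (i j k m : Bool) :
    Cj g (d.el i j k false m) (d.el i (j ^^ (i && j')) (k ^^ (i && k')) false (m ^^ (i && m'))) :=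
  h.cjT c.t c.u c.z c.a i j k m

theorem tl_inv {g : G} {j k m : Bool} (c : Tl d g (d.el false j k false m)) :
    Tl d g⁻¹ (d.el false j k false m) := by
  refine ⟨?_, c.u.symm, c.z.symm, c.a.symm⟩
  have := (h.tl_el c true j k m).symm
  rw [h.el_t, h.el_mul]
  simpa using this

theorem tl_mul {g g' : G} {j k m j' k' m' : Bool} (c : Tl d g (d.el false j k false m))
    (c' : Tl d g' (d.el false j' k' false m')) :
    Tl d (g * g') (d.el false (j ^^ j') (k ^^ k') false (m ^^ m')) := by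
  refine ⟨?_, c'.u.comp c.u, c'.z.comp c.z, c'.a.comp c.a⟩
  have := c'.t
  rw [h.el_t, h.el_mul] at this ⊢
  simpa [Bool.xor_comm] using this.comp (h.tl_el c _ _ _ _)

theorem qr_mem (q : QR d Q ρ) {g : G} (hg : g ∈ Q) (c : Tl d g (d.el false false false false false)) :
    ∃ i j k m, g = d.el i j k false m :=
  q.cen g hg (c.t.to (by rw [← h.el_one, mul_one])) c.u c.z c.a

theorem qr_el (q : QR d Q ρ) (i j k m : Bool) :
    Cj ρ (d.el i j k false m) (d.el i j (k ^^ m) false k) := h.cjR q.pt q.pu q.pz q.pa i j k m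

theorem qr_b (q : QR d Q ρ) : Cj d.b ρ ρ⁻¹ := by
  rw [Cj, inv_eq_of_mul_eq_one_left h.bb, eq_inv_iff_mul_eq_one, q.bp']

theorem qr_prod (q : QR d Q ρ) {e f f' : G} (he : e ∈ Q) (ac : d.Ac e (d.t * d.z) d.u d.a d.b)
    (h1 : Cj ρ e f) (h2 : Cj ρ f f') : ∃ i j, e * f * f' = d.el i j i false false := by
  have h3 : Cj ρ f' e := by rw [← h2.eq, ← h1.eq]; exact q.c3 e he
  have c1 := h.tl_ac ac (h.cz' ac.a ac.b)
  rw [h.el_z] at c1
  have c2 := h.tl_cj q c1 h1 (h.qr_el q ..)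
  have c3 := h.tl_cj q c2 h2 (h.qr_el q ..)
  have hf := h1.mem q.n he
  obtain ⟨i, j, k, m, e1⟩ := h.qr_mem q (mul_mem (mul_mem he hf) (h2.mem q.n hf))
    (h.tl_mul (h.tl_mul c1 c2) c3)
  have e2 := (h1.mul h2).mul h3
  have e3 : Cj e⁻¹ (e * f * f') (f * f' * e) := by rw [Cj]; group
  rw [e1] at e2 e3
  have := (e2.unique (h.qr_el q ..)).symm.trans (e3.unique (h.tl_el (h.tl_inv c1) ..))
  rw [h.el_eq_iff] at this
  refine ⟨i, j, e1.trans (h.el_eq_iff.2 ?_)⟩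
  clear e1 e2 e3
  revert i j k m
  decide

theorem qr_lay (ε : d.Eps) (q : QR d Q ρ) {T : Subgroup G} (hT : IsPGroup 2 T) (hS : d.S0 ≤ T)
    {e f f' : G} (he : e ∈ Q) (heT : e ∈ T) (ac : d.Ac e (d.t * d.z) d.u d.a d.b)
    (h1 : Cj ρ e f) (h2 : Cj ρ f f') (e1 : e * f * f' = 1) : ∃ l, d.Lay e f ρ l := by
  have h3 : Cj ρ f' e := by rw [← h2.eq, ← h1.eq]; exact q.c3 e he
  have c1 := h.tl_ac ac (h.cz' ac.a ac.b)
  have c2 := h.tl_cj q c1 h1 q.pz
  have be := ac.b.flip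
  have bf : Cj d.b f f' := (h1.tr (h.qr_b q) be (Cj.cj _ _)).unique h3.symm
  have bf' : Cj d.b f' f := (h2.tr (h.qr_b q) bf (Cj.cj _ _)).unique h2.symm
  have e2 := (be.mul bf).mul bf'
  rw [e1] at e2
  have e3 : f' = (e * f)⁻¹ := eq_inv_of_mul_eq_one_right e1
  have e4 : e * f = f * e := by
    have := e2.unique (Cj.one _)
    rw [e3, mul_assoc, mul_eq_one_iff_eq_inv, mul_inv_rev, inv_inv, eq_inv_mul_iff_mul_eq] at this
    exact this.symm
  obtain ⟨i, j, m, s1⟩ := h.mem_Z0.1 (h.regZ ε hT hS (mul_mem heT heT) (ac.comp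
    ((ac.t.mul c1.z).to (by rw [mul_assoc, h.zz, mul_one])) ac.u ac.a ac.b))
  have s2 := h1.mul h1
  have s3 := h2.mul h2
  rw [s1] at s2
  have s2 := s2.unique (h.qr_el q ..)
  rw [s2] at s3
  have s3 := s3.unique (h.qr_el q ..)
  have s4 : e * e * (f * f) * (f' * f') = 1 := by
    rw [e3, (show Commute e f from e4).mul_mul_mul_comm]; group
  rw [s1, s2, s3, h.el_mul, h.el_mul, h.el_one, h.el_eq_iff] at s4
  obtain ⟨rfl, rfl⟩ : i = false ∧ j = false := by simpa using s4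
  have ff : f * f = bp d.a m := by rw [s2, h.el_ba]; simp
  refine ⟨m, ac, c2.t, c2.u, c2.z, c2.a, .of_comm e4.symm, ?_, by rw [s1, h.el_bz], ff, q.pt, q.pu,
    q.pz, q.pa, h1, h2.to e3, q.bp', q.odd⟩
  rw [Cj, ← ff, mul_assoc, bf.inv.eq_mul, e3, inv_inv, ← mul_assoc, ← mul_assoc, ← e4, mul_assoc e]

theorem qr_mul (q : QR d Q ρ) {e f f' x : G} (he : e ∈ Q) (ac : d.Ac e (d.t * d.z) d.u d.a d.b)
    (h1 : Cj ρ e f) (h2 : Cj ρ f f') (i j : Bool) (hx : x = d.el i j false false false) :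
    e * x * (f * x) * (f' * x) = e * f * f' * d.el i j i false false := by
  have c1 := h.tl_ac ac (h.cz' ac.a ac.b)
  rw [h.el_z] at c1
  have c2 := h.tl_cj q c1 h1 (h.qr_el q ..)
  have c3 := h.tl_cj q c2 h2 (h.qr_el q ..)
  have a1 := h.tl_el (h.tl_inv c2) i j false false
  have a2 := h.tl_el (h.tl_inv c3) false false i false
  calc _ = e * f * f' * (f'⁻¹ * (f⁻¹ * x * f⁻¹⁻¹ * x) * f'⁻¹⁻¹ * x) := by group
    _ = _ := by
      rw [hx, a1.eq, h.el_mul, show d.el _ _ _ _ _ = d.el false false i false false by simp, a2.eq,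
        h.el_mul]
      simp

theorem lay_core (ε : d.Eps) (q : QR d Q ρ) {T : Subgroup G} (hT : IsPGroup 2 T) (hS : d.S0 ≤ T)
    {e₀ : G} (he : e₀ ∈ Q) (heT : e₀ ∈ T) (ac : d.Ac e₀ (d.t * d.z) d.u d.a d.b) :
    ∃ i j f l, d.Lay (e₀ * d.el i j false false false) f ρ l := by
  obtain ⟨i, j, e⟩ := h.qr_prod q he ac (Cj.cj _ _) (Cj.cj _ _)
  have c : Cj ρ (d.el i j false false false) (d.el i j false false false) := h.qr_el q ..
  obtain ⟨l, L⟩ := h.qr_lay ε q hT hS (mul_mem he (q.A (h.el_A1 i j false false)))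
    (mul_mem heT (hS (h.el_S0 _ _ _ _ _))) (h.acmZ ac ..) ((Cj.cj _ _).mul c) ((Cj.cj _ _).mul c)
    (by rw [h.qr_mul q he ac (Cj.cj _ _) (Cj.cj _ _) i j rfl, e, h.el_mul, h.el_one]; simp)
  exact ⟨i, j, _, l, L⟩

theorem lay_k (ε : d.Eps) (q : QR d Q ρ) {T : Subgroup G} (hT : IsPGroup 2 T) (hS : d.S0 ≤ T)
    {e f h₀ : G} {l : Bool} (L : d.Lay e f ρ l) (he : e ∈ T) (hh : h₀ ∈ Q) (hT' : h₀ ∈ T)
    (ach : d.Ac h₀ (d.t * d.u) d.u d.a d.b) : ∃ i m μ, Cj (h₀ * d.el i false false false m) e e ∧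
      Cj ρ (h₀ * d.el i false false false m) (h₀ * d.el i false false false m) ∧
      h₀ * d.el i false false false m * (h₀ * d.el i false false false m) = bp d.u μ := by
  have c0 := h.tl_ac ach (h.cz' ach.a ach.b)
  rw [h.el_u] at c0
  obtain ⟨i, j, k, m, n⟩ := h.qr_mem q (mul_mem (inv_mem hh) ((Cj.cj _ _).mem q.n hh))
    (h.tl_mul (h.tl_inv c0) (h.tl_cj q c0 (Cj.cj _ _) (h.qr_el q ..)))
  have n1 : Cj ρ h₀ (h₀ * d.el i j k false m) := by rw [← n, mul_inv_cancel_left]; rfl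
  have n2 := n1.mul (h.qr_el q i j k m)
  rw [mul_assoc, h.el_mul] at n2
  have n3 := q.c3 h₀ hh
  rw [n1.eq, n2.eq] at n3
  have n3 := mul_eq_left.1 ((mul_assoc _ _ _).symm.trans ((n1.mul (h.qr_el q ..)).unique n3))
  rw [h.el_mul, h.el_one, h.el_eq_iff] at n3
  obtain ⟨rfl, rfl⟩ : i = false ∧ j = false := ⟨by simpa using n3.1, by simpa using n3.2.1⟩
  have p0 : Cj ρ (h₀ * d.el false false (k ^^ m) false k) (h₀ * d.el false false (k ^^ m) false k) :=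
    (n1.mul (h.qr_el q ..)).to (by rw [mul_assoc, h.el_mul]; cases k <;> cases m <;> rfl)
  have b0 := ach.b.flip.mul (h.el_b.symm ▸ h.cjE false false false true false false false (k ^^ m)
    false k)
  have p1 := (p0.tr (h.qr_b q) b0 b0).symm
  rw [inv_inv] at p1
  have p2 := p0.inv.mul p1
  rw [mul_inv_rev, mul_assoc, inv_mul_cancel_left, h.el_inv, h.el_mul] at p2
  have p3 := (h.el_inj (p2.unique (h.qr_el q ..))).2.2.1
  obtain rfl : k = m := by revert p3; cases k <;> cases m <;> simp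
  rw [Bool.xor_self] at p0
  have a0 := h.acmZ ach false false k
  have k0 : h₀ * d.el false false false false k ∈ T := mul_mem hT' (hS (h.el_S0 _ _ _ _ _))
  have key : ∀ x ∈ T, d.Ac x (d.t * d.u) d.u d.a d.b → Cj ρ x x → ∃ μ, x * x = bp d.u μ :=
    fun x hx ac p => by
      obtain ⟨i, j, m, s⟩ := h.mem_Z0.1 (h.regZ ε hT hS (mul_mem hx hx) (ac.comp
        ((ac.t.mul ac.u).to (by rw [mul_assoc, h.uu, mul_one])) ac.u ac.a ac.b))
      have s1 := p.mul p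
      have s2 := (Cj.self x).mul (Cj.self x)
      have c := h.tl_ac ac (h.cz' ac.a ac.b)
      rw [h.el_u] at c
      rw [s] at s1 s2
      have s1 := (h.el_inj (s1.unique (h.qr_el q ..))).2.2.1
      have s2 := (h.el_inj (s2.unique (h.tl_el c ..))).2.1
      refine ⟨j, ?_⟩
      rw [s, h.el_bu, h.el_eq_iff]
      revert s1 s2; cases i <;> cases j <;> cases m <;> simp
  generalize hk : h₀ * d.el false false false false k = k₀ at p0 a0 k0
  have ez := h.cz' L.ac.a L.ac.b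
  have kz := h.cz' a0.a a0.b
  have ce := h.tl_ac L.ac ez
  have ck := h.tl_ac a0 kz
  have cf : Tl d f d.a := ⟨L.ft, L.fu, L.fz, L.fa⟩
  rw [h.el_z] at ce
  rw [h.el_u] at ck
  rw [h.el_a] at cf
  have cy := h.tl_mul (h.tl_inv ce) (h.tl_mul (h.tl_mul ck ce) (h.tl_inv ck))
  obtain ⟨i, j, m, y⟩ := h.mem_Z0.1 (h.regZ ε hT hS
    (mul_mem (inv_mem he) (mul_mem (mul_mem k0 he) (inv_mem k0)))
    ⟨cy.t.to (by simp [← h.el_one]), cy.u, cy.a, 
      (a0.b.symm.comp (L.ac.b.comp a0.b)).comp L.ac.b.symm⟩)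
  have y1 : Cj k₀ e (e * d.el i j false false m) := by rw [← y, mul_inv_cancel_left]; rfl
  have y2 := y1.tr p0 L.pe (L.pe.mul (h.qr_el q ..))
  have y3 := y2.tr p0 L.pf (L.pf.mul (h.qr_el q ..))
  have y4 : e * (d.el i j false false m * (f * d.el i j (false ^^ m) false false * f⁻¹)) * e⁻¹ *
      d.el i j (false ^^ m ^^ false) false (false ^^ m) = 1 := by
    rw [← mul_inv_cancel (e * d.el i j false false m * (f * d.el i j (false ^^ m) false false)),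
      (y1.mul y2).inv.unique y3]
    group
  rw [(h.tl_el cf ..).eq, h.el_mul, Bool.xor_self false, (h.tl_el ce ..).eq, h.el_mul, h.el_one,
    h.el_eq_iff] at y4
  obtain ⟨rfl, rfl⟩ : i = false ∧ j = false := ⟨by simpa using y4.1, by simpa using y4.2.1⟩
  have te : Cj (d.el m false false false false) e (e * d.el false false false false m) := by
    have := (h.tl_el (h.tl_inv ce) m false false false).eq
    rw [Cj, ← mul_left_cancel_iff (a := e⁻¹), inv_mul_cancel_left, ← mul_assoc, ← mul_assoc,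
      ← inv_inv e, inv_inv e⁻¹, this, h.el_inv, h.el_mul]
    simp
  have r : k₀ * d.el m false false false false = h₀ * d.el m false false false k := by
    rw [← hk, mul_assoc, h.el_mul]; simp
  have p4 : Cj ρ (k₀ * d.el m false false false false) _ := p0.mul (h.qr_el q ..)
  obtain ⟨μ, hμ⟩ := key _ (mul_mem k0 (hS (h.el_S0 _ _ _ _ _))) (h.acmZ a0 m false false) p4
  refine ⟨m, k, μ, r ▸ ?_, r ▸ p4, r ▸ hμ⟩
  exact (te.comp (y1.mul (h.tl_el ck ..))).to (by rw [mul_assoc, h.el_mul]; simp [← h.el_one])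

theorem lay1' (ε : d.Eps) {T : Subgroup G} (hT : IsPGroup 2 T) (hS : d.S0 ≤ T) {e₀ : G}
    (he : e₀ ∈ T) (ac : d.Ac e₀ (d.t * d.z) d.u d.a d.b) :
    ∃ e f ρ l, d.Lay e f ρ l ∧ e₀⁻¹ * e ∈ d.Z0 := by
  obtain ⟨Q, ρ, q, hQ⟩ := h.exists_QR ε hT hS
  obtain ⟨i, j, f, l, L⟩ := h.lay_core ε q hT hS
    (hQ _ he _ (subset_closure (by simp)) ac.t ac.u (h.cz' ac.a ac.b) ac.a) he ac
  exact ⟨_, f, ρ, l, L, by rw [inv_mul_cancel_left]; exact h.el_Z0 _ _ _⟩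

theorem lay1h' (ε : d.Eps) {T : Subgroup G} (hT : IsPGroup 2 T) (hS : d.S0 ≤ T) {e₀ h₀ : G}
    (he : e₀ ∈ T) (hh : h₀ ∈ T) (ac : d.Ac e₀ (d.t * d.z) d.u d.a d.b)
    (ach : d.Ac h₀ (d.t * d.u) d.u d.a d.b) :
    ∃ e f ρ l k μ, d.Lay e f ρ l ∧ e₀⁻¹ * e ∈ d.Z0 ∧ h₀⁻¹ * k ∈ d.Z0 ∧ Cj k e e ∧ Cj k f f ∧
      Cj ρ k k ∧ k * k = bp d.u μ := by
  obtain ⟨Q, ρ, q, hQ⟩ := h.exists_QR ε hT hS
  obtain ⟨i, j, f, l, L⟩ := h.lay_core ε q hT hS
    (hQ _ he _ (subset_closure (by simp)) ac.t ac.u (h.cz' ac.a ac.b) ac.a) he ac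
  obtain ⟨i', m, μ, c1, c2, c3⟩ := h.lay_k ε q hT hS L (mul_mem he (hS (h.el_S0 _ _ _ _ _)))
    (hQ _ hh _ (subset_closure (by simp)) ach.t ach.u (h.cz' ach.a ach.b) ach.a) hh ach
  exact ⟨_, f, ρ, l, _, μ, L, by rw [inv_mul_cancel_left]; exact h.el_Z0 _ _ _,
    by rw [inv_mul_cancel_left]; exact h.el_Z0 _ _ _, c1, c1.tr c2 L.pe L.pe, c2, c3⟩

end Dat.Cfq

end Cfsg.Agent.HSE
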