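import Mathlib
import Cfsg.Agent.HSE.LayT1

/-! Two translation layers: transport, normalization, commutators. -/

set_option autoImplicit false
set_option linter.unusedSectionVars false
set_option linter.unusedVariables false

namespace Cfsg.Agent.HSE

open Cfsg Subgroup Cfsg.Agent.PLocal Cfsg.Agent.PLocal.Amb Cfsg.Agent.MacW

variable {G : Type*} [Group G] [Finite G]

theorem Dat.Lay.tr {d d' : Dat G} {e f ρ e' f' ρ' g : G} {l : Bool} (L : d.Lay e f ρ l)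
    (ht : Cj g d.t d'.t) (hu : Cj g d.u d'.u) (ha : Cj g d.a d'.a) (hb : Cj g d.b d'.b)
    (hz : Cj g d.z d'.z) (he : Cj g e e') (hf : Cj g f f') (hρ : Cj g ρ ρ') : d'.Lay e' f' ρ' l :=
  ⟨⟨L.ac.t.tr he ht (ht.mul hz), L.ac.u.tr he hu hu, L.ac.a.tr he ha ha, L.ac.b.tr he hb hb⟩,
    L.ft.tr hf ht (ht.mul ha), L.fu.tr hf hu hu, L.fz.tr hf hz hz, L.fa.tr hf ha ha,
    L.fe.tr hf he he, L.fb.tr hf hb ((he.mul (ha.bp l)).mul hb),
    (he.mul he).unique (by rw [L.ee]; exact hz.bp l), (hf.mul hf).unique (by rw [L.ff]; exact ha.bp l),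
    L.pt.tr hρ ht ht, L.pu.tr hρ hu hu, L.pz.tr hρ hz ha, L.pa.tr hρ ha (ha.mul hz),
    L.pe.tr hρ he hf, L.pf.tr hρ hf (he.mul hf).inv,
    (((hb.mul hρ).mul hb).mul hρ).unique (by rw [L.bp']; exact Cj.one g),
    by rw [← hρ.eq, orderOf_conj']; exact L.odd⟩

/-- `g` stabilizes the chain of subgroups generated by the tails of the list -/
def TriP : List G → G → Prop
  | [], _ => True
  | x :: L, g => TriP L g ∧ x⁻¹ * (g * x * g⁻¹) ∈ closure {y | y ∈ L}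

theorem tri_le (x : G) (L : List G) : closure {y | y ∈ L} ≤ closure {y | y ∈ x :: L} :=
  closure_mono fun _ => List.mem_cons_of_mem x

theorem TriP.cons {L : List G} {g x n : G} (h : TriP L g) (c : Cj g x (x * n))
    (hn : n ∈ closure {y | y ∈ L}) : TriP (x :: L) g := ⟨h, by rwa [c.eq, inv_mul_cancel_left]⟩

theorem TriP.fix {L : List G} {g x : G} (h : TriP L g) (c : Cj g x x) : TriP (x :: L) g :=
  h.cons (c.to (mul_one x).symm) (one_mem _)

theorem TriP.norm : ∀ {L : List G} {g : G}, TriP L g → g ∈ 𝐍[closure {y | y ∈ L}]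
  | [], g, _ => mem_norm_closure (by simp)
  | x :: L, g, h => mem_norm_closure fun y hy => by
    rcases List.mem_cons.1 hy with rfl | hy
    · rw [← mul_inv_cancel_left y (g * y * g⁻¹)]
      exact mul_mem (subset_closure List.mem_cons_self) (tri_le _ _ h.2)
    · exact tri_le _ _ (conj_mem_of_mem_normalizer h.1.norm (subset_closure hy))

theorem TriP.mul : ∀ {L : List G} {g k : G}, TriP L g → TriP L k → TriP L (g * k)
  | [], _, _, _, _ => trivial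
  | x :: L, g, k, h, h' => ⟨h.1.mul h'.1, by
    have := mul_mem h.2 (conj_mem_of_mem_normalizer h.1.norm h'.2)
    convert this using 1; group⟩

theorem TriP.inv : ∀ {L : List G} {g : G}, TriP L g → TriP L g⁻¹
  | [], _, _ => trivial
  | x :: L, g, h => ⟨h.1.inv, by
    have := inv_conj_mem_of_mem_normalizer h.1.norm (inv_mem h.2)
    convert this using 1; group⟩

theorem TriP.of_cent : ∀ {L : List G} {g : G}, g ∈ 𝐂[closure {y | y ∈ L}] → TriP L g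
  | [], _, _ => trivial
  | x :: L, g, h => (TriP.of_cent (centralizer_anti (tri_le x L) h)).fix
    (Cj.of_cent h (subset_closure List.mem_cons_self))

theorem TriP.odd : ∀ {L : List G} {g : G}, IsPGroup 2 (closure {y | y ∈ L}) → Odd (orderOf g) →
    TriP L g → g ∈ 𝐂[closure {y | y ∈ L}]
  | [], g, _, _, _ => mem_cent_closure (by simp)
  | x :: L, g, hP, ho, h => mem_cent_closure fun y hy => by
    have c := h.1.odd (hP.to_le (tri_le x L)) ho
    rcases List.mem_cons.1 hy with rfl | hy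
    · obtain ⟨k, hk⟩ := isPGroup_iff.1 hP _ (tri_le _ _ h.2)
      exact odd_step ho (by rw [mul_inv_cancel_left]; rfl) (Cj.of_cent c h.2) hk
    · exact Cj.of_cent c (subset_closure hy)

theorem tri_join {L : List G} (hP : IsPGroup 2 (closure {y | y ∈ L})) {x y : G} (hx : TriP L x)
    (hy : TriP L y) (x2 : ∃ k, x ^ 2 ^ k = 1) (y2 : ∃ k, y ^ 2 ^ k = 1) :
    ∃ o ∈ 𝐂[closure {y | y ∈ L}], ∃ T : Subgroup G, IsPGroup 2 T ∧ closure {y | y ∈ L} ≤ T ∧
      y ∈ T ∧ o * x * o⁻¹ ∈ T := by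
  let M : Subgroup G := ⟨⟨⟨{g | TriP L g}, TriP.mul⟩, TriP.of_cent (one_mem _)⟩, TriP.inv⟩
  obtain ⟨T, hT, h1⟩ := exists_isSyl_ge (isPGroup_zpowers y2) (zpowers_le.2 hy : _ ≤ M)
  obtain ⟨o, ho, h2⟩ := two_join (M := M) (fun _ => TriP.of_cent) (fun _ => TriP.norm)
    (fun g hg ho => TriP.odd hP ho hg) hT (isPGroup_zpowers x2) (zpowers_le.2 hx)
  exact ⟨o, ho, T ⊔ _, isPGroup_sup hT.pgrp hP (hT.le.trans fun _ => TriP.norm), le_sup_right,
    mem_sup_left (h1 (mem_zpowers y)), mem_sup_left (h2 (conj_mem_cj o (mem_zpowers x)))⟩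

/-- the flag in `S₀ ⟨e, k⟩` -/
def Dat.fl (d : Dat G) (e k : G) : List G := [d.t, d.a, d.a * d.b, k, e, d.u, d.z]

namespace Dat.Cfq

variable {d : Dat G} (h : d.Cfq) {e f ρ e₂ f₂ ρ₂ k w : G} {l l₂ β : Bool}
include h

theorem sw_el (i j m : Bool) : d.sw.el i j false false m = d.el i j false false (m ^^ j) := by
  change bp d.t i * bp (d.u * d.z) j * 1 * 1 * bp d.z m = _
  simp only [h.el_t, h.el_u, h.el_z, h.bp_el, mul_one, h.el_mul]
  simp [Bool.xor_comm]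

theorem lay_ez (L : d.Lay e f ρ l) : Tl d e (d.el false false false false true) :=
  h.el_z ▸ h.tl_ac L.ac (h.cz' L.ac.a L.ac.b)

theorem lay_sw2 (L : d.Lay e f ρ l) : d.sw.sw.Lay e f ρ l :=
  L.tr (Cj.one' _) ((Cj.one' _).to h.u_sw) (Cj.one' _) (Cj.one' _) (Cj.one' _) (Cj.one' _)
    (Cj.one' _) (Cj.one' _)

theorem mulz (L : d.Lay e f ρ l) : d.Lay (e * d.z) (f * d.a) ρ l := by
  have ez := h.cz' L.ac.a L.ac.b
  have at' : Cj d.a d.t d.t := .of_comm h.at'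
  have au : Cj d.a d.u d.u := .of_comm h.au
  have az : Cj d.a d.z d.z := .of_comm h.za.symm
  have ab : Cj d.a d.b (d.b * d.z) := by
    rw [Cj, h.ab, mul_assoc d.b, ← h.za]; group
  refine { L with
    ac := h.el_z ▸ h.acmZ L.ac false false true
    ft := at'.comp L.ft
    fu := au.comp L.fu
    fz := az.comp L.fz
    fa := (Cj.self _).comp L.fa
    fe := (L.ac.a.flip.mul az).comp (L.fe.mul L.fz)
    fb := (ab.comp (L.fb.mul L.fz)).to ?_
    ee := ?_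
    ff := ?_
    pe := L.pe.mul L.pz
    pf := (L.pf.mul L.pa).to ?_ }
  · rw [mul_assoc, ← h.zb, ← mul_assoc, mul_assoc e, (az.flip.bp l).eq_mul.symm, ← mul_assoc]
  · rw [mul_assoc, ← mul_assoc d.z, ← ez.comm, mul_assoc e, h.zz, mul_one, L.ee]
  · rw [mul_assoc, ← mul_assoc d.a, ← L.fa.comm, mul_assoc f, h.aa, mul_one, L.ff]
  · rw [mul_assoc e, ← mul_assoc d.z, ← L.fz.comm, mul_assoc f, ← mul_assoc e, mul_inv_rev (e * f),
      mul_inv_rev d.z, inv_eq_of_mul_eq_one_left h.aa, inv_eq_of_mul_eq_one_left h.zz,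
      ((L.fa.mul L.fz).comp (L.ac.a.mul ez)).symm.comm]

theorem shift (L : ({ d with t := d.t * d.u * d.z } : Dat G).Lay e f ρ l) :
    d.Lay e f (e⁻¹ * (ρ * e)) l := by
  have ez : Cj e d.z d.z := h.cz' L.ac.a L.ac.b
  have e1 : d.t * d.u * d.z * d.z * d.u = d.t := by
    rw [mul_assoc (d.t * d.u) d.z d.z, h.zz, mul_one, mul_assoc, h.uu, mul_one]
  have et : Cj e d.t (d.t * d.z) := by
    have := (L.ac.t.mul ez).mul L.ac.u
    change Cj e (d.t * d.u * d.z * d.z * d.u) (d.t * d.u * d.z * d.z * d.z * d.u) at this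
    rwa [e1, mul_assoc (d.t * d.u * d.z * d.z) d.z d.u, h.zu, ← mul_assoc, e1] at this
  have ft : Cj f d.t (d.t * d.a) := by
    have := (L.ft.mul L.fz).mul L.fu
    change Cj f (d.t * d.u * d.z * d.z * d.u) (d.t * d.u * d.z * d.a * d.z * d.u) at this
    rwa [e1, mul_assoc (d.t * d.u * d.z) d.a, ← h.za, ← mul_assoc, mul_assoc _ d.a d.u, h.au,
      ← mul_assoc, e1] at this
  have pt : Cj ρ (d.t * d.z) (d.t * d.z) := by
    have := L.pt.mul L.pu
    change Cj ρ (d.t * d.u * d.z * d.u) (d.t * d.u * d.z * d.u) at this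
    rwa [mul_assoc (d.t * d.u) d.z, h.zu, ← mul_assoc, mul_assoc d.t d.u d.u, h.uu, mul_one] at this
  have c : Cj e⁻¹ ρ (e⁻¹ * (ρ * e)) := by rw [Cj]; group
  exact ⟨⟨et, L.ac.u, L.ac.a, L.ac.b⟩, ft, L.fu, L.fz, L.fa, L.fe, L.fb, L.ee, L.ff,
    (et.comp pt).comp et.symm, L.pu.tr c L.ac.u.symm L.ac.u.symm, L.pz.tr c ez.symm L.ac.a.symm,
    L.pa.tr c L.ac.a.symm (L.ac.a.mul ez).symm, L.pe.tr c (Cj.self e).symm L.fe.flip.symm,
    L.pf.tr c L.fe.flip.symm ((Cj.self e).mul L.fe.flip).symm.inv,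
    (((L.ac.b.symm.mul c).mul L.ac.b.symm).mul c).unique (by rw [L.bp']; exact Cj.one _),
    by rw [← c.eq, orderOf_conj']; exact L.odd⟩

theorem no_t (nt : d.NT) (L : d.Lay e f ρ false) (L2 : d.sw.Lay e₂ f₂ ρ₂ true) {j m : Bool}
    (he : e₂ = e * d.el true j false false m) : False := by
  have z2 : Cj f₂ d.z d.z := L2.fz
  have u2 : Cj f₂ d.u d.u := by have := L2.fu.mul z2; rwa [← show _ = d.sw.u * _ from h.u_sw] at this
  have t1 := (d.T_t.cj (L2.ft : Cj f₂ d.t (d.t * d.b))).cj (L.ft.mul L.fb)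
  have b2 : Cj f₂ d.a (e₂ * d.b * d.a) := L2.fb
  have c := b2.mul ((u2.bp j).mul (z2.bp m))
  have e1 : d.t * d.a * e = e * d.el true false true false true := by
    have := (h.tl_el (h.tl_inv (h.lay_ez L)) true false true false).eq_mul
    rw [← mul_left_cancel_iff (a := e⁻¹), inv_mul_cancel_left, ← mul_assoc, h.el_t, h.el_a, h.el_mul]
    exact (congrArg (· * e) this).trans (inv_mul_cancel_right _ _)
  have t2 : d.T (d.el false j true false m) := by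
    have := T.cj' (by
      convert t1 using 1
      rw [he, bp_false, mul_one, ← mul_assoc, ← mul_assoc (d.t * d.a), e1, h.el_bu, h.el_bz, h.el_a,
        h.el_b]
      simp only [mul_assoc, h.el_mul]
      simp) c
    rw [h.el_bu, h.el_bz, h.el_a, h.el_mul, h.el_mul] at this
    simpa using this
  have r := h.cjR h.r1t h.r1u h.r1z h.r1a false j
  have t3 : d.T (d.el false j false false true) := by
    cases m
    exacts [t2.cj' (r false true), (t2.cj' (r true false)).cj' (r false true)]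
  cases j
  · exact nt.z (h.el_z ▸ t3)
  · exact nt.uz (by rw [h.el_u, h.el_z, h.el_mul]; exact t3)

theorem side2 (nt : d.NT) (L : d.Lay e f ρ l) (L2 : d.sw.Lay e₂ f₂ ρ₂ l₂) (hz : e⁻¹ * e₂ ∈ d.Z0) :
    l₂ = l ∧ ∃ β κ, e₂ = e * d.el false β false false κ := by
  obtain ⟨i, j, m, c⟩ := h.mem_Z0.1 hz
  rw [inv_mul_eq_iff_eq_mul] at c
  have e1 : e₂ * e₂ = e * e * d.el false false false false i := by
    calc _ = e * e * (e⁻¹ * d.el i j false false m * e⁻¹⁻¹ * d.el i j false false m) := by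
          rw [c]; group
      _ = _ := by rw [(h.tl_el (h.tl_inv (h.lay_ez L)) ..).eq, h.el_mul]; cases m <;> simp
  rw [L.ee, show e₂ * e₂ = bp d.z l₂ from L2.ee, h.el_bz, h.el_bz, h.el_mul, h.el_eq_iff] at e1
  cases i
  · exact ⟨by simpa using e1, j, m, c⟩
  cases l
  · obtain rfl : l₂ = true := by simpa using e1
    exact (h.no_t nt L L2 c).elim
  · obtain rfl : l₂ = false := by simpa using e1
    refine (h.sw.no_t (h.sw_NT nt) L2 (h.lay_sw2 L) (j := j) (m := m ^^ j) ?_).elim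
    rw [c, h.sw_el, mul_assoc, h.el_mul]
    simp [← h.el_one]

theorem tri1 (L : d.Lay e f ρ false) (hk : Cj f k k) : TriP (d.fl e k) f :=
  ((((((TriP.fix (L := []) trivial L.fz).fix L.fu).fix L.fe).fix hk).cons (n := e) ((L.fa.mul L.fb).to (by
    rw [bp_false, mul_one, L.ac.b.comm, mul_assoc])) (subset_closure (by simp))).fix L.fa).cons L.ft
    (subset_closure (by simp))

theorem sw_fu (L2 : d.sw.Lay e₂ f₂ ρ₂ l) : Cj f₂ d.u d.u := by
  have := L2.fu.mul L2.fz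
  rwa [← show _ = d.sw.u * d.sw.z from h.u_sw] at this

theorem sw_fe (L2 : d.sw.Lay (e * bp d.u β) f₂ ρ₂ l) : Cj f₂ e e := by
  simpa using L2.fe.mul ((h.sw_fu L2).bp β).inv

theorem b_mem {P : Subgroup G} (h1 : d.a ∈ P) (h2 : d.a * d.b ∈ P) : d.b ∈ P :=
  (P.mul_mem_cancel_left h1).1 h2

theorem tri2 (L2 : d.sw.Lay (e * bp d.u β) f₂ ρ₂ false) (hk : Cj f₂ k k) : TriP (d.fl e k) f₂ := by
  have a : Cj f₂ d.a (e * bp d.u β * d.a) := L2.fb.to (by rw [bp_false, mul_one]; rfl)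
  have ca : e * bp d.u β * d.a = d.a * _ := L2.ac.b.comm
  have cb : e * bp d.u β * d.b = d.b * _ := L2.ac.a.comm
  have fa : Cj f₂ d.b d.b := L2.fa
  have fz : Cj f₂ d.z d.z := L2.fz
  have ft : Cj f₂ d.t (d.t * d.b) := L2.ft
  exact ((((((TriP.fix (L := []) trivial fz).fix (h.sw_fu L2)).fix (h.sw_fe L2)).fix hk).cons
    (n := e * bp d.u β) ((a.mul fa).to (by rw [ca, mul_assoc, cb, mul_assoc]))
    (mul_mem (subset_closure (by simp)) (bp_mem (subset_closure (by simp)) _))).cons (a.to ca)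
    (mul_mem (subset_closure (by simp)) (bp_mem (subset_closure (by simp)) _))).cons ft
    (h.b_mem (subset_closure (by simp)) (subset_closure (by simp)))

theorem tri3 {i : Bool} (c : d.Ac w (d.t * bp d.u i) (d.u * d.z) d.b d.a) (he : Cj w e (e * bp d.u β))
    {n : G} (hk : Cj w k (k * n)) (hn : n ∈ closure {y | y ∈ [e, d.u, d.z]}) : TriP (d.fl e k) w :=
  ((((((TriP.fix (L := []) trivial (h.cz_sw c.a c.b)).cons c.u (subset_closure (by simp))).cons he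
    (bp_mem (subset_closure (by simp)) _)).cons hk hn).cons ((c.a.mul c.b).to h.ba)
    (subset_closure (by simp))).cons (n := d.a * d.b) (c.a.to (by rw [← mul_assoc, h.aa, one_mul]))
    (subset_closure (by simp))).cons c.t (bp_mem (subset_closure (by simp)) _)

theorem adjust (L : d.Lay e f ρ l) (hkf : Cj k f f) (hρ : Cj ρ k k) {T : Subgroup G}
    (hT : IsPGroup 2 T) (hS : d.S0 ≤ T) (he : e ∈ T) (hk : k ∈ T) {y : G} (y2 : ∃ n, y ^ 2 ^ n = 1)
    (hy : l = false → TriP (d.fl e k) y) : ∃ f' ρ', d.Lay e f' ρ' l ∧ Cj k f' f' ∧ Cj ρ' k k ∧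
      (l = false → ∃ T' : Subgroup G, IsPGroup 2 T' ∧ d.S0 ≤ T' ∧ e ∈ T' ∧ k ∈ T' ∧ y ∈ T' ∧
        f' ∈ T') := by
  cases l
  swap
  · exact ⟨f, ρ, L, hkf, hρ, fun c => by simp at c⟩
  have le : closure {y | y ∈ d.fl e k} ≤ T := (closure_le _).2 (by
    simp [fl, Set.subset_def, he, hk, hS d.t_S0, hS d.u_S0, hS d.a_S0, hS h.z_S0,
      hS (mul_mem d.a_S0 d.b_S0)])
  obtain ⟨o, ho, T', h1, h2, h3, h4⟩ := tri_join (hT.to_le le) (h.tri1 L hkf.flip) (hy rfl)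
    ⟨1, by rw [pow_one, sq, L.ff, bp_false]⟩ y2
  have m : ∀ x ∈ d.fl e k, x ∈ closure {y | y ∈ d.fl e k} := fun x hx => subset_closure hx
  have b := h.b_mem (m _ (by simp [fl])) (m _ (by simp [fl]))
  have c : ∀ x ∈ d.fl e k, Cj o x x := fun x hx => Cj.of_cent ho (m x hx)
  have ck := c k (by simp [fl])
  refine ⟨_, _, L.tr (c _ (by simp [fl])) (c _ (by simp [fl])) (c _ (by simp [fl])) (Cj.of_cent ho b)
    (c _ (by simp [fl])) (c _ (by simp [fl])) (Cj.cj _ _) (Cj.cj _ _),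
    hkf.tr ck (Cj.cj _ _) (Cj.cj _ _), hρ.tr (Cj.cj _ _) ck ck, fun _ => ⟨T', h1, (closure_le _).2 ?_,
      h2 (m _ (by simp [fl])), h2 (m _ (by simp [fl])), h3, h4⟩⟩
  rintro x (rfl | rfl | rfl | rfl)
  exacts [h2 (m _ (by simp [fl])), h2 (m _ (by simp [fl])), h2 (m _ (by simp [fl])), h2 b]

theorem comm_ac (L : d.Lay e f ρ false) (L2 : d.sw.Lay (e * bp d.u β) f₂ ρ₂ false) :
    d.Ac (f * f₂ * f⁻¹ * f₂⁻¹) (d.t * (d.z * bp d.u β)) d.u d.a d.b ∧
      Cj (f * f₂ * f⁻¹ * f₂⁻¹) e e := by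
  rw [inv_eq_of_mul_eq_one_left L.ff, inv_eq_of_mul_eq_one_left L2.ff, mul_assoc, mul_assoc]
  have a2 : Cj f₂ d.a (e * bp d.u β * d.a) := L2.fb.to (by rw [bp_false, mul_one]; rfl)
  have b2 : Cj f₂ d.b d.b := L2.fa
  have t2 : Cj f₂ d.t (d.t * d.b) := L2.ft
  have u2 := h.sw_fu L2
  have e2 := h.sw_fe L2
  have b1 : Cj f d.b (e * d.b) := L.fb.to (by rw [bp_false, mul_one])
  have ee : e * e = 1 := L.ee
  have e1 := L.fe.mul (L.fu.bp β)
  have ee2 : e * bp d.u β * (e * bp d.u β) = 1 := L2.ee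
  refine ⟨⟨(((t2.comp (L.ft.mul b1)).comp ((t2.mul a2).mul (e2.mul b2))).comp
    (((L.ft.mul b1).mul (e1.mul L.fa)).mul (L.fe.mul b1))).to ?_,
    ((u2.comp L.fu).comp u2).comp L.fu,
    ((a2.comp (e1.mul L.fa)).comp ((L2.fe.mul a2).to ?_)).comp L.fa,
    (((b2.comp b1).comp (e2.mul b2)).comp (L.fe.mul b1)).to ?_⟩, ((e2.comp L.fe).comp e2).comp L.fe⟩
  · have : e * d.b * (e * bp d.u β * d.a) = d.b * (bp d.u β * d.a) := by
      rw [L.ac.b.comm, mul_assoc d.b, mul_assoc e, ← mul_assoc e e, ee, one_mul]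
    rw [← mul_assoc e e, ee, one_mul, mul_assoc (d.t * d.a), this, h.el_t, h.el_a, h.el_b, h.el_z,
      h.el_bu]
    simp [h.el_mul]
  · rw [← mul_assoc, ee2, one_mul]
  · rw [← mul_assoc, ee, one_mul]

theorem comm_eq (ε : d.Eps) (L : d.Lay e f ρ false) (L2 : d.sw.Lay (e * bp d.u β) f₂ ρ₂ false)
    {T : Subgroup G} (hT : IsPGroup 2 T) (hS : d.S0 ≤ T) (h1 : f ∈ T) (h2 : f₂ ∈ T) {p : G}
    (hp : p ∈ T) (c : d.Ac p (d.t * (d.z * bp d.u β)) d.u d.a d.b) (ce : Cj p e e) :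
    ∃ i j, f * f₂ * f⁻¹ * f₂⁻¹ = p * bp d.u i * bp d.z j := by
  obtain ⟨c1, c2⟩ := h.comm_ac L L2
  obtain ⟨i, j, m, y⟩ := h.mem_Z0.1 (h.regZ ε hT hS (mul_mem (inv_mem hp)
    (mul_mem (mul_mem (mul_mem h1 h2) (inv_mem h1)) (inv_mem h2)))
    (c1.comp c.t.symm c.u.symm c.a.symm c.b.symm))
  have := (c2.comp ce.symm).flip
  rw [y] at this
  have := (h.el_inj (this.unique (h.tl_el (h.lay_ez L) ..))).2.2.2.2
  obtain rfl : i = false := by revert this; cases i <;> cases m <;> simp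
  exact ⟨j, m, by rw [mul_assoc p, h.el_bu, h.el_bz, h.el_mul, ← inv_mul_eq_iff_eq_mul, y]; simp⟩

theorem t_e (L : d.Lay e f ρ l) (i : Bool) : Cj (bp d.t i) e (e * bp d.z i) := by
  have := (h.tl_el (h.tl_inv (h.lay_ez L)) i false false false).eq
  rw [Cj, ← mul_left_cancel_iff (a := e⁻¹), inv_mul_cancel_left, ← mul_assoc, ← mul_assoc,
    ← inv_inv e, inv_inv e⁻¹, h.el_bt, this, h.el_inv, h.el_mul, h.el_bz]
  simp

theorem e2_ac (c : d.E2 w) : d.Ac w d.t (d.u * d.z) d.b d.a := ⟨h.wt c.mem, c.u, c.a, c.b⟩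

theorem e2_t (c : d.E2 w) (i : Bool) : d.E2 (w * bp d.t i) := by
  cases i
  · simpa using c
  have a := h.acmZ (h.e2_ac c) true false false
  rw [← h.el_t] at a
  refine ⟨mul_mem c.mem (h.le d.t_S0), fun s hs => ?_, a.a, a.b, a.u, ?_⟩
  · rw [bp_true, mul_inv_rev, ← mul_assoc]
    exact (c.cov _ (mul_mem hs (inv_mem (h.le d.t_S0)))).imp_left
      (d.S0.mul_mem_cancel_right (inv_mem d.t_S0)).1
  · rw [bp_true, mul_assoc, ← mul_assoc d.t, ← (h.wt c.mem).comm, mul_assoc w, h.tt, mul_one]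
    exact c.ww

theorem lay_sw (L : d.Lay e f ρ l) (c : d.Ac w d.t (d.u * d.z) d.b d.a) (he : Cj w e e₂) :
    d.sw.Lay e₂ (w * f * w⁻¹) (w * ρ * w⁻¹) l :=
  L.tr c.t c.u c.a c.b (h.cz_sw c.a c.b) he (Cj.cj _ _) (Cj.cj _ _)

theorem sw_ac {g t' : G} (c : d.sw.Ac g t' (d.u * d.z) d.b d.a) : d.Ac g t' d.u d.a d.b := by
  have := c.u.mul (h.cz' c.b c.a)
  rw [← show _ = d.sw.u * d.z from h.u_sw, ← h.u_sw] at this
  exact ⟨c.t, this, c.b, c.a⟩

theorem ac_sw {g t' : G} (c : d.Ac g t' d.u d.a d.b) : d.sw.Ac g t' (d.u * d.z) d.b d.a :=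
  ⟨c.t, c.u.mul (h.cz' c.a c.b), c.b, c.a⟩

theorem side2' (ε : d.Eps) (nt : d.NT) (L : d.Lay e f ρ l) (L2 : d.sw.Lay e₂ f₂ ρ₂ l₂)
    {T : Subgroup G} (hT : IsPGroup 2 T) (hS : d.S0 ≤ T) (he : e ∈ T) (he' : e₂ ∈ T) :
    ∃ β κ, e₂ = e * bp d.u β * bp d.z κ := by
  obtain ⟨-, β, κ, c⟩ := h.side2 nt L L2 (h.regZ ε hT hS (mul_mem (inv_mem he) he')
    ((h.sw_ac L2.ac).comp L.ac.t.symm L.ac.u.symm L.ac.a.symm L.ac.b.symm))
  exact ⟨β, κ, by rw [c, mul_assoc, h.el_bu, h.el_bz, h.el_mul]; simp⟩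

theorem bz_bz (x : G) (i : Bool) : x * bp d.z i * bp d.z i = x := by
  cases i <;> simp [mul_assoc, h.zz]

theorem norm_w (nt : d.NT) (c : d.E2 w) (L : d.Lay e f ρ l) {T : Subgroup G} (hT : IsPGroup 2 T)
    (hS : d.S ≤ T) (he : e ∈ T) :
    ∃ w β, d.E2 w ∧ Cj w e (e * bp d.u β) ∧ w * w = bp d.t β := by
  obtain ⟨β, κ, e1⟩ := h.side2' (.inr ⟨w, c.to'⟩) nt L (h.lay_sw L (h.e2_ac c) (Cj.cj _ _)) hT
    (h.le.trans hS) he (mul_mem (mul_mem (hS c.mem) he) (inv_mem (hS c.mem)))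
  have c' := h.e2_t c κ
  have e2 : Cj (w * bp d.t κ) e (e * bp d.u β) :=
    ((h.t_e L κ).comp (Cj.mul e1 ((h.cz_sw c.a c.b).bp κ))).to (h.bz_bz ..)
  refine ⟨_, β, c', e2, ?_⟩
  obtain ⟨i, hi⟩ : ∃ i, w * bp d.t κ * (w * bp d.t κ) = bp d.t i :=
    c'.ww.elim (fun e => ⟨false, e⟩) fun e => ⟨true, e⟩
  have := e2.comp (e2.mul (c'.u.bp β))
  rw [hi] at this
  have := this.unique (h.t_e L i)
  rw [mul_assoc, mul_left_cancel_iff, h.el_bu, h.el_bz, h.el_u, h.el_z, h.el_mul, h.bp_el, h.el_mul,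
    h.el_eq_iff] at this
  rw [hi, show i = β by simpa using this.2.2.2.2.symm]

theorem S_norm (c : d.E1 ∨ ∃ w, d.E2 w) : d.S ≤ 𝐍[d.S0] ⊓ 𝐍[d.U] := by
  have l : d.S0 ≤ 𝐍[d.S0] ⊓ 𝐍[d.U] := le_inf le_normalizer fun x hx =>
    centralizer_le_normalizer' _ fun y hy => by
      obtain ⟨i, j, k, l, m, rfl⟩ := h.mem_S0.1 hx
      obtain ⟨j', m', rfl⟩ := h.mem_U.1 hy
      simp [h.el_mul, Bool.xor_comm]
  rcases c with c | ⟨w, c⟩
  · exact c.le.trans l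
  have u : d.u ∈ d.U := subset_closure (by simp)
  have z : d.z ∈ d.U := subset_closure (by simp)
  have : w ∈ 𝐍[d.S0] ⊓ 𝐍[d.U] := ⟨(h.e2_ac c).norm d.t_S0 (mul_mem d.u_S0 h.z_S0) d.b_S0 d.a_S0,
    mem_norm_closure (by
      rintro x (rfl | rfl)
      exacts [c.u.eq.symm ▸ mul_mem u z, (h.cz_sw c.a c.b).eq.symm ▸ z])⟩
  exact fun s hs => (c.cov s hs).elim (l ·) fun k =>
    (Subgroup.mul_mem_cancel_right _ (inv_mem this)).1 (l k)

/-- a `2`-group over `S` realizing all the actions -/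
theorem lift_T (c : d.E1 ∨ ∃ w, d.E2 w) : ∃ T : Subgroup G, IsPGroup 2 T ∧ d.S ≤ T ∧
    ∀ {g t' u' a' b'}, d.Ac g t' u' a' b' → t' ∈ d.S0 → u' ∈ d.U → a' ∈ d.S0 → b' ∈ d.S0 →
      Cj g d.z d.z → ∃ s ∈ T, d.Ac s t' u' a' b' := by
  obtain ⟨T, h1, h2, -, h3⟩ := h.lift_U (h.S_norm c)
  refine ⟨T, h1, h2, fun {g t' u' a' b'} ac ht hu ha hb hz => ?_⟩
  have l : d.U ≤ d.S0 := (closure_le _).2 (by rintro x (rfl | rfl); exacts [d.u_S0, h.z_S0])
  obtain ⟨s, hs, e⟩ := h3 g ⟨ac.norm ht (l hu) ha hb, mem_norm_closure (by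
    rintro x (rfl | rfl)
    exacts [ac.u.eq.symm ▸ hu, hz.eq.symm ▸ subset_closure (by simp)])⟩
  exact ⟨s, hs, ac.of_cent e⟩

end Dat.Cfq

end Cfsg.Agent.HSE
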