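import Mathlib
import Cfsg.Agent.HSE.Basic
import Cfsg.Agent.HSE.LayT2

/-! Translation layers over `A₁`, `A₂` (families `N2` and (I, I)): normal forms. -/

set_option autoImplicit false
set_option linter.unusedSectionVars false
set_option linter.unusedVariables false

namespace Cfsg.Agent.HSE

open Cfsg Subgroup Cfsg.Agent.PLocal Cfsg.Agent.PLocal.Amb Cfsg.Agent.MacW

variable {G : Type*} [Group G] [Finite G]

namespace Dat.Cfq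

variable {d : Dat G} (h : d.Cfq)
include h

section aux

variable {e f ρ e₂ f₂ ρ₂ k g : G} {l β μ : Bool}

theorem lt_Z0 {T : Subgroup G} (hS : d.S0 ≤ T) {x y : G} (hx : x ∈ T) (c : x⁻¹ * y ∈ d.Z0) : y ∈ T := by
  obtain ⟨i, j, m, c⟩ := h.mem_Z0.1 c
  rw [inv_mul_eq_iff_eq_mul.1 c]
  exact mul_mem hx (hS (h.el_S0 _ _ _ _ _))

theorem lt_ac {x y t' u' a' b' : G} (ac : d.Ac x t' u' a' b') (c : x⁻¹ * y ∈ d.Z0) :
    d.Ac y t' u' a' b' := by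
  obtain ⟨i, j, m, c⟩ := h.mem_Z0.1 c
  rw [inv_mul_eq_iff_eq_mul.1 c]
  exact h.acmZ ac i j m

theorem lt_u : d.u ∈ d.U := subset_closure (by simp)

theorem mulz' {κ : Bool} (L2 : d.sw.Lay (e₂ * bp d.z κ) f₂ ρ₂ l) :
    d.sw.Lay e₂ (f₂ * bp d.b κ) ρ₂ l := by
  cases κ
  · simpa using L2
  · have : d.sw.Lay (e₂ * bp d.z true * bp d.z true) (f₂ * bp d.b true) ρ₂ l := h.sw.mulz L2
    rwa [h.bz_bz] at this

theorem lay_two (L : d.Lay e f ρ l) : ∃ n, f ^ 2 ^ n = 1 :=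
  ⟨2, by rw [show 2 ^ 2 = 2 * 2 from rfl, pow_mul, sq, sq, L.ff]; cases l <;> simp [h.aa]⟩

theorem finN (ε : d.Eps) (L : d.Lay e f ρ false) (L2 : d.sw.Lay (e * bp d.u β) f₂ ρ₂ false)
    {T : Subgroup G} (hT : IsPGroup 2 T) (hS : d.S0 ≤ T) (he : e ∈ T) (h1 : f ∈ T) (h2 : f₂ ∈ T)
    (hβ : ∀ x, ¬ d.Ac x (d.t * d.u * d.z) d.u d.a d.b) :
    β = false ∧ ∃ k j, f * f₂ * f⁻¹ * f₂⁻¹ = e * bp d.u k * bp d.z j := by
  cases β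
  · exact ⟨rfl, h.comm_eq ε L L2 hT hS h1 h2 he (by simpa using L.ac) (Cj.self e)⟩
  · have := (h.comm_ac L L2).1
    rw [bp_true, h.zu, ← mul_assoc] at this
    exact (hβ _ this).elim

theorem no_sw (e1 : d.E1) (c : d.Ac g d.t (d.u * d.z) d.b d.a) : False := by
  refine h.noswap e1 c.t ?_
  have m : ∀ x ∈ ({d.t, d.u, d.z, d.b} : Set G), x ∈ d.A2 := fun x hx => subset_closure hx
  refine map_le_iff_le_comap.2 ((closure_le _).2 ?_)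
  rintro x (rfl | rfl | rfl | rfl)
  exacts [rg_cm c.t (m _ (by simp)), rg_cm c.u (mul_mem (m _ (by simp)) (m _ (by simp))),
    rg_cm (h.cz_sw c.a c.b) (m _ (by simp)), rg_cm c.a (m _ (by simp))]

theorem lay_g (L : d.Lay e f ρ l) (c : d.Ac g (d.t * d.u) (d.u * d.z) d.b d.a) (he : Cj g e e₂) :
    ∃ ρ₂, d.sw.Lay e₂ (g * f * g⁻¹) ρ₂ l :=
  ⟨_, h.sw.shift (L.tr (d' := { d.sw with t := d.sw.t * d.sw.u * d.sw.z })
    (c.t.to (by change _ = d.t * (d.u * d.z) * d.z; rw [mul_assoc, ← h.u_sw])) c.u c.a c.b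
    (h.cz_sw c.a c.b) he (Cj.cj _ _) (Cj.cj g ρ))⟩

theorem gg_ac (c : d.Ac g (d.t * d.u) (d.u * d.z) d.b d.a) : d.Ac (g * g) (d.t * d.z) d.u d.a d.b :=
  c.comp ((c.t.mul c.u).to (by rw [mul_assoc, ← mul_assoc d.u, h.uu, one_mul]))
    ((c.u.mul (h.cz_sw c.a c.b)).to h.u_sw.symm) c.b c.a

theorem norm_g (ε : d.Eps) (nt : d.NT) (c : d.Ac g (d.t * d.u) (d.u * d.z) d.b d.a)
    (L : d.Lay e f ρ l) {T : Subgroup G} (hT : IsPGroup 2 T) (hS : d.S0 ≤ T) (he : e ∈ T)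
    (hg : g ∈ T) : ∃ g ∈ T, ∃ β, d.Ac g (d.t * d.u) (d.u * d.z) d.b d.a ∧ Cj g e (e * bp d.u β) ∧
      g * g = e * bp d.t β := by
  obtain ⟨ρ₂, L2⟩ := h.lay_g L c (Cj.cj _ _)
  obtain ⟨β, κ, e1⟩ := h.side2' ε nt L L2 hT hS he (mul_mem (mul_mem hg he) (inv_mem hg))
  have e2 : Cj (g * bp d.t κ) e (e * bp d.u β) :=
    ((h.t_e L κ).comp (Cj.mul e1 ((h.cz_sw c.a c.b).bp κ))).to (h.bz_bz ..)
  have c' := h.acmZ c κ false false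
  rw [← h.el_bt] at c'
  have hg' := mul_mem hg (bp_mem (hS d.t_S0) κ)
  generalize g * bp d.t κ = g at e2 c' hg'
  obtain ⟨i, j, m, y⟩ := h.mem_Z0.1 (h.regZ ε hT hS (mul_mem (inv_mem he) (mul_mem hg' hg'))
    ((h.gg_ac c').comp L.ac.t.symm L.ac.u.symm L.ac.a.symm L.ac.b.symm))
  rw [inv_mul_eq_iff_eq_mul] at y
  have := (Cj.self g).mul (Cj.self g)
  rw [y] at this
  have := this.unique (e2.mul (h.cjZ c'.t c'.u (h.cz_sw c'.a c'.b) i j m))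
  rw [mul_assoc, mul_left_cancel_iff, h.el_t, h.el_u, h.el_z] at this
  simp only [h.el_mul, h.bp_el, h.el_eq_iff] at this
  obtain ⟨rfl, rfl⟩ : i = β ∧ j = false := by
    revert this; cases i <;> cases j <;> cases m <;> cases β <;> simp
  have c2 := h.acmZ c' false m false
  rw [← h.el_bu] at c2
  refine ⟨_, mul_mem hg' (bp_mem (hS d.u_S0) m), _, c2, (L.ac.u.bp m).flip.comp e2, ?_⟩
  calc _ = g * bp d.u m * g⁻¹ * (g * g) * bp d.u m := by group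
    _ = e * (bp (d.u * d.z) m * d.el i false false false m * bp d.u m) := by
      rw [(c'.u.bp m).eq, y, ← mul_assoc, ← ((L.ac.u.mul (h.cz' L.ac.a L.ac.b)).bp m).comm]
      simp only [mul_assoc]
    _ = _ := by rw [h.el_t, h.el_u, h.el_z]; simp [h.el_mul, h.bp_el]

theorem side_k (L : d.Lay e f ρ l) (ach : d.Ac k (d.t * d.u) d.u d.a d.b) (ke : Cj k e e)
    (kk : k * k = bp d.u μ) {k₂ : G} {μ₂ : Bool} (hz : (k * e)⁻¹ * k₂ ∈ d.Z0) (c : Cj k₂ e e)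
    (kk₂ : k₂ * k₂ = bp (d.u * d.z) μ₂) : μ = l ∧ ∃ j m, k₂ = k * e * bp d.u j * bp d.z m := by
  obtain ⟨i, j, m, y⟩ := h.mem_Z0.1 hz
  have := (c.comp ((Cj.self e).comp ke).symm).flip
  rw [y] at this
  have := (h.el_inj (this.unique (h.tl_el (h.lay_ez L) ..))).2.2.2.2
  obtain rfl : i = false := by revert this; cases i <;> cases m <;> simp
  rw [inv_mul_eq_iff_eq_mul] at y
  have e1 : d.el false j false false m = bp d.u j * bp d.z m := by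
    rw [h.el_bu, h.el_bz, h.el_mul]; simp
  refine ⟨?_, j, m, by rw [y, e1, mul_assoc (k * e)]⟩
  have c1 : Cj (k * e) (d.el false j false false m) (d.el false j false false m) := e1 ▸
    ((L.ac.u.comp ach.u).bp j).mul (((h.cz' L.ac.a L.ac.b).comp (h.cz' ach.a ach.b)).bp m)
  rw [y, mul_assoc, ← mul_assoc (d.el _ _ _ _ _), ← c1.comm,
    mul_assoc (k * e), ← mul_assoc (k * e), mul_assoc k e (k * e), ← mul_assoc e, ← ke.comm,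
    mul_assoc k e, ← mul_assoc k, kk, L.ee, h.el_u, h.el_z] at kk₂
  simp only [h.el_mul, h.bp_el, h.el_eq_iff] at kk₂
  revert kk₂; cases l <;> cases μ <;> cases μ₂ <;> simp

theorem k_mul (L : d.Lay e f ρ l) (ach : d.Ac k (d.t * d.u) d.u d.a d.b) (ke : Cj k e e)
    (kf : Cj k f f) (ρk : Cj ρ k k) (kk : k * k = bp d.u l) (p : Bool) :
    d.Ac (k * bp d.u p) (d.t * d.u) d.u d.a d.b ∧ Cj (k * bp d.u p) e e ∧ Cj (k * bp d.u p) f f ∧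
      Cj ρ (k * bp d.u p) (k * bp d.u p) ∧ k * bp d.u p * (k * bp d.u p) = bp d.u l := by
  refine ⟨h.el_bu p ▸ h.acmZ ach false p false, (L.ac.u.bp p).flip.comp ke,
    (L.fu.bp p).flip.comp kf, ρk.mul (L.pu.bp p), ?_⟩
  rw [mul_assoc, ← mul_assoc (bp d.u p), ← (ach.u.bp p).comm, mul_assoc k, ← mul_assoc k, kk]
  cases p <;> simp [h.uu]

theorem finI (ε : d.Eps) (L : d.Lay e f ρ false) (L2 : d.sw.Lay (e * bp d.u β) f₂ ρ₂ false)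
    (ach : d.Ac k (d.t * d.u) d.u d.a d.b) (ke : Cj k e e) {T : Subgroup G} (hT : IsPGroup 2 T)
    (hS : d.S0 ≤ T) (he : e ∈ T) (hk : k ∈ T) (h1 : f ∈ T) (h2 : f₂ ∈ T) :
    ∃ i j, f * f₂ * f⁻¹ * f₂⁻¹ = e * bp k β * bp d.u i * bp d.z j := by
  refine h.comm_eq ε L L2 hT hS h1 h2 (mul_mem he (bp_mem hk β)) ?_
    ((ke.flip.bp β).flip.comp (Cj.self e))
  cases β
  · simpa using L.ac
  · exact ach.comp ((L.ac.t.mul L.ac.u).to (mul_assoc ..)) L.ac.u L.ac.a L.ac.b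

theorem fix_k {j m : Bool} (L2 : d.sw.Lay (e * bp d.u β) f₂ ρ₂ l)
    (c : Cj f₂ (k * e * bp d.u j * bp d.z m) (k * e * bp d.u j * bp d.z m)) : Cj f₂ k k := by
  have fz : Cj f₂ d.z d.z := L2.fz
  simpa using ((c.mul (fz.bp m).inv).mul ((h.sw_fu L2).bp j).inv).mul (h.sw_fe L2).inv

end aux

/-- One layer.  Proof: `R = S₀⟨e₀⟩ ≤ T`.  `F` := elements of `N(A₁)` centralizing `U₁ = ⟨u,z,a⟩` with `t ↦ t v`,
`v ∈ V₁` (a subgroup containing `C(A₁)`, normalized by `r₁`, `S₀`, `e₀`; squares lie in `C(A₁)`).  `LQ` (`sylQ1`, `v = b`, `r = r₁`)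
gives `Q ∋ e₀`, `ρ` with `ρ ≡ r₁` on `A₁`, `b ρ b ρ = 1`, `ρ³ ∈ C(Q)`.  Put `f₀ = ρ e₀ ρ⁻¹`, `f₀' = ρ f₀ ρ⁻¹`
(`ρ f₀' ρ⁻¹ = e₀`, `b f₀ b = f₀'`, `b f₀' b = f₀`, `b e₀ b = e₀`).  `m = e₀ f₀ f₀' ∈ Q ⊓ C(A₁) ≤ A₁` and `ρ m ρ⁻¹ = e₀⁻¹ m e₀`
force `m = u^j` or `m = t a u^j`.  Replacing `e₀` by `e₀ u` multiplies `m` by `u`, by `e₀ t` multiplies it by `t a`.  So
`e = e₀ t^i u^j` has `e f f' = 1`; conjugating by `b`: `e f' f = 1`, so `f` commutes with `f' = (e f)⁻¹` and `e`.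
`e² ∈ Z₀` (`regZ`), `e² f² f'² = 1` gives `e² = z^l`; `f b f⁻¹ = f f'⁻¹ b = e f² b`. -/
theorem lay1 (ε : d.Eps) {T : Subgroup G} (hT : IsPGroup 2 T) (hS : d.S0 ≤ T) {e₀ : G}
    (he : e₀ ∈ T) (ac : d.Ac e₀ (d.t * d.z) d.u d.a d.b) :
    ∃ e f ρ l, d.Lay e f ρ l ∧ e₀⁻¹ * e ∈ d.Z0 :=
  h.lay1' ε hT hS he ac

/-- The same with `h₀`.  Proof: `F` := translations `t ↦ t v`, `v ∈ U₁`, centralizing `U₁`; `R = S₀⟨e₀, h₀⟩`; `Q ∋ e₀, h₀`.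
`e, f, ρ` as in `lay1` (factor the computation through a lemma with hypotheses on `Q, ρ`).  `n = h₀⁻¹ ρ h₀ ρ⁻¹ ∈ A₁`,
`n · ρ(n) · ρ²(n) = 1` gives `n ∈ V₁`; there is a unique `x ∈ V₁` with `k = h₀ x` fixed by `ρ`; `b k b` is also fixed, so
`x ∈ ⟨z⟩`.  `k e k⁻¹ = e y`, `y ∈ Z₀` (`regZ`); apply to `e f f' = 1`: `y ∈ ⟨z⟩`; replace `k` by `k t` if `y = z`.
`k² ∈ Z₀` is fixed by `ρ` and `k`, so `k² = u^μ`. -/
theorem lay1h (ε : d.Eps) {T : Subgroup G} (hT : IsPGroup 2 T) (hS : d.S0 ≤ T) {e₀ h₀ : G}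
    (he : e₀ ∈ T) (hh : h₀ ∈ T) (ac : d.Ac e₀ (d.t * d.z) d.u d.a d.b)
    (ach : d.Ac h₀ (d.t * d.u) d.u d.a d.b) :
    ∃ e f ρ l k μ, d.Lay e f ρ l ∧ e₀⁻¹ * e ∈ d.Z0 ∧ h₀⁻¹ * k ∈ d.Z0 ∧ Cj k e e ∧ Cj k f f ∧
      Cj ρ k k ∧ k * k = bp d.u μ :=
  h.lay1h' ε hT hS he hh ac ach

/-- Family `N2`.  Proof.  `lift_U` puts `e₀`, `w`, `g` into a 2-group `T ≥ S` (for (c0) take `e₀ := g²`).
`lay1` for `d` gives `e, f₁, ρ₁, l`.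
(a) `lay1` for `d.sw` (`sw`, `sw_eps`; `e₀` has the same `Ac` for `d.sw`) gives `e₂ = e t^i u^β z^k`.  `i = 1` is impossible: then
`e₂² = e² z`, and (up to `sw`) `l = 0`; `f₁ : t b ↦ t a e b` and `f₂⁻¹ : e₂ b a ↦ a` show
`t ~ t b ~ t a e b ~ a u^? z^?` (`f₂ : t ↦ t b`, `f₂` fixes `u, z`), but `a ~ z`, `a z ~ z`, `a u ~ a u z ~ u z` by `r₁`: against `NT`.
Replacing `(e₂, f₂)` by `(e₂ z, f₂ b)` preserves `Lay`, so `e₂ = e u^β`.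
(a') `e₂ := w e w⁻¹`, `f₂ := w f₁ w⁻¹`, `ρ₂ := w ρ₁ w⁻¹` satisfy `d.sw.Lay` with the same `l`; `e⁻¹ e₂ ∈ Z₀` (`regZ`), no factor `t`
(squares); replace `w` by `w t` to remove `z`; `w² = t^i` acts on `e` as `e z^i` and as `e u^β (u z)^β`: `i = β`.
(c0) `e₂ := g e g⁻¹`, `f₂ := g f₁ g⁻¹`, `ρ₂ := e₂⁻¹ (g ρ₁ g⁻¹) e₂`; replace `g` by `g t` to get `e₂ = e u^β`; `g² = e c`,
`c ∈ Z₀`, `g` commutes with `g²` so `c = t^β z^k`; replace `g` by `g u` if `k = 1`.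
Case `l = false`: `x = (f₂ f₁)⁻¹ (f₁ f₂)` fixes `u, a, b` and maps `t ↦ t z u^β`.  `β = 1` gives `t u z ∈ T`, excluded in (a), (a')
(`w : t u ↦ t u z`); in (c0) `g⁻¹ x e` fixes `t` and swaps `A₁, A₂` (`noswap`).  To compute the commutator put all in
one 2-group: `S₁ = S₀⟨e⟩`, `M` = normalizer of the flag `⟨z⟩ < U < U⟨e⟩ < U⟨e, a b⟩ < U⟨e, a, b⟩ < S₁` (contains `S₁, f₁, f₂, w, g, C(S₁)`;
odd elements centralize `S₁` by `odd_flag`); `T'` Sylow in `M` over `S₁⟨w⟩` (resp. `S₁⟨g⟩`, `S₁⟨f₂⟩`); `two_join` gives `o ∈ C(S₁)`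
conjugating `S₁⟨f₁⟩` into `T'`; replace `(f₁, ρ₁)` by the `o`-conjugates *before* defining `f₂`.  Then
`[f₁,f₂] e⁻¹` centralizes `S₀`, lies in `T'`, so in `Z₀` (`regZ`), and commutes with `e`. -/
theorem layN (c : d.CN) : ∃ e f₁ f₂ ρ₁ ρ₂ l β, d.LN e f₁ f₂ ρ₁ ρ₂ l β ∧ d.SymN e f₁ f₂ β ∧
    (l = false → β = false ∧ ∃ k j, f₁ * f₂ * f₁⁻¹ * f₂⁻¹ = e * bp d.u k * bp d.z j) := by
  obtain ⟨nt, ⟨e₀, ac⟩, ⟨n1, n2, c⟩ | ⟨c, g₀, cg⟩⟩ := c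
  · have ε := Eps.of c
    obtain ⟨T, hT, hS', lift⟩ := h.lift_T c
    have hS := h.le.trans hS'
    obtain ⟨e₀, he₀, ac⟩ := lift ac (mul_mem d.t_S0 h.z_S0) h.lt_u d.a_S0 d.b_S0 (h.cz' ac.a ac.b)
    obtain ⟨e, f, ρ, l, L, hz⟩ := h.lay1' ε hT hS he₀ ac
    have he := h.lt_Z0 hS he₀ hz
    have hβ : ∀ x, ¬ d.Ac x (d.t * d.u * d.z) d.u d.a d.b := fun x c => n2 (d.T_t.cj c.t)
    rcases c with c | ⟨w, c⟩
    · obtain ⟨e₂, f₂, ρ₂, l₂, L2, hz₂⟩ :=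
        h.sw.lay1' (h.sw_eps ε) hT (h.sw_S0 ▸ hS) he (h.ac_sw L.ac)
      obtain rfl := (h.side2 nt L L2 (h.sw_Z0 ▸ hz₂)).1
      obtain ⟨β, κ, rfl⟩ := h.side2' ε nt L L2 hT hS he (h.lt_Z0 hS he (h.sw_Z0 ▸ hz₂))
      have L2 := h.mulz' L2
      obtain ⟨f', ρ', L', -, -, H⟩ := h.adjust L (Cj.one' f) (Cj.one ρ) hT hS he (one_mem _)
        (h.sw.lay_two L2) (by rintro rfl; exact h.tri2 L2 (Cj.one _))
      refine ⟨e, f', _, ρ', ρ₂, _, β, ⟨L', L2⟩, .inl ⟨c, n1, n2⟩, ?_⟩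
      rintro rfl
      obtain ⟨T', h1, h2, h3, -, h4, h5⟩ := H rfl
      exact h.finN ε L' L2 h1 h2 h3 h5 h4 hβ
    · obtain ⟨w, β, c, we, ww⟩ := h.norm_w nt c L hT hS' he
      obtain ⟨f', ρ', L', -, -, H⟩ := h.adjust L (Cj.one' f) (Cj.one ρ) hT hS he (one_mem _)
        (isPGroup_iff.1 hT _ (hS' c.mem)) fun _ => h.tri3 (i := false) (by simpa using h.e2_ac c) we
          ((Cj.one w).to (mul_one _).symm) (one_mem _)
      have L2 := h.lay_sw L' (h.e2_ac c) we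
      refine ⟨e, f', _, ρ', _, l, β, ⟨L', L2⟩, .inr (.inl ⟨n1, w, c, we, Cj.cj _ _, ww⟩), ?_⟩
      rintro rfl
      obtain ⟨T', h1, h2, h3, -, h4, h5⟩ := H rfl
      exact h.finN ε L' L2 h1 h2 h3 h5 (mul_mem (mul_mem h4 h5) (inv_mem h4)) hβ
  · have ε : d.Eps := .inl c
    obtain ⟨T, hT, hS', lift⟩ := h.lift_T (.inl c)
    have hS := h.le.trans hS'
    obtain ⟨g, hg, cg⟩ := lift cg (mul_mem d.t_S0 d.u_S0)
      (mul_mem h.lt_u (subset_closure (by simp))) d.b_S0 d.a_S0 (h.cz_sw cg.a cg.b)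
    obtain ⟨e, f, ρ, l, L, hz⟩ := h.lay1' ε hT hS (mul_mem hg hg) (h.gg_ac cg)
    have he := h.lt_Z0 hS (mul_mem hg hg) hz
    obtain ⟨g, hg, β, cg, ge, gg⟩ := h.norm_g ε nt cg L hT hS he hg
    obtain ⟨f', ρ', L', -, -, H⟩ := h.adjust L (Cj.one' f) (Cj.one ρ) hT hS he (one_mem _)
      (isPGroup_iff.1 hT _ hg) fun _ => h.tri3 (i := true) cg ge
        ((Cj.one g).to (mul_one _).symm) (one_mem _)
    obtain ⟨ρ₂, L2⟩ := h.lay_g L' cg ge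
    refine ⟨e, f', _, ρ', _, l, β, ⟨L', L2⟩, .inr (.inr ⟨c, g, cg, ge, Cj.cj _ _, gg⟩), ?_⟩
    rintro rfl
    obtain ⟨T', h1, h2, h3, -, h4, h5⟩ := H rfl
    refine h.finN ε L' L2 h1 h2 h3 h5 (mul_mem (mul_mem h4 h5) (inv_mem h4)) fun x y => ?_
    have z := h.cz' y.a y.b
    have := L.ac.comp ((y.t.mul z).to (by rw [mul_assoc, h.zz, mul_one])) y.u y.a y.b
    exact h.no_sw c (cg.comp this.t.symm (this.u.mul (h.cz' this.a this.b)).symm this.b.symm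
      this.a.symm)

/-- Type (I, I).  Proof: as `layN` with `lay1h`.  Side 2 (`d.sw`, `h₀ e₀` in place of `h₀`; for `ε = 2` the `w`-conjugate of
side 1) gives `e₂ ∈ e Z₀`, `h₂ ∈ h e Z₀`; `[e₂, h₂] = 1` shows that no factor `t` occurs (`t : e ↦ e z, h ↦ h u`);
`e₂² = e²` and `h₂² = h² e²`, i.e. `(u z)^μ₂ = u^μ z^l`: `μ = μ₂ = l`.  Normalize `e₂ = e u^β` (`e₂ ↦ e₂ z`, or `w ↦ w t`),
`h₂ = h e u^l` (`h₂ ↦ h₂ u z`, `h ↦ h u`; for `ε = 2` use `h ↦ h u` to remove `z`, then `w² = t^β` acting on `h` gives the exponent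
of `u`).  For `l = false` use `S₁ = S₀⟨e, h⟩` and the flag through `U⟨e⟩ < U⟨e, h⟩`; `[f₁, f₂]` maps `t ↦ t z u^β`. -/
theorem layI (c : d.CI) : ∃ e k f₁ f₂ ρ₁ ρ₂ l β, d.LI e k f₁ f₂ ρ₁ ρ₂ l β ∧
    (d.E1 ∨ ∃ w, d.WI w e k f₁ f₂ l β) ∧
    (l = false → ∃ i j, f₁ * f₂ * f₁⁻¹ * f₂⁻¹ = e * bp k β * bp d.u i * bp d.z j) := by
  obtain ⟨nt, ⟨e₀, ac⟩, ⟨h₀, ach⟩, c⟩ := c
  have ε := Eps.of c
  obtain ⟨T, hT, hS', lift⟩ := h.lift_T c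
  have hS := h.le.trans hS'
  obtain ⟨e₀, he₀, ac⟩ := lift ac (mul_mem d.t_S0 h.z_S0) h.lt_u d.a_S0 d.b_S0 (h.cz' ac.a ac.b)
  obtain ⟨h₀, hh₀, ach⟩ := lift ach (mul_mem d.t_S0 d.u_S0) h.lt_u d.a_S0 d.b_S0 (h.cz' ach.a ach.b)
  obtain ⟨e, f, ρ, l, k, μ, L, hz, hk, ke, kf, ρk, kk⟩ := h.lay1h' ε hT hS he₀ hh₀ ac ach
  have he := h.lt_Z0 hS he₀ hz
  replace ach := h.lt_ac ach hk
  replace hk := h.lt_Z0 hS hh₀ hk
  have ake : d.Ac (k * e) (d.t * (d.u * d.z)) d.u d.a d.b :=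
    L.ac.comp ((ach.t.mul (h.cz' ach.a ach.b)).to (mul_assoc ..)) ach.u ach.a ach.b
  have eu := L.ac.u
  have ez := h.cz' L.ac.a L.ac.b
  rcases c with c | ⟨w, c⟩
  · obtain ⟨e₂, f₂, ρ₂, l₂, k₂, μ₂, L2, hz₂, hk₂, ke₂, kf₂, ρk₂, kk₂⟩ :=
      h.sw.lay1h' (h.sw_eps ε) hT (h.sw_S0 ▸ hS) he (mul_mem hk he) (h.ac_sw L.ac) (h.ac_sw ake)
    rw [h.sw_Z0] at hz₂ hk₂
    obtain rfl := (h.side2 nt L L2 hz₂).1
    obtain ⟨β, κ, rfl⟩ := h.side2' ε nt L L2 hT hS he (h.lt_Z0 hS he hz₂)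
    have L2 := h.mulz' L2
    have a₂ := h.lt_ac ake hk₂
    obtain ⟨rfl, j, m, rfl⟩ := h.side_k L ach ke kk hk₂ (by
      simpa using (ke₂.mul ((h.cz' a₂.a a₂.b).bp κ).inv).mul (a₂.u.bp β).inv) kk₂
    obtain ⟨ach', ke', kf', ρk', kk'⟩ := h.k_mul L ach ke kf ρk kk (j ^^ m ^^ μ)
    have fk := (h.fix_k L2 (kf₂.mul (a₂.b.bp κ)).flip).mul ((h.sw_fu L2).bp (j ^^ m ^^ μ))
    obtain ⟨f', ρ', L', kf', ρk', H⟩ := h.adjust L kf' ρk' hT hS he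
      (mul_mem hk (bp_mem (hS d.u_S0) _)) (h.sw.lay_two L2) (by rintro rfl; exact h.tri2 L2 fk)
    have e1 : k * bp d.u (j ^^ m ^^ μ) * e * bp d.u μ =
        k * e * bp d.u j * bp d.z m * bp (d.u * d.z) m := by
      rw [mul_assoc k, ← (eu.bp _).comm, h.el_u, h.el_z]
      simp [mul_assoc, h.el_mul, h.bp_el]
    refine ⟨e, _, f', _, ρ', ρ₂, μ, β, ⟨⟨L', L2⟩, ach', ke', kf', fk.flip, kk', ρk',
      e1 ▸ ρk₂.mul (Cj.bp L2.pu m)⟩, .inl c, ?_⟩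
    rintro rfl
    obtain ⟨T', h1, h2, h3, h4, h5, h6⟩ := H rfl
    exact h.finI ε L' L2 ach' ke' h1 h2 h3 h4 h6 h5
  · obtain ⟨w, β, c, we, ww⟩ := h.norm_w nt c L hT hS' he
    have hw := hS' c.mem
    have wt := h.wt c.mem
    have wk := Cj.cj w k
    have a₂ : d.Ac (w * k * w⁻¹) (d.t * (d.u * d.z)) d.u d.a d.b := h.sw_ac
      ⟨ach.t.tr wk wt (wt.mul c.u), ach.u.tr wk c.u c.u, ach.a.tr wk c.a c.a, ach.b.tr wk c.b c.b⟩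
    obtain ⟨rfl, j, m, e1⟩ := h.side_k L ach ke kk (h.regZ ε hT hS (mul_mem (inv_mem (mul_mem hk he))
      (mul_mem (mul_mem hw hk) (inv_mem hw))) (a₂.comp ake.t.symm ake.u.symm ake.a.symm ake.b.symm))
      (by simpa using (ke.tr wk we we).mul (a₂.u.bp β).inv)
      ((wk.mul wk).unique (kk ▸ c.u.bp μ))
    obtain ⟨ach', ke', kf', ρk', kk'⟩ := h.k_mul L ach ke kf ρk kk m
    have wk' : Cj w (k * bp d.u m) (k * bp d.u m * e * bp d.u j) := (Cj.mul e1 (c.u.bp m)).to (by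
      rw [mul_assoc k (bp d.u m), ← (eu.bp _).comm, h.el_u, h.el_z]
      simp [mul_assoc, h.el_mul, h.bp_el, Bool.xor_comm])
    have hk' := mul_mem hk (bp_mem (hS d.u_S0) m)
    generalize k * bp d.u m = k at ach' ke' kf' ρk' kk' wk' hk'
    obtain rfl : j = μ := by
      have := wk'.comp ((wk'.mul we).mul (c.u.bp j))
      rw [ww] at this
      have e2 : bp d.t β * k = k * d.el β β false false false := by
        rw [← mul_left_cancel_iff (a := k⁻¹), inv_mul_cancel_left, ← mul_assoc, h.el_bt]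
        have := (h.tl_el (h.tl_inv (h.el_u ▸ h.tl_ac ach' (h.cz' ach'.a ach'.b)))
          β false false false).eq
        rw [inv_inv] at this
        rw [this]; cases β <;> rfl
      rw [this.eq_mul, mul_assoc (k * e), ← mul_assoc (bp d.u j), ← (eu.bp j).comm, mul_assoc e,
        ← mul_assoc (k * e), mul_assoc k e e, L.ee, h.el_t, h.el_u, h.el_z] at e2
      simp only [mul_assoc, mul_left_cancel_iff, h.el_mul, h.bp_el, h.el_eq_iff] at e2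
      revert e2; cases j <;> cases μ <;> simp
    obtain ⟨f', ρ', L', kf', ρk', H⟩ := h.adjust L kf' ρk' hT hS he hk'
      (isPGroup_iff.1 hT _ hw) fun _ => h.tri3 (i := false) (by simpa using h.e2_ac c) we
        (wk'.to (mul_assoc ..)) (mul_mem (subset_closure (by simp)) (bp_mem (subset_closure (by simp)) _))
    have L2 := h.lay_sw L' (h.e2_ac c) we
    refine ⟨e, k, f', _, ρ', _, j, β, ⟨⟨L', L2⟩, ach', ke', kf', (h.fix_k (j := j) (m := false) L2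
      (by simpa using kf'.flip.tr (Cj.cj w f') wk' wk')).flip, kk', ρk', ρk'.tr (Cj.cj _ _) wk' wk'⟩,
      .inr ⟨w, c, we, Cj.cj _ _, wk', ww⟩, ?_⟩
    rintro rfl
    obtain ⟨T', h1, h2, h3, h4, h5, h6⟩ := H rfl
    exact h.finI ε L' L2 ach' ke' h1 h2 h3 h4 h6 (mul_mem (mul_mem h5 h6) (inv_mem h5))

end Dat.Cfq

end Cfsg.Agent.HSE
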