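import Mathlib
import Cfsg.Agent.HSE.LayT1
import Cfsg.Agent.FGS.FrobQ8
import Cfsg.Agent.S1233

/-! The layer of type II; two small tools. -/

set_option autoImplicit false
set_option linter.unusedSectionVars false
set_option linter.unusedVariables false

namespace Cfsg.Agent.HSE

open Cfsg Subgroup Cfsg.Agent.PLocal Cfsg.Agent.PLocal.Amb Cfsg.Agent.MacW

variable {G : Type*} [Group G] [Finite G]

open QuaternionGroup in
theorem q8_closure {x y u : G} (hx : x * x = u) (hy : y * y = u) (uu : u * u = 1) (u1 : u ≠ 1)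
    (c : x * y = y * x * u) : Nonempty (closure {x, y} ≃* QuaternionGroup 2) := by
  have x4 : x ^ (2 * 2) = 1 := by rw [pow_mul, sq, sq, hx, uu]
  obtain ⟨f, f1, f2⟩ := FGS.FrobCompl.exists_quaternion_hom 2 x y x4 (by rw [hy, sq, hx]) (by
    rw [c, mul_assoc, mul_right_inj, eq_inv_iff_mul_eq_one, ← hx, ← x4]; simp [pow_succ, mul_assoc])
  have i : Function.Injective f := (injective_iff_map_eq_one f).2 fun g e => by
    have k : ∀ g : QuaternionGroup 2, g = 1 ∨ g = a 1 * a 1 ∨ g * g = a 1 * a 1 := by decide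
    rcases k g with k | k | k
    · exact k
    · rw [k, map_mul, f1, hx] at e; exact (u1 e).elim
    · have := congrArg f k
      rw [map_mul, map_mul, e, f1, hx, mul_one] at this
      exact (u1 this.symm).elim
  have r : f.range = closure {x, y} := le_antisymm (by
    rintro _ ⟨g, rfl⟩
    have k : ∀ g : QuaternionGroup 2, ∃ i < 4, ∃ j < 2, g = a 1 ^ i * xa 0 ^ j := by decide
    obtain ⟨i, -, j, -, rfl⟩ := k g
    rw [map_mul, map_pow, map_pow, f1, f2]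
    exact mul_mem (pow_mem (subset_closure (by simp)) _) (pow_mem (subset_closure (by simp)) _))
    ((closure_le _).2 (by rintro _ (rfl | rfl); exacts [⟨_, f1⟩, ⟨_, f2⟩]))
  exact ⟨(MulEquiv.subgroupCongr r.symm).trans (MonoidHom.ofInjective i).symm⟩

/-- `g : t ↦ t u^j a^k z^m, u ↦ u, a ↦ a u^p, z ↦ z u^q` -/
def Tw (d : Dat G) (g : G) (j k m p q : Bool) : Prop := ∀ i j' k' m',
  Cj g (d.el i j' k' false m') (d.el i (j' ^^ (i && j) ^^ (k' && p) ^^ (m' && q)) (k' ^^ (i && k)) false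
    (m' ^^ (i && m)))

namespace Dat.Cfq

variable {d : Dat G} (h : d.Cfq)
include h

section
variable {g g' ρ : G} {Q : Subgroup G} {j k m p q j' k' m' p' q' : Bool}

theorem tw_mk (h1 : Cj g d.t (d.t * d.el false j k false m)) (h2 : Cj g d.u d.u)
    (h3 : Cj g d.a (d.a * bp d.u p)) (h4 : Cj g d.z (d.z * bp d.u q)) : Tw d g j k m p q :=
  fun i j' k' m' => (h.cjA h1 h2 h3 h4 i j' k' m').to (by
    simp only [h.el_t, h.el_u, h.el_a, h.el_z, h.bp_el, h.el_mul, h.el_eq_iff]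
    clear h1 h2 h3 h4
    revert i j' k' m' j k m p q
    decide)

theorem tw_mul (c : Tw d g j k m p q) (c' : Tw d g' j' k' m' p' q') :
    Tw d (g * g') (j ^^ j' ^^ (k' && p) ^^ (m' && q)) (k ^^ k') (m ^^ m') (p ^^ p') (q ^^ q') :=
  fun i a b e => ((c' ..).comp (c ..)).to (by
    rw [h.el_eq_iff]; clear c c'; revert i a b e j k m p q j' k' m' p' q'; decide)

theorem tw_inv (c : Tw d g j k m p q) : Tw d g⁻¹ (j ^^ (k && p) ^^ (m && q)) k m p q :=
  fun i a b e => Cj.symm ((c ..).to (by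
    rw [h.el_eq_iff]; clear c; revert i a b e j k m p q; decide))

theorem tw_cj (h1 : ∀ i j k m, Cj ρ (d.el i j k false m) (d.el i j (k ^^ m) false k))
    (c : Tw d g j k m p q) (e : Cj ρ g g') : Tw d g' j (k ^^ m) k q (p ^^ q) := fun i a b f => by
  have := (c i a f (b ^^ f)).tr e (h1 ..) (h1 ..)
  convert this using 1 <;> rw [h.el_eq_iff] <;> clear c this <;> revert i a b f j k m p q <;> decide

theorem tw_t (c : Tw d g j k m p q) : Cj g d.t (d.el true j k false m) := by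
  rw [h.el_t]; simpa using c true false false false
theorem tw_u (c : Tw d g j k m p q) : Cj g d.u d.u := by
  rw [h.el_u]; simpa using c false true false false
theorem tw_a (c : Tw d g j k m p q) : Cj g d.a (d.el false p true false false) := by
  rw [h.el_a]; simpa using c false false true false
theorem tw_z (c : Tw d g j k m p q) : Cj g d.z (d.el false q false false true) := by
  rw [h.el_z]; simpa using c false false false true

theorem tw_cent (c : Tw d g false false false false false) : g ∈ 𝐂[d.A1] :=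
  h.cent_A1 ((h.tw_t c).to h.el_t.symm) (h.tw_u c) ((h.tw_z c).to h.el_z.symm)
    ((h.tw_a c).to h.el_a.symm)

theorem tw_mem (w : QR d Q ρ) (hg : g ∈ Q) (c : Tw d g false false false false false) :
    ∃ i j k m, g = d.el i j k false m :=
  w.cen g hg ((h.tw_t c).to h.el_t.symm) (h.tw_u c) ((h.tw_z c).to h.el_z.symm)
    ((h.tw_a c).to h.el_a.symm)

/-- the stabilizer of the flag `⟨u⟩ < U₁ < A₁` -/
def F2 : Subgroup G where
  carrier := {g | ∃ j k m p q, Tw d g j k m p q}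
  one_mem' := ⟨false, false, false, false, false, fun _ _ _ _ => by simpa using Cj.one' _⟩
  mul_mem' := fun ⟨_, _, _, _, _, c⟩ ⟨_, _, _, _, _, c'⟩ => ⟨_, _, _, _, _, h.tw_mul c c'⟩
  inv_mem' := fun ⟨_, _, _, _, _, c⟩ => ⟨_, _, _, _, _, h.tw_inv c⟩

theorem exists_QR2 (ε : d.Eps) {T : Subgroup G} (hT : IsPGroup 2 T) (hS : d.S0 ≤ T) :
    ∃ Q ρ, QR d Q ρ ∧ ∀ g ∈ T, g ∈ h.F2 → g ∈ Q := by
  have tA := h.t_A1
  have uA := h.u_A1
  have zA : d.z ∈ d.A1 := subset_closure (by simp)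
  have aA := h.a_A1
  have cF : 𝐂[d.A1] ≤ h.F2 := fun g hg => ⟨false, false, false, false, false, fun i j k m => by
    simpa using Cj.of_cent hg (h.el_A1 i j k m)⟩
  have FN : h.F2 ≤ 𝐍[d.A1] := fun g ⟨_, _, _, _, _, c⟩ =>
    mem_normalizer_of_cj_le (cj_le_iff_forall.2 fun y hy => by
      obtain ⟨i', j', k', m', rfl⟩ := h.mem_A1.1 hy
      exact h.mem_A1.2 ⟨_, _, _, _, c ..⟩)
  have az : Cj d.r₁ (d.a * d.z) d.z := (h.r1a.mul h.r1z).to (by
    rw [mul_assoc, h.za, ← mul_assoc, h.aa, one_mul])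
  have bt : Cj d.b d.t d.t := .of_comm h.bt
  have bu : Cj d.b d.u d.u := .of_comm h.bu
  have bz : Cj d.b d.z d.z := .of_comm h.zb.symm
  have ba : Cj d.b d.a (d.a * d.z) := by rw [Cj, h.ba, mul_assoc d.a, ← h.zb]; group
  have baz : Cj d.b (d.a * d.z) d.a := (ba.mul bz).to (by rw [mul_assoc, h.zz, mul_one])
  have bF : d.b ∈ 𝐍[h.F2] := mem_normalizer_of_cj_le (cj_le_iff_forall.2 fun g ⟨j, k, m, p, q, c⟩ =>
    ⟨j, k, m ^^ k, p ^^ q, q, fun i a b f => by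
      have e : ∀ i j k m, Cj d.b (d.el i j k false m) (d.el i j k false (m ^^ k)) := fun i j k m => by
        rw [h.el_b]; simpa using h.cjE false false false true false i j k false m
      have := (c i a b (f ^^ b)).tr (Cj.cj d.b g) (e _ _ _ _) (e _ _ _ _)
      clear e
      convert this using 1 <;> rw [h.el_eq_iff] <;> clear c this <;> revert i a b f j k m p q <;> decide⟩)
  obtain ⟨Q, ρ, -, q2, -, q4, -, q6, q7, q8, q9, q10⟩ := LQ (R := T ⊓ (𝐍[d.A1] ⊓ 𝐍[h.F2]))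
    (h.sylQ1 ε (h.pS0.to_le h.A1_le) le_rfl le_normalizer) (h.A1_cen.trans cF) cF FN
    (fun g ⟨j, k, m, p, q, c⟩ => ⟨2, by
      have := h.tw_mul (h.tw_mul c c) (h.tw_mul c c)
      rw [show g ^ 2 ^ 2 = g * g * (g * g) by simp [pow_succ, mul_assoc]]
      exact h.tw_cent (by simpa using this)⟩)
    (hT.to_le inf_le_left) (le_inf (h.A1_le.trans hS) (le_inf le_normalizer
      ((h.A1_cen.trans cF).trans le_normalizer)))
    (inf_le_right.trans inf_le_left) (inf_le_right.trans inf_le_right)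
    (h.A1_norm (h.r1t.to (mul_one _).symm) h.r1u h.r1z h.r1a (one_mem _) aA (mul_mem aA zA))
    (mem_normalizer_of_cj_le (cj_le_iff_forall.2 fun g ⟨j, k, m, p, q, c⟩ =>
      ⟨_, _, _, _, _, h.tw_cj (h.cjR h.r1t h.r1u h.r1z h.r1a) c (Cj.cj _ _)⟩))
    ⟨hS d.b_S0, h.S0_nA1 d.b_S0, bF⟩ h.bb
    (by
      rw [mul_assoc, mul_assoc]
      exact h.cent_A1 (((h.r1t.comp bt).comp h.r1t).comp bt) (((h.r1u.comp bu).comp h.r1u).comp bu)
        (((h.r1z.comp ba).comp az).comp bz) (((h.r1a.comp baz).comp h.r1a).comp baz))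
    (by
      rw [pow_three]
      exact h.cent_A1 ((h.r1t.comp h.r1t).comp h.r1t) ((h.r1u.comp h.r1u).comp h.r1u)
        ((h.r1z.comp h.r1a).comp az) ((h.r1a.comp az).comp h.r1z))
  have k : ∀ {x y}, Cj d.r₁ x y → y ∈ d.A1 → Cj ρ x y := fun c hy => by
    have := c.comp (Cj.of_cent q7 hy)
    rwa [inv_mul_cancel_right] at this
  refine ⟨Q, ρ, ⟨fun q hq h1 h2 h3 h4 => h.mem_A1.1 (q4 ⟨hq, h.cent_A1 h1 h2 h3 h4⟩),
    fun x hx => q2 ⟨⟨hS (h.A1_le hx), le_normalizer hx, le_normalizer (cF (h.A1_cen hx))⟩,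
      cF (h.A1_cen hx)⟩, q6, fun q hq => ?_,
    k h.r1t tA, k h.r1u uA, k h.r1z aA, k h.r1a (mul_mem aA zA), q8, q10⟩,
    fun g hg f => q2 ⟨⟨hg, FN f, le_normalizer f⟩, f⟩⟩
  refine Eq.trans ?_ (Cj.of_cent q9 hq).eq
  rw [pow_three]; group

theorem tw_r {r : G} (c : d.Ac r (d.t * d.u * d.z) d.u (d.a * d.u) d.b) :
    Tw d r true false true true false := by
  refine h.tw_mk (c.t.to ?_) c.u c.a ((h.cz c.a c.b).to ?_) <;>
    simp only [h.el_t, h.el_u, h.el_a, h.el_b, h.el_z, h.bp_el, h.el_mul, h.el_eq_iff] <;> decide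

theorem tw_h {k : G} {ν : Bool} (c : d.Ac k (d.t * d.u) d.u d.a (d.b * bp d.u ν)) :
    Tw d k true false false false false := by
  refine h.tw_mk (h.el_u ▸ c.t) c.u (c.a.to (mul_one _).symm) ((h.cz c.a c.b).to ?_)
  simp only [h.el_u, h.el_a, h.el_b, h.el_z, h.bp_el, h.el_mul, h.el_eq_iff]
  cases ν <;> decide

theorem l2_core (ε : d.Eps) (w : QR d Q ρ) {T : Subgroup G} (hT : IsPGroup 2 T) (hS : d.S0 ≤ T)
    {r s s' : G} (he : r ∈ Q) (heT : r ∈ T) (ac : d.Ac r (d.t * d.u * d.z) d.u (d.a * d.u) d.b)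
    (h1 : Cj ρ r s) (h2 : Cj ρ s s') (e1 : r * s * s' = 1) :
    r * r = 1 ∧ s * s = 1 ∧ Cj s r r ∧ s' = r * s ∧ Cj s d.b (r * d.b) := by
  have h3 : Cj ρ s' r := by rw [← h2.eq, ← h1.eq]; exact w.c3 r he
  have c1 := h.tw_r ac
  have be := ac.b.flip
  have bf : Cj d.b s s' := (h1.tr (h.qr_b w) be (Cj.cj _ _)).unique h3.symm
  have bf' : Cj d.b s' s := (h2.tr (h.qr_b w) bf (Cj.cj _ _)).unique h2.symm
  have e2 := (be.mul bf).mul bf'
  rw [e1] at e2
  have e3 : s' = (r * s)⁻¹ := eq_inv_of_mul_eq_one_right e1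
  have e4 : r * s = s * r := by
    have := e2.unique (Cj.one _)
    rw [e3, mul_assoc, mul_eq_one_iff_eq_inv, mul_inv_rev, inv_inv, eq_inv_mul_iff_mul_eq] at this
    exact this.symm
  have c2 := h.tw_mul c1 c1
  obtain ⟨i, j, m, s1⟩ := h.mem_Z0.1 (h.regZ ε hT hS (mul_mem heT heT) ⟨(h.tw_t c2).to h.el_t.symm,
    h.tw_u c2, (h.tw_a c2).to h.el_a.symm, ac.b.comp ac.b⟩)
  have s2 := h1.mul h1
  have s3 := h2.mul h2
  rw [s1] at s2
  have s2 := s2.unique (h.qr_el w ..)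
  rw [s2] at s3
  have s3 := s3.unique (h.qr_el w ..)
  have s4 : r * r * (s * s) * (s' * s') = 1 := by
    rw [e3, (show Commute r s from e4).mul_mul_mul_comm]; group
  rw [s1, s2, s3, h.el_mul, h.el_mul, h.el_one, h.el_eq_iff] at s4
  obtain ⟨rfl, rfl⟩ : i = false ∧ j = false := by simpa using s4
  have s5 := (Cj.of_comm e4).mul (Cj.of_comm e4)
  rw [s2] at s5
  obtain rfl : m = false := by simpa using (h.el_inj (s5.unique (c1 ..))).2.1
  have rr : r * r = 1 := s1.trans h.el_one.symm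
  have ss : s * s = 1 := s2.trans h.el_one.symm
  have e5 : s' = r * s := by
    rw [e3, mul_inv_rev, inv_eq_of_mul_eq_one_right rr, inv_eq_of_mul_eq_one_right ss, e4]
  refine ⟨rr, ss, .of_comm e4.symm, e5, ?_⟩
  rw [Cj, mul_assoc, bf.inv.eq_mul, e3, inv_inv, ← mul_assoc, ← mul_assoc, ← e4, mul_assoc r, ss, mul_one]

theorem l2_r (w : QR d Q ρ) {r : G} (he : r ∈ Q) (ac : d.Ac r (d.t * d.u * d.z) d.u (d.a * d.u) d.b) :
    ∃ i j, r * d.el i j false false false * (ρ * r * ρ⁻¹ * d.el i j false false false) *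
      (ρ * (ρ * r * ρ⁻¹) * ρ⁻¹ * d.el i j false false false) = 1 := by
  have h1 := Cj.cj ρ r
  have h2 := Cj.cj ρ (ρ * r * ρ⁻¹)
  have h3 := w.c3 r he
  generalize ρ * r * ρ⁻¹ = f at h1 h2 h3 ⊢
  generalize ρ * f * ρ⁻¹ = f' at h2 h3 ⊢
  have c1 := h.tw_r ac
  have c2 := h.tw_cj (h.qr_el w) c1 h1
  have c3 := h.tw_cj (h.qr_el w) c2 h2
  have hf := h1.mem w.n he
  have c4 := h.tw_mul (h.tw_mul c1 c2) c3
  obtain ⟨i, j, k, m, e1⟩ := h.tw_mem w (mul_mem (mul_mem he hf) (h2.mem w.n hf)) c4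
  have e2 := (h1.mul h2).mul h3
  have e3 : Cj r⁻¹ (r * f * f') (f * f' * r) := by rw [Cj]; group
  rw [e1] at e2 e3
  have := (e2.unique (h.qr_el w i j k m)).symm.trans (e3.unique (h.tw_inv c1 i j k m))
  rw [h.el_eq_iff] at this
  refine ⟨i, j, ?_⟩
  generalize hx : d.el i j false false false = x
  calc _ = r * f * f' * (f'⁻¹ * (f⁻¹ * x * f⁻¹⁻¹ * x) * f'⁻¹⁻¹ * x) := by group
    _ = _ := by
      rw [← hx, (h.tw_inv c2 i j false false).eq, h.el_mul, show d.el _ _ _ _ _ = d.el false i i false false by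
        cases i <;> cases j <;> rfl, (h.tw_inv c3 false i i false).eq, e1, h.el_mul, h.el_mul, h.el_one, h.el_eq_iff]
      clear e1 e2 e3 hx
      revert i j k m
      decide

theorem l2_k (ε : d.Eps) (w : QR d Q ρ) {T : Subgroup G} (hT : IsPGroup 2 T) (hS : d.S0 ≤ T)
    {r s h₀ : G} {ν : Bool} (he : r ∈ T) (ac : d.Ac r (d.t * d.u * d.z) d.u (d.a * d.u) d.b)
    (rr : r * r = 1) (ss : s * s = 1) (pr : Cj ρ r s) (ps : Cj ρ s (r * s)) (hh : h₀ ∈ Q) (hT' : h₀ ∈ T)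
    (ach : d.Ac h₀ (d.t * d.u) d.u d.a (d.b * bp d.u ν)) :
    ∃ i m μ, Cj (h₀ * d.el i false false false m) r r ∧
      Cj ρ (h₀ * d.el i false false false m) (h₀ * d.el i false false false m) ∧
      h₀ * d.el i false false false m * (h₀ * d.el i false false false m) = bp d.u μ := by
  have c0 := h.tw_h ach
  have c1 := h.tw_mul (h.tw_inv c0) (h.tw_cj (h.qr_el w) c0 (Cj.cj _ _))
  obtain ⟨i, j, k, m, n⟩ := h.tw_mem w (mul_mem (inv_mem hh) ((Cj.cj _ _).mem w.n hh)) c1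
  have n1 : Cj ρ h₀ (h₀ * d.el i j k false m) := by rw [← n, mul_inv_cancel_left]; rfl
  have n2 := n1.mul (h.qr_el w i j k m)
  rw [mul_assoc, h.el_mul] at n2
  have n3 := w.c3 h₀ hh
  rw [n1.eq, n2.eq] at n3
  have n3 := mul_eq_left.1 ((mul_assoc _ _ _).symm.trans ((n1.mul (h.qr_el w ..)).unique n3))
  rw [h.el_mul, h.el_one, h.el_eq_iff] at n3
  obtain ⟨rfl, rfl⟩ : i = false ∧ j = false := ⟨by simpa using n3.1, by simpa using n3.2.1⟩
  have p0 : Cj ρ (h₀ * d.el false false (k ^^ m) false k) (h₀ * d.el false false (k ^^ m) false k) :=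
    (n1.mul (h.qr_el w ..)).to (by rw [mul_assoc, h.el_mul]; cases k <;> cases m <;> rfl)
  have bh : Cj d.b h₀ (h₀ * d.el false ν false false false) := by
    have := ach.b.flipR
    rwa [inv_eq_of_mul_eq_one_right h.bb, ← (ach.u.bp ν).comm, h.el_bu] at this
  have b0 := bh.mul (h.el_b.symm ▸ h.cjE false false false true false false false (k ^^ m) false k)
  have p1 := (p0.tr (h.qr_b w) b0 b0).symm
  rw [inv_inv] at p1
  have p2 := p0.inv.mul p1
  rw [mul_inv_rev, mul_assoc h₀, mul_assoc, inv_mul_cancel_left, h.el_inv, h.el_mul, h.el_mul] at p2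
  have p3 := (h.el_inj (p2.unique (h.qr_el w ..))).2.2.1
  obtain rfl : k = m := by revert p3; cases k <;> cases m <;> simp
  rw [Bool.xor_self] at p0
  have a0 := h.acmZ ach false false k
  have k0 : h₀ * d.el false false false false k ∈ T := mul_mem hT' (hS (h.el_S0 _ _ _ _ _))
  have bb : ∀ {x}, d.Ac x (d.t * d.u) d.u d.a (d.b * bp d.u ν) → Cj x (d.b * bp d.u ν) d.b := fun c =>
    (c.b.mul (c.u.bp ν)).to (by cases ν <;> simp [mul_assoc, h.uu])
  have key : ∀ x ∈ T, d.Ac x (d.t * d.u) d.u d.a (d.b * bp d.u ν) → Cj ρ x x → ∃ μ, x * x = bp d.u μ :=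
    fun x hx ac p => by
      obtain ⟨i, j, m, s⟩ := h.mem_Z0.1 (h.regZ ε hT hS (mul_mem hx hx) (ac.comp
        ((ac.t.mul ac.u).to (by rw [mul_assoc, h.uu, mul_one])) ac.u ac.a (bb ac)))
      have s1 := p.mul p
      have s2 := (Cj.self x).mul (Cj.self x)
      rw [s] at s1 s2
      have s1 := (h.el_inj (s1.unique (h.qr_el w ..))).2.2.1
      have s2 := (h.el_inj (s2.unique (h.tw_h ac i j false m))).2.1
      refine ⟨j, ?_⟩
      rw [s, h.el_bu, h.el_eq_iff]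
      revert s1 s2; cases i <;> cases j <;> cases m <;> simp
  generalize hk : h₀ * d.el false false false false k = k₀ at p0 a0 k0
  have ce := h.tw_r ac
  have ck := h.tw_h a0
  have cf := h.tw_cj (h.qr_el w) ce pr
  have cy := h.tw_mul (h.tw_inv ce) (h.tw_mul (h.tw_mul ck ce) (h.tw_inv ck))
  obtain ⟨i, j, m, y⟩ := h.mem_Z0.1 (h.regZ ε hT hS
    (mul_mem (inv_mem he) (mul_mem (mul_mem k0 he) (inv_mem k0)))
    ⟨(h.tw_t cy).to h.el_t.symm, h.tw_u cy, (h.tw_a cy).to h.el_a.symm,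
      ((bb a0).symm.comp ((ac.b.mul (ac.u.bp ν)).comp (bb a0))).comp ac.b.symm⟩)
  have y1 : Cj k₀ r (r * d.el i j false false m) := by rw [← y, mul_inv_cancel_left]; rfl
  have y2 := y1.tr p0 pr (pr.mul (h.qr_el w ..))
  have y3 := y2.tr p0 ps (ps.mul (h.qr_el w ..))
  have y4 : s⁻¹ * d.el i j false false m * s⁻¹⁻¹ * d.el i j (false ^^ m) false false =
      d.el i j (false ^^ m ^^ false) false (false ^^ m) := by
    rw [← mul_right_inj (r * s), ← (y1.mul y2).unique y3]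
    group
  have y5 : r⁻¹ * d.el i j false false m * r⁻¹⁻¹ * d.el i j false false m = 1 := by
    have := y1.mul y1
    rw [rr] at this
    rw [← this.unique (Cj.one _), inv_inv, inv_eq_of_mul_eq_one_right rr]
    group
  rw [(h.tw_inv cf i j false m).eq, h.el_mul, h.el_eq_iff] at y4
  rw [(h.tw_inv ce i j false m).eq, h.el_mul, h.el_one, h.el_eq_iff] at y5
  obtain ⟨rfl, rfl⟩ : i = false ∧ j = m := by
    clear y y1 y2 y3; revert i j m; decide
  have te : Cj (d.el j false false false false) r (r * d.el false j false false j) := by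
    have := (h.tw_inv ce j false false false).eq
    rw [Cj, ← mul_left_cancel_iff (a := r⁻¹), inv_mul_cancel_left, ← mul_assoc, ← mul_assoc,
      ← inv_inv r, inv_inv r⁻¹, this, h.el_inv, h.el_mul]
    simp
  have e : k₀ * d.el j false false false false = h₀ * d.el j false false false k := by
    rw [← hk, mul_assoc, h.el_mul]; simp
  have p4 : Cj ρ (k₀ * d.el j false false false false) _ := p0.mul (h.qr_el w ..)
  obtain ⟨μ, hμ⟩ := key _ (mul_mem k0 (hS (h.el_S0 _ _ _ _ _))) (h.acmZ a0 j false false) p4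
  refine ⟨j, k, μ, e ▸ ?_, e ▸ p4, e ▸ hμ⟩
  exact (te.comp (y1.mul (ck false j false j))).to (by rw [mul_assoc, h.el_mul]; simp [← h.el_one])

end

/-- Sylow criterion, second form.  Proof: `P ≤ P'` Sylow in `G`, `x ∈ N_{P'}(P)`; `p⁻¹ x` commutes with `y`; `R = P' ⊓ C(y)` has `|R| ≤ |S|` (`card_le`),
so `R = P ⊓ C(y)` and `x ∈ P`; normalizer growth. -/
theorem crit2 {P : Subgroup G} (hP : IsPGroup 2 P) {y : G} (hy : d.T y)
    (hc : Nat.card d.S ≤ Nat.card ↥(P ⊓ centralizer {y}))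
    (hn : ∀ x ∈ 𝐍[P], ∃ p ∈ P, Cj p y (x * y * x⁻¹)) : IsSyl 2 P ⊤ :=
  ⟨le_top, hP, fun R hR h1 _ => (eq_of_inf_normalizer_le hR h1 fun n hn => by
    obtain ⟨p, hp, c⟩ := ‹∀ x ∈ 𝐍[P], _› n hn.2
    have e : P ⊓ centralizer {y} = R ⊓ centralizer {y} := eq_of_le_of_card_ge (inf_le_inf_right _ h1)
      ((h.card_le hy (hR.to_le inf_le_left) fun r hr => (rg_mem'.1 hr.2).comm).trans hc)
    have : p⁻¹ * n ∈ P ⊓ centralizer {y} :=
      e ▸ ⟨R.mul_mem (R.inv_mem (h1 hp)) hn.1, rg_mem'.2 (Cj.comp rfl c.symm)⟩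
    exact (mul_mem_cancel_left (inv_mem hp)).1 this.1).ge⟩

/-- `R₁ = ⟨u,z,a,r,s⟩ = Q₈ ∘ Q₈` with `i = a r, j = a s z` and `i' = s z, j' = s a r` (all of square `u`; `[r,a] = u`, `[s,z] = u`, `[s,a] = [r,z] = [r,s] = 1`; `|R₁| = 32`
since `r, s` act faithfully on `t ↦ t u z, t a u`).  Apply `S1233` to the group `↥Y` and use `SR.of_sec`. -/
theorem srQQ {r s k ρ : G} {μ ν : Bool} (L : d.LayII r s k ρ μ ν) {Y : Subgroup G} (hY : IsPGroup 2 Y)
    (hR : closure {d.u, d.z, d.a, r, s} ≤ Y)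
    (hc : ∀ y ∈ Y, Cj y d.z d.z → Cj y d.a d.a → Cj y r r → Cj y s s → y = 1 ∨ y = d.u) : SR 4 Y := by
  have cr := h.tw_r L.acr
  have cs := h.tw_cj (h.cjR L.pt L.pu L.pz L.pa) cr L.pr
  have rz : Cj r d.z d.z := (h.tw_z cr).to h.el_z.symm
  have nU : ∀ {g j k m p q}, Tw d g j k m p q → g ∈ 𝐍[d.U1] := fun c =>
    mem_normalizer_of_cj_le (cj_le_iff_forall.2 fun y hy => by
      obtain ⟨j', k', m', rfl⟩ := h.mem_U1.1 hy
      exact h.mem_U1.2 ⟨_, _, _, c ..⟩)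
  have no : ∀ {g j k m p q}, Tw d g j k m p q → g ∈ d.U1 → k = false ∧ m = false := fun c hg => by
    obtain ⟨j', k', m', rfl⟩ := h.mem_U1.1 hg
    have := h.cjE false j' k' false m' true false false false false
    rw [← h.el_t] at this
    have := h.el_inj ((h.tw_t c).unique this)
    exact ⟨this.2.2.1, by simpa using this.2.2.2.2⟩
  have r2 : r ^ 2 ∈ d.U1 := by rw [sq, L.rr]; exact one_mem _
  have c8 : Nat.card d.U1 = 8 := (h.card_of (fun p : Bool × Bool × Bool => d.el false p.1 p.2.1 false p.2.2)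
    (fun _ _ e => by have := h.el_inj e; ext <;> simp [this]) (by simp [h.mem_U1])).trans (by simp)
  have ns : s ∈ 𝐍[adj d.U1 r (nU cr) r2] := mem_normalizer_of_cj_le (cj_le_iff_forall.2 fun y hy =>
    hy.imp (conj_mem_of_mem_normalizer (nU cs)) fun e =>
      ((Cj.cj s y).mul L.sr).mem (nU cs) e)
  have s2 : s ^ 2 ∈ adj d.U1 r (nU cr) r2 := by rw [sq, L.ss]; exact one_mem _
  have c32 : Nat.card (adj _ s ns s2) = 32 := by
    rw [card_adj (by
      rintro (e | e)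
      · simpa using no cs e
      · simpa using no (h.tw_mul cs cr) e), card_adj fun e => by simpa using no cr e, c8]
  have m1 : d.u ∈ adj _ s ns s2 := le_adj (le_adj (subset_closure (by simp)))
  have m2 : d.z ∈ adj _ s ns s2 := le_adj (le_adj (subset_closure (by simp)))
  have m3 : d.a ∈ adj _ s ns s2 := le_adj (le_adj (subset_closure (by simp)))
  have m4 : r ∈ adj _ s ns s2 := le_adj self_mem_adj
  have m5 : s ∈ adj _ s ns s2 := self_mem_adj
  have le : ∀ {X : Subgroup G}, d.u ∈ X → d.z ∈ X → d.a ∈ X → r ∈ X → s ∈ X → adj _ s ns s2 ≤ X :=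
    fun a1 a2 a3 a4 a5 => adj_le (adj_le ((closure_le _).2 (by simp [Set.insert_subset_iff, *])) a4) a5
  have hY' : adj _ s ns s2 ≤ Y := by
    refine le ?_ ?_ ?_ ?_ ?_ <;> exact hR (subset_closure (by simp))
  generalize adj _ s ns s2 = R at c32 m1 m2 m3 m4 m5 le hY'
  have u1 : d.u ≠ 1 := fun e => absurd (h.el_eq_one (h.el_u ▸ e)).2.1 (by decide)
  have w1 (x : G) : r * (d.a * x) = d.u * (d.a * (r * x)) := by
    rw [← mul_assoc, L.acr.a.eq_mul, h.au]; simp only [mul_assoc]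
  have w2 (x : G) : s * (d.z * x) = d.u * (d.z * (s * x)) := by
    rw [← mul_assoc, L.sz.eq_mul, h.zu]; simp only [mul_assoc]
  have cm : ∀ {x y : G}, x * y = y * x → ∀ w, x * (y * w) = y * (x * w) := fun e w => by
    rw [← mul_assoc, e, mul_assoc]
  have sq : ∀ {x : G}, x * x = 1 → ∀ w, x * (x * w) = w := fun e w => by rw [← mul_assoc, e, one_mul]
  have nf : ∀ {x y : G}, (∀ w, x * w = y * w) → x = y := fun e => by simpa using e 1
  have e1 : d.a * r * (d.a * r) = d.u ∧ d.a * s * d.z * (d.a * s * d.z) = d.u ∧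
      d.a * r * (d.a * s * d.z) = d.a * s * d.z * (d.a * r) * d.u ∧ s * d.z * (s * d.z) = d.u ∧
      s * (d.a * r) * (s * (d.a * r)) = d.u ∧
      s * d.z * (s * (d.a * r)) = s * (d.a * r) * (s * d.z) * d.u ∧
      d.a * r * (s * d.z) = s * d.z * (d.a * r) ∧
      d.a * r * (s * (d.a * r)) = s * (d.a * r) * (d.a * r) ∧
      d.a * s * d.z * (s * d.z) = s * d.z * (d.a * s * d.z) ∧
      d.a * s * d.z * (s * (d.a * r)) = s * (d.a * r) * (d.a * s * d.z) := by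
    refine ⟨?_, ?_, ?_, ?_, ?_, ?_, ?_, ?_, ?_, ?_⟩ <;> refine nf fun w => ?_ <;>
      simp only [mul_assoc, w1, w2, cm h.au, cm h.zu, cm h.za, cm L.acr.u.comm, cm L.su.comm,
        cm L.sa.comm, cm L.sr.comm, cm rz.comm, sq h.aa, sq h.uu, sq h.zz, sq L.rr, sq L.ss]
  obtain ⟨e1, e2, e3, e4, e5, e6, e7, e8, e9, e10⟩ := e1
  obtain ⟨f1⟩ := q8_closure e1 e2 h.uu u1 e3
  obtain ⟨f2⟩ := q8_closure e4 e5 h.uu u1 e6
  have l1 : closure {d.a * r, d.a * s * d.z} ≤ R :=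
    (closure_le _).2 (by simp [Set.insert_subset_iff, mul_mem, *])
  have l2 : closure {s * d.z, s * (d.a * r)} ≤ R :=
    (closure_le _).2 (by simp [Set.insert_subset_iff, mul_mem, *])
  have hs : closure {d.a * r, d.a * s * d.z} ⊔ closure {s * d.z, s * (d.a * r)} = R := by
    refine le_antisymm (sup_le l1 l2) ?_
    generalize hX : closure {d.a * r, d.a * s * d.z} ⊔ closure {s * d.z, s * (d.a * r)} = X
    have a1 : d.a * r ∈ X := hX ▸ mem_sup_left (subset_closure (by simp))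
    have a2 : d.a * s * d.z ∈ X := hX ▸ mem_sup_left (subset_closure (by simp))
    have a3 : s * d.z ∈ X := hX ▸ mem_sup_right (subset_closure (by simp))
    have a4 : s * (d.a * r) ∈ X := hX ▸ mem_sup_right (subset_closure (by simp))
    have a5 : d.a ∈ X := (mul_mem_cancel_right a3).1 (by rwa [← mul_assoc])
    have a6 : s ∈ X := (mul_mem_cancel_right a1).1 a4
    exact le (e1 ▸ mul_mem a1 a1) ((mul_mem_cancel_left a6).1 a3) a5 ((mul_mem_cancel_left a5).1 a1) a6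
  refine SR.of_sec (S1233.result hY (R.subgroupOf Y) _ _
    ((subgroupOfEquivOfLe (l1.trans hY')).trans f1) ((subgroupOfEquivOfLe (l2.trans hY')).trans f2)
    (fun x hx y hy => Subtype.ext ?_) (by rw [← hs, subgroupOf_sup (l1.trans hY') (l2.trans hY')])
    ((Nat.card_congr (subgroupOfEquivOfLe hY').toEquiv).trans c32) fun y hy => ?_)
  · refine (Cj.of_cent (H := closure {s * d.z, s * (d.a * r)}) ((closure_le _).2 ?_ hx) hy).comm
    rintro _ (rfl | rfl) <;> refine mem_cent_closure ?_ <;> rintro _ (rfl | rfl)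
    exacts [.of_comm e7, .of_comm e8, .of_comm e9, .of_comm e10]
  · have c : ∀ x ∈ R, Cj y.1 x x := fun x hx =>
      .of_comm (congrArg Subtype.val (hy ⟨x, hY' hx⟩ hx)).symm
    rcases hc y y.2 (c _ m2) (c _ m3) (c _ m4) (c _ m5) with e | e <;> rw [mem_subgroupOf, e]
    exacts [one_mem _, m1]

/-- The layer of type II (compare `lay1h` in `HSD/LayT`).  `r₀` acts on `A₁` by `t ↦ t u z, a ↦ a u` (fixing `u, z`), `r₁ r₀ r₁⁻¹` by `t ↦ t a u, z ↦ z u`,
`h₀` by `t ↦ t u`.  `F` := elements of `N(A₁)` acting as `t ↦ t u^j z^p a^q`, `z ↦ z u^q`, `a ↦ a u^p`, `u ↦ u` (a subgroup containing `C(A₁)`, `r₀, h₀`; normalized by `r₁`, `S₀`; squares centralize `A₁`).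
`LQ` with `A = A₁` (`sylQ1`), `R = S₀⟨r₀,h₀⟩ ≤ T`, `v = b`, `r = r₁` gives `Q ∋ r₀, h₀` and `ρ`.  `s₀ = ρ r₀ ρ⁻¹`, `s₀' = ρ s₀ ρ⁻¹`; `b r₀ b = r₀`, `b s₀ b = s₀'`.
`s₀ : t ↦ t a u, z ↦ z u`, `s₀' : t ↦ t a z u, z ↦ z u, a ↦ a u`; `m = r₀ s₀ s₀'` centralizes `A₁`, so `m ∈ Q ⊓ C(A₁) ≤ A₁`, and `ρ m ρ⁻¹ = r₀⁻¹ m r₀` gives
`m ∈ {u^j, t a u^j}`; `r₀ ↦ r₀ u` multiplies `m` by `u`, `r₀ ↦ r₀ t` by `t a` mod `u`.  So `r = r₀ t^i u^j` has `r s s' = 1`; conjugating by `b`: `r s' s = 1`, so `r, s` commute.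
`r² ∈ Z₀` (`regZ`), `r² s² s'² = 1` and `r²` commutes with `r`: `r² = z^l`; `r` commutes with `s² = a^l`, so `l = 0`.  `s b s = s s'⁻¹ b = r b`.
`h₀⁻¹ ρ h₀ ρ⁻¹ ∈ A₁`; as in `lay1h` there is `x ∈ ⟨z⟩` with `k = h₀ x` fixed by `ρ`.  `k r k⁻¹ = r y`, `y ∈ Z₀` (`regZ`: `[k,r]` centralizes `S₀`); applying `k` to `r² = 1` and `r s s' = 1`
(`k s k⁻¹ = s ρ(y)`, ..) gives `y ∈ ⟨u z⟩`; if `y = u z` replace `k` by `k t` (`t r t = r u z`).  `k² ∈ Z₀` is fixed by `ρ` and `k`, so `k² = u^μ`. -/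
theorem layII (ε : d.Eps) {T : Subgroup G} (hT : IsPGroup 2 T) (hS : d.S0 ≤ T) {r₀ h₀ : G} {ν : Bool}
    (hr : r₀ ∈ T) (hh : h₀ ∈ T) (acr : d.Ac r₀ (d.t * d.u * d.z) d.u (d.a * d.u) d.b)
    (ach : d.Ac h₀ (d.t * d.u) d.u d.a (d.b * bp d.u ν)) :
    ∃ r s k ρ μ, d.LayII r s k ρ μ ν ∧ r₀⁻¹ * r ∈ d.Z0 ∧ h₀⁻¹ * k ∈ d.Z0 := by
  obtain ⟨Q, ρ, w, hQ⟩ := h.exists_QR2 ε hT hS
  have rQ := hQ _ hr ⟨_, _, _, _, _, h.tw_r acr⟩
  obtain ⟨i, j, e⟩ := h.l2_r w rQ acr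
  have c : Cj ρ (d.el i j false false false) (d.el i j false false false) := h.qr_el w ..
  have a1 := h.acmZ acr i j false
  have m1 := mul_mem hr (hS (h.el_S0 i j false false false))
  have p1 := (Cj.cj ρ r₀).mul c
  have p2 := (Cj.cj ρ (ρ * r₀ * ρ⁻¹)).mul c
  obtain ⟨rr, ss, sr, e5, sb⟩ := h.l2_core ε w hT hS (mul_mem rQ (w.A (h.el_A1 _ _ _ _))) m1 a1 p1 p2 e
  rw [e5] at p2
  obtain ⟨i', m, μ, k1, k2, k3⟩ := h.l2_k ε w hT hS m1 a1 rr ss p1 p2
    (hQ _ hh ⟨_, _, _, _, _, h.tw_h ach⟩) hh ach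
  have cs := h.tw_cj (h.qr_el w) (h.tw_r a1) p1
  refine ⟨_, _, _, ρ, μ, ⟨a1, rr, (h.tw_t cs).to ?_, h.tw_u cs, (h.tw_z cs).to ?_,
    (h.tw_a cs).to h.el_a.symm, sb, ss, sr, h.acmZ ach .., k1, k1.tr k2 p1 p1, k3, w.pt, w.pu, w.pz,
    w.pa, p1, p2, k2, w.bp', w.odd⟩, ?_, ?_⟩
  · rw [h.el_t, h.el_a, h.el_u, h.el_mul, h.el_mul]; rfl
  · rw [h.el_z, h.el_u, h.el_mul]; rfl
  · rw [inv_mul_cancel_left]; exact h.el_Z0 _ _ _
  · rw [inv_mul_cancel_left]; exact h.el_Z0 _ _ _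

end Dat.Cfq

end Cfsg.Agent.HSE
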