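import Mathlib
import Cfsg.Agent.HSE.LayII
import Cfsg.Agent.HSE.C2U

/-! Type (II, II): normal forms. -/

set_option autoImplicit false
set_option linter.unusedSectionVars false
set_option linter.unusedVariables false
set_option linter.unusedSimpArgs false
set_option maxRecDepth 100000
set_option synthInstance.maxHeartbeats 400000
set_option synthInstance.maxSize 4096

namespace Cfsg.Agent.HSE

open Cfsg Subgroup Cfsg.Agent.PLocal Cfsg.Agent.PLocal.Amb Cfsg.Agent.MacW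

variable {G : Type*} [Group G] [Finite G]

namespace Dat.Cfq

variable {d : Dat G} (h : d.Cfq)
include h

/-- the two layers in type (II, II) -/
structure L2 (d : Dat G) (r s k ρ₁ s₂ ρ₂ : G) (κ : Bool) : Prop where
  l1 : d.LayII r s k ρ₁ true true
  l2 : d.sw.LayII (k * d.a * d.t * bp d.z κ) s₂ (r * d.b * d.t * bp d.u κ) ρ₂ true true

/-- the element `w` in type (II, II) -/
structure W2 (d : Dat G) (w r s k s₂ : G) (κ j : Bool) : Prop extends d.E2 w where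
  wr : Cj w r (k * d.a * d.t * bp d.z κ)
  ws : Cj w s s₂
  wh : Cj w k (r * d.b * d.t * bp d.u κ * bp (d.u * d.z) (κ ^^ j))
  w2 : w * w = bp d.t j

/-- the group `T* = ⟨z,u,a,b,t,r,h,E,s⟩` of order `512` (`h := k`), and `σ` acting on `S₁⟨E⟩`; script `tools/hsd_c2d.py`, `build(κ, j)` -/
structure TII (d : Dat G) (r s k ρ σ E : G) (κ j : Bool) : Prop where
  l1 : d.LayII r s k ρ true true
  acE : d.Ac E (bp d.z (!j) * bp d.u (κ ^^ j) * d.b * r * k) d.u (bp d.z (!κ) * bp d.u (!(κ ^^ j)) * r)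
    (d.z * d.u * d.a * d.t * k)
  Er : Cj E r (bp d.z (!κ) * d.a)
  Eh : Cj E k (bp d.u (κ ^^ j) * k)
  EE : E * E = bp (d.a * r * k) (!(κ ^^ j))
  sE : Cj s E (bp (d.a * r * k) (!κ) * E)
  acσ : d.Ac σ (d.z * bp d.u κ * d.a * d.b * d.t * r) (d.z * d.u) (d.z * d.u * d.a * d.t * k)
    (bp d.z (!κ) * d.b * r)
  σr : Cj σ r (bp d.u (!κ) * d.b)
  σh : Cj σ k (d.z * bp d.u (!κ) * d.b * d.t * r)
  σE : Cj σ E E

open C2 Cfsg.Agent.X32 in
/-- `S₁ = S₀⟨r,h⟩` (order 128, centre `U`, class 2).  `lift_U` puts `r₀, h₀` (and `w ∈ S`) in a 2-group `T ≥ S`.  `layII` (`ν = 1`) gives `r, s, h, ρ₁, μ₁`.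
Side 2 (`d.sw`): `r₀' = h a`, `h₀' = r b` have the required `Ac` with `ν = 1`; `layII` for `d.sw` (for `ε = 2`: the `w`-conjugate of side 1, `regZ`) gives
`r₂ = h a t^i y`, `h₂ = r b t^{i'} y'` (`y, y' ∈ U`).  `r₂² = 1` gives `i = μ₁`; `h₂² = (u z)^{μ₂}` gives `i' = μ₂`; `[h₂, r₂] = z^{1+i} u^{i+i'} = 1` gives `i = i' = 1`.
`LayII` is invariant under `h ↦ h u`; so `r₂ = h a t z^{κ'}` (change `h`) and `h₂ = r b t u^κ` (change `h₂` by `u z`).  `κ ≠ κ'` is impossible: `s, s₂` normalize `S₁`, and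
`g = r (s₂ s)³` (`κ = 1, κ' = 0`) resp. `g = a h (s₂ s)³` (`κ = 0, κ' = 1`) fixes `t, u, a, b, r` and maps `h ↦ u h` (check with `tools/hsd_c2.py`); an odd power `g'` of `g` is a 2-element with the same action, `S₁⟨g'⟩` is a
2-group (`two_sup`), `regZ` gives `g' ∈ Z₀`, but `t` moves `r`.  For `ε = 2`: `w h w⁻¹ = h₂ (u z)^i`, `w² = t^j`, and `w r₂ w⁻¹ = t^j r t^j = r (u z)^j` gives `i = κ + j`. -/
theorem layC2 (c : d.CII) : ∃ r s k ρ₁ s₂ ρ₂ κ, L2 d r s k ρ₁ s₂ ρ₂ κ ∧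
    (d.E1 ∨ ∃ w j, W2 d w r s k s₂ κ j) := by
  obtain ⟨nt, ⟨r₀, acr⟩, ⟨h₀, ach⟩, c⟩ := c
  have ε := Eps.of c
  obtain ⟨T, hT, hS', lift⟩ := h.lift_T c
  have hS := h.le.trans hS'
  obtain ⟨r₀, hr₀, acr⟩ := lift acr (mul_mem (mul_mem d.t_S0 d.u_S0) h.z_S0) h.lt_u
    (mul_mem d.a_S0 d.u_S0) d.b_S0 (r_z h acr)
  obtain ⟨h₀, hh₀, ach⟩ := lift ach (mul_mem d.t_S0 d.u_S0) h.lt_u d.a_S0 (mul_mem d.b_S0 d.u_S0)
    (k_z h (ν := true) ach)
  obtain ⟨r, s, k, ρ, μ, L, hr, hk⟩ := h.layII (ν := true) ε hT hS hr₀ hh₀ acr ach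
  replace hr := h.lt_Z0 hS hr₀ hr
  replace hk := h.lt_Z0 hS hh₀ hk
  have rz := r_z h L.acr
  have kz := k_z h L.ach
  have az : Cj d.a d.z d.z := .of_comm h.za.symm
  have bz : Cj d.b d.z d.z := .of_comm h.zb.symm
  have a1 : d.sw.Ac (k * d.a) (d.t * (d.u * d.z) * d.z) (d.u * d.z) (d.b * (d.u * d.z)) d.a :=
    ⟨((Cj.of_comm h.at').comp L.ach.t).to (by rw [mul_assoc, ← h.u_sw]),
      ((Cj.of_comm h.au).mul az).comp (L.ach.u.mul kz),
      ((a_b h).comp (L.ach.b.mul kz)).to (mul_assoc ..), (Cj.self _).comp L.ach.a⟩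
  have a2 : d.sw.Ac (r * d.b) (d.t * (d.u * d.z)) (d.u * d.z) d.b (d.a * (d.u * d.z)) :=
    ⟨((Cj.of_comm h.bt).comp L.acr.t).to (mul_assoc ..), ((Cj.of_comm h.bu).mul bz).comp (L.acr.u.mul rz),
      (Cj.self _).comp L.acr.b, ((b_a h).comp (L.acr.a.mul rz)).to (mul_assoc ..)⟩
  have m1 := mul_mem hk (hS d.a_S0)
  have m2 := mul_mem hr (hS d.b_S0)
  rcases c with c | ⟨w, c⟩
  · obtain ⟨r₂, s₂, k₂, ρ₂, μ₂, L2, h1, h2⟩ :=
      h.sw.layII (ν := true) (h.sw_eps ε) hT (h.sw_S0 ▸ hS) m1 m2 a1 a2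
    rw [h.sw_Z0] at h1 h2
    obtain ⟨rfl, rfl, j, m, j', m', rfl, e⟩ := side h L h1 h2 L2.rr L2.hh L2.hr
    have L1 := layII_mul h L j
    have L3 : d.sw.LayII _ s₂ (k₂ * bp (d.u * d.z) m') ρ₂ true true := layII_mul h.sw L2 m'
    rw [e, show r * d.b * d.t * bp d.u j' = r * d.b * d.t * bp d.u j' from rfl] at L3
    obtain ⟨ψ, S⟩ := shom h L1
    obtain rfl := S.kappa h ε L1 L3
    exact ⟨r, s, _, ρ, s₂, ρ₂, m, ⟨L1, L3⟩, .inl c⟩
  · have hw := hS' c.mem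
    have wt := h.wt c.mem
    have wz := h.cz_sw c.a c.b
    have wr := Cj.cj w r
    have wk := Cj.cj w k
    have L2 : d.sw.LayII _ _ _ _ μ true :=
      layII_tr (d' := d.sw) L wt c.u c.a c.b wz wr (Cj.cj w s) wk (Cj.cj w ρ)
    have z : ∀ {x y t' u' a' b'}, x ∈ T → y ∈ T → d.sw.Ac x t' u' a' b' → d.sw.Ac y t' u' a' b' →
        x⁻¹ * y ∈ d.Z0 := fun hx hy c1 c2 => h.sw_Z0 ▸ h.sw.regZ (h.sw_eps ε) hT (h.sw_S0 ▸ hS)
      (mul_mem (inv_mem hx) hy) (c2.comp c1.t.symm c1.u.symm c1.a.symm c1.b.symm)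
    obtain ⟨rfl, -, j, m, j', m', e1, e2⟩ := side h L
      (z m1 (mul_mem (mul_mem hw hr) (inv_mem hw)) a1 L2.acr)
      (z m2 (mul_mem (mul_mem hw hk) (inv_mem hw)) a2 L2.ach) L2.rr L2.hh L2.hr
    have L1 := layII_mul h L j
    have L3 : d.sw.LayII _ _ (w * k * w⁻¹ * bp (d.u * d.z) m') _ true true := layII_mul h.sw L2 m'
    rw [e1, e2] at L3
    obtain ⟨ψ, S⟩ := shom h L1
    obtain rfl := S.kappa h ε L1 L3
    obtain ⟨i, ww⟩ : ∃ i, w * w = bp d.t i := c.ww.elim (fun e => ⟨false, e⟩) fun e => ⟨true, e⟩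
    rw [e1] at wr
    have wk' : Cj w (k * bp d.u j) (r * d.b * d.t * bp d.u m * bp (d.u * d.z) (m' ^^ j)) :=
      (wk.mul (c.u.bp j)).to (by
        rw [← e2, mul_assoc (w * k * w⁻¹), h.el_u, h.el_z]
        simp only [h.el_mul, h.bp_el, mul_left_cancel_iff, h.el_eq_iff]
        cases m' <;> cases j <;> decide)
    have e3 : (m' ^^ j) = (m ^^ i) := by
      have := wr.comp (((wk'.mul c.a).mul wt).mul (wz.bp m))
      rw [ww] at this
      generalize k * bp d.u j = k at S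
      generalize (m' ^^ j) = n at this
      simp only [S.all, ← map_mul, ← map_bp, cj_iff S.inj] at this
      revert this
      cases n <;> cases m <;> cases i <;> exact BD.of (by decide +kernel)
    exact ⟨r, s, _, ρ, _, _, m, ⟨L1, L3⟩, .inr ⟨w, i, c, wr, Cj.cj _ _, e3 ▸ wk', ww⟩⟩

open C2 C2S I1 Pc Cfsg.Agent.X32 in
/-- `s₂` acts on `S₁` by `z ↔ u, a ↦ z^κ u t h, b ↦ b, t ↦ z u b t, r ↦ (z u)^{1-κ} b r, h ↦ z u^{1-κ} a b t`.  `k₀ = a r h` is an involution; `σ₀ = s s₂ k₀^{1-κ}` acts on `S₁` as in `acσ, σr, σh` (order 3),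
`s σ₀ s σ₀ ∈ C(S₁)`, `C_{S₁}(σ₀) = ⟨k₀⟩`.  `e₀ = w s s₂ s b^j` acts on `S₁` as in `acE, Er, Eh`; this action commutes with that of `σ₀`, its square is the action of `k₀^{1+κ+j}`, its commutator with `s` the action of `k₀^{1-κ}`.
`LQ` with `A = S₁` (`sylQ0`), `F = S₁⟨e₀⟩C(S₁)`, `R = S₁⟨s⟩`, `v = s`, `r = σ₀` gives `Q ≥ S₁`, `σ ≡ σ₀` of odd order inverted by `s`, `Q ⊓ C(S₁) ≤ Z(S₁) = U`, and `E ∈ Q`, `E ≡ e₀` mod `C(S₁)`.
`σ E σ⁻¹ = E y`, `y ∈ U`; `σ` is fixed-point-free on `U`, so after `E ↦ E y'` it commutes with `σ`.  Then `E² ∈ k₀^? U` and `s E s E⁻¹ ∈ k₀^? U` commute with `σ`. -/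
theorem exists_TII {r s k ρ₁ s₂ ρ₂ w : G} {κ j : Bool} (L : L2 d r s k ρ₁ s₂ ρ₂ κ) (W : W2 d w r s k s₂ κ j) :
    ∃ σ E, TII d r s k ρ₁ σ E κ j := by
  have ε : d.Eps := .inr ⟨w, W.toE2.to'⟩
  obtain ⟨ψ, S⟩ := shom h L.l1
  obtain ⟨p1, p2, p3, p4, p5, p6, p7⟩ := S.all
  have A1 := S.actS L.l1
  have A2 := S.actT h L.l2
  have Wa : Act ψ w (lkE (sW κ j)) := S.act _ (h.cz_sw W.a W.b) W.u W.a W.b (h.wt W.mem) W.wr W.wh (by
    simp only [S.all, ← map_mul, ← map_bp, S.inj.eq_iff]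
    cases κ <;> cases j <;> exact BD.of (by decide +kernel))
  have R0 : Act ψ _ (lkE (sG κ)) := ((A1.comp A2).comp (Act.inner ψ (bp (ga * gr * gh) (!κ)))).congr
    (by cases κ <;> exact BD.of (by decide +kernel))
  have C0 : Act ψ _ (lkE (sE κ j)) := (((Wa.comp A1).comp A2).comp (A1.comp (Act.inner ψ (bp gb j)))).congr
    (by cases κ <;> cases j <;> exact BD.of (by decide +kernel))
  generalize s * s₂ * ψ (bp (ga * gr * gh) !κ) = σ₀ at R0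
  generalize w * s * s₂ * (s * ψ (bp gb j)) = c₀ at C0
  have K1 := Act.inner ψ (bp (ga * gr * gh) (!(κ ^^ j)))
  have K2 := Act.inner ψ (bp (ga * gr * gh) (!κ))
  set A := ψ.range with hA
  have n0 : c₀ ∈ 𝐍[A ⊔ 𝐂[A]] := norm_D C0.norm
  have s0 : c₀ * c₀ ∈ A ⊔ 𝐂[A] := I1.mem_D ⟨_, rfl⟩ ((C0.comp C0).cent K1
    (by cases κ <;> cases j <;> exact BD.of (by decide +kernel)))
  have cm : ∀ {g a : G}, g ∈ 𝐍[A] → a ∈ A → (g * c₀) * (a * c₀ * g)⁻¹ ∈ 𝐂[A] →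
      g ∈ 𝐍[(A ⊔ 𝐂[A]) ⊔ zpowers c₀] := fun {g a} h1 ha h2 => norm_ext (norm_D h1) (by
      have := mul_mem (mem_sup_left (mul_mem (mem_sup_right h2 : _ ∈ A ⊔ 𝐂[A]) (mem_sup_left ha)) :
        _ ∈ (A ⊔ 𝐂[A]) ⊔ zpowers c₀) (mem_sup_right (mem_zpowers c₀))
      convert this using 1
      group)
  obtain ⟨Q, σ, -, q2, q3, q4, q5, q6, q7, q8, -, q10⟩ := LQ (F := (A ⊔ 𝐂[A]) ⊔ zpowers c₀)
    (R := A ⊔ zpowers s) (r := σ₀) (v := s) (h.sylQ0 ε S.pgrp S.S0)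
    (le_sup_left.trans le_sup_left) (le_sup_right.trans le_sup_left)
    (sup_le (D_le A) (zpowers_le.2 C0.norm)) (fun g hg => by
      obtain ⟨j, hj⟩ := pow_D S.pgrp (sq_ext n0 s0 hg)
      exact ⟨j + 1, by rwa [pow_succ', pow_mul, pow_two]⟩)
    (two_sup S.pgrp A1.norm (k := 1) (by rw [pow_one, pow_two, L.l1.ss]))
    le_sup_left (sup_le le_normalizer (zpowers_le.2 A1.norm))
    (sup_le ((le_sup_left.trans le_sup_left).trans le_normalizer) (zpowers_le.2 (cm A1.norm ⟨_, rfl⟩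
      ((A1.comp C0).cent ((K2.comp C0).comp A1)
        (by cases κ <;> cases j <;> exact BD.of (by decide +kernel))))))
    R0.norm (cm R0.norm ⟨_, rfl⟩ ((R0.comp C0).cent (((Act.inner ψ 1).comp C0).comp R0)
      (by cases κ <;> cases j <;> exact BD.of (by decide +kernel))))
    (mem_sup_right (mem_zpowers _)) L.l1.ss
    ((((A1.comp R0).comp A1).comp R0).cent1 (by cases κ <;> exact BD.of (by decide +kernel)))
    (by rw [pow_three]
        exact (R0.comp (R0.comp R0)).cent1 (by cases κ <;> exact BD.of (by decide +kernel)))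
  have AQ : A ≤ Q := le_trans (le_inf le_sup_left (le_sup_left.trans le_sup_left)) q2
  obtain ⟨c₁, m1, hc1⟩ := q5 c₀ (mem_sup_right (mem_zpowers c₀))
  have C1 := C0.of_cent (g' := c₁) (by simpa using inv_mem hc1)
  have P := R0.of_cent q7
  have cen : ∀ {n}, n ∈ Q → n ∈ 𝐂[A] → ∃ n' ∈ [1, gz, gu, gz * gu], n = ψ n' := fun h1 h2 =>
    S.cen (q4 (mem_inf.2 ⟨h1, h2⟩)) h2
  obtain ⟨E, m, C, pc⟩ : ∃ E ∈ Q, Act ψ E (lkE (sE κ j)) ∧ Cj σ E E := by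
    have a1 : c₁⁻¹ * (σ * c₁ * σ⁻¹) ∈ 𝐂[A] := by
      have := conj_mem_of_mem_normalizer (normalizer_le_normalizer_centralizer _ P.norm)
        ((P.comp C1).cent' (C1.comp P) (by cases κ <;> cases j <;> exact BD.of (by decide +kernel)))
      have := inv_conj_mem_of_mem_normalizer (normalizer_le_normalizer_centralizer _ P.norm)
        (conj_mem_of_mem_normalizer (normalizer_le_normalizer_centralizer _ P.norm) this)
      convert this using 1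
      group
    obtain ⟨y, hy, e⟩ := cen (mul_mem (inv_mem m1) (conj_mem_of_mem_normalizer q6 m1)) a1
    obtain ⟨y', e1, e2⟩ : ∃ y' : C2S.K, y * lkE (sG κ) y' = y' ∧ ∀ x, y' * x * y'⁻¹ = x := by
      revert y
      have : ∀ y ∈ [1, gz, gu, gz * gu], ∃ y' : C2S.K, y * lkE (sG κ) y' = y' ∧ ∀ x, y' * x * y'⁻¹ = x := by
        cases κ <;> exact BD.of (by decide +kernel)
      exact fun y hy _ => this y hy
    refine ⟨c₁ * ψ y', mul_mem m1 (AQ ⟨_, rfl⟩), (C1.comp (Act.inner ψ y')).congr fun x => by rw [e2],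
      (Cj.mul (inv_mul_eq_iff_eq_mul.1 e) (P y')).to (by rw [mul_assoc, ← map_mul, e1])⟩
  have fx : ∀ {n}, n ∈ Q → n ∈ 𝐂[A] → Cj σ n n → n = 1 := fun h1 h2 h3 => by
    obtain ⟨y, hy, rfl⟩ := cen h1 h2
    have := S.inj (h3.unique (P y))
    rw [map_eq_one_iff ψ S.inj]
    revert y
    have : ∀ y ∈ [1, gz, gu, gz * gu], y = lkE (sG κ) y → y = 1 := by
      cases κ <;> exact BD.of (by decide +kernel)
    exact fun y hy _ _ _ => this y hy
  have pk : ∀ i, Cj σ (ψ (bp (ga * gr * gh) i)) (ψ (bp (ga * gr * gh) i)) := fun i =>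
    P.cj rfl rfl (by cases κ <;> cases i <;> exact BD.of (by decide +kernel))
  have EE := fx (mul_mem (inv_mem (AQ ⟨_, rfl⟩)) (mul_mem m m)) ((C.comp C).cent' K1
    (by cases κ <;> cases j <;> exact BD.of (by decide +kernel))) ((pk _).inv.mul (pc.mul pc))
  have sQ : s ∈ 𝐍[Q] := q3 (mem_sup_right (mem_zpowers _))
  have si : s⁻¹ = s := inv_eq_of_mul_eq_one_right L.l1.ss
  have sE := fx (n := (ψ (bp (ga * gr * gh) (!κ)) * E)⁻¹ * (s * E * s))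
    (mul_mem (inv_mem (mul_mem (AQ ⟨_, rfl⟩) m)) (by
      have := conj_mem_of_mem_normalizer sQ m
      rwa [si] at this))
    (((A1.comp C).comp A1).cent' (K2.comp C)
      (by cases κ <;> cases j <;> exact BD.of (by decide +kernel)))
    (((pk _).mul pc).inv.mul (by
      have e : Cj s σ⁻¹ σ := by
        rw [Cj, si, ← eq_inv_of_mul_eq_one_left q8]
        simp only [← mul_assoc, L.l1.ss, one_mul]
        rw [mul_assoc, L.l1.ss, mul_one]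
      have := (cj_from pc.symm rfl).tr e (Cj.cj s E) (Cj.cj s E)
      rwa [si] at this))
  rw [inv_mul_eq_one] at EE sE
  refine ⟨σ, E, L.l1, ⟨act_cj C p5 ?_, act_cj C p2 ?_, act_cj C p3 ?_, act_cj C p4 ?_⟩, act_cj C p6 ?_,
    act_cj C p7 ?_, EE ▸ ?_, by rw [Cj, si, ← sE, map_bp, map_mul, map_mul, p3, p6, p7],
    ⟨act_cj P p5 ?_, act_cj P p2 ?_, act_cj P p3 ?_, act_cj P p4 ?_⟩, act_cj P p6 ?_, act_cj P p7 ?_, pc⟩ <;>
  simp only [S.all, ← map_mul, ← map_bp, S.inj.eq_iff] <;>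
  cases κ <;> cases j <;> exact BD.of (by decide +kernel)

end Dat.Cfq

end Cfsg.Agent.HSE
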