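import Mathlib
import Cfsg.Agent.HSE.C2A
import Cfsg.Agent.HSE.C2T1

/-! Type (II, II), `ε = 2`: three of the four tables. -/

set_option autoImplicit false
set_option linter.unusedSectionVars false
set_option linter.unusedVariables false

namespace Cfsg.Agent.HSE

open Cfsg Subgroup Cfsg.Agent.PLocal Cfsg.Agent.PLocal.Amb Cfsg.Agent.MacW

variable {G : Type*} [Group G] [Finite G]

namespace C2

open Cfsg.Agent.X32 Pc N0

variable {d : Dat G} {w r s k ρ σ E : G} {T : Tab} [Fact T.OK] {φ : TG T →* G} {Pt Rt C : ℕ}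

section
variable (H : Hm d r s k φ c8) (F : F1 T Pt Rt) (nt : d.NT) (e2 : d.E2 w) {j : Bool}
  (I : Dat.Cfq.TII d r s k ρ σ E true j)
include H F nt e2 I

theorem Hm.nk : ¬ d.T (φ (ca * cr * ch)) :=
  H.h.notT_big H.pg H.inj (H.h.card_S2 e2.to' ▸ lt_of_lt_of_eq (by norm_num) F.nk.symm)

theorem Hm.bad1 : ∀ y ∈ lT, ¬ d.T (φ y) := by
  simp only [List.forall_mem_cons, List.not_mem_nil, false_imp_iff, implies_true, and_true]
  exact ⟨H.n1, H.nz nt, H.nu nt, H.na nt, H.nb nt, H.nk F nt e2 I,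
    fun c => H.na nt ((H.Trep' F.toFB F.rr).1 (c.cj' (H.ρs I.l1))),
    fun c => H.nk F nt e2 I (((H.Trep' F.toFB F.zhs).2 c).cj' (H.ρk I.l1))⟩

theorem Hm.bt : d.T (φ (cb * ct)) := (H.Trep' F.toFB F.bt).1 (by
  simpa only [map_mul, H.z, H.u, H.a, H.b, H.t, H.r, bp_true] using d.T_t.cj I.acσ.t)

theorem Hm.kt : k * d.t ∈ d.X := by
  have := (H.h.cj_X I.acσ.a).2 (H.h.KX H.h.a_K)
  have e := congrArg φ F.hat
  simp only [map_mul, H.z, H.u, H.a, H.t, H.k] at e
  rwa [e, mul_mem_cancel_left (mul_mem (H.h.KX H.h.z_K) (H.h.KX H.h.a_K))] at this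

end

theorem Hm.core10 (H : Hm d r s k φ c8) (F : F10 T Pt Rt C) (nt : d.NT) (e2 : d.E2 w)
    (I : Dat.Cfq.TII d r s k ρ σ E true false) : Bd G := by
  have h := H.h
  have cS := h.card_S2 e2.to'
  have al : ∀ m, d.T (φ m) → _ := fun m c =>
    (F.all m (H.Tsq c)).resolve_left (H.bad F.toFB (H.bad1 F.toF1 nt e2 I) c)
  have hP : IsSyl 2 φ.range ⊤ := H.crit F.toFB (H.bt F.toF1 nt e2 I) (by rw [cS, F.nbt])
    fun g hg m c x1 => by
      have a := cen_le' H.inj hg x1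
      rw [F.nbt] at a
      have b : lkE Rt m ∉ [c7 * c8, cz * cb * ct * c7 * c8] := fun b => by
        obtain ⟨v, e⟩ := conj_mem_of_mem_normalizer hg (⟨cz, rfl⟩ : φ cz ∈ φ.range)
        have x2 : Cj g (φ cz) (φ v) := e.symm
        have zz : φ cz * φ cz = 1 := H.z ▸ h.zz
        rcases F.Es _ b v (sq1 H.inj ((x2.mul x2).unique (zz ▸ Cj.one g)))
          (cm1 H.inj ((x2.mul x1).unique (cm2 (φ := φ) F.zbt ▸ x1.mul x2))) with rfl | rfl | q
        · rw [map_one, H.z] at x2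
          exact h.z1 (x2.symm.unique (Cj.one _))
        · have := cen_le' H.inj (inv_mem hg) x2.symm
          rw [F.nz, F.nu] at this; omega
        · have := cen_le' H.inj hg x2
          rw [F.nz] at this; omega
      have n1 := F.nE
      have n2 := F.nE'
      have n3 := F.nt
      rcases al m c with e | e | ⟨-, e | e | e | e⟩
      · exact absurd (by simp [e]) b
      · rw [e] at a; omega
      · rw [e] at a; omega
      · exact e
      · rw [e] at a; omega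
      · exact absurd (by simp [e]) b
  exact ⟨_, hP, by rw [card_range H.inj, TG.card, F.n]; norm_num⟩

end C2

namespace Dat.Cfq

variable {d : Dat G} (h : d.Cfq)
include h

/-! `T* = ⟨z,u,a,b,t,r,h,E,s⟩` (pc order; `tools/hsd_c2d.py`), order 512, `|S| = 64` (`card_S2`).  `Y₁ = ⟨z,u,a,b,r,h a t⟩` (order 64) and `s` lie in `X` (`layII_mem`, `KX`, `σ a σ⁻¹ = z u a t h`, `cj_X`);
`t, h, a r h ∈ t Y₁`.  Always `z ~ u ~ u z` (`σ`), `a, b ~ z`, `s ~ r`, `r ~ b` or `u b` (`σ`), `b t ∈ T` (`σ t σ⁻¹` is `T*`-conjugate to `b t`), `|C_{T*}(b t)| = 64`, `|C_{T*}(a r h)| = 128` so `a r h ∉ T`. -/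

variable {w r s k ρ σ E : G}

/-- `(κ, j) = (1, 0)`.  Classes (centralizer order): `z`(256), `u`(512), `a`(64), `b`(32), `t`(32), `b t`(64), `a r h`(128), `E`(32), `a b t E`(32), `s, z h s, E s, z b t E s`(64); `z h s ~ a r h` by `ρ`.
`crit2` with `y = b t`: `x ∈ N(T*)` preserves the class `{z, z u}` (the only one of size 2), `b t` commutes with `z`, the classes of `E s`, `z b t E s` do not.  So `T*` is Sylow in `G` and in `C(u)`.
`a r h ≁ u`: otherwise `g (a r h) g⁻¹ = u` with `H' = C_{T*}(a r h)^g ≤ T*` of order 128; `H' ⊓ R` (`R = ⟨u,z,a,r,s,h⟩ = 4 ∘ 2^{1+4}`, order 64) has order `≥ 16`, is not elementary abelian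
(`R` has 2-rank 3), so contains an element with square `u`; but `a r h` is not a square in `T*`.
`E s ∉ T`: `F = ⟨u, a r h, E, s⟩ ≅ 2⁴` centralizes `E s`; `conjT`, `eq_A` map `F` onto `A₁` or `A₂`, and every nontrivial element of `Aᵢ` is in `T` or conjugate to `u`
(`t Uᵢ ⊆ T` by the layers, `Uᵢ` by `r₁, r₂, σ`); but `a r h` is neither.
`thompson` with `R = S`, `M = Y₁⟨s,E⟩` (mask of `t, h`): a conjugate of `t` in `M` with `S^g ≤ T*` has centralizer `≥ 64` in `T*`, so is in the class of `z, u, a, s, E s`.  So `t ∉ X`, `h ∉ X`,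
`Y = T* ⊓ X ≥ R₁`, `C_{T*}(R₁) = ⟨h⟩`; `srQQ`, `SR.syl`. -/
theorem caseII10 (nt : d.NT) (e2 : d.E2 w) (H : TII d r s k ρ σ E true false) : Bd G := by
  obtain ⟨φ, H', e⟩ := C2.hom h C2.T10.hc C2.T10.hR (n := 8) (by decide) (by decide) (C2.relT h H)
    C2.T10.fb rfl
  exact H'.core10 C2.T10.f10 nt e2 H

end Dat.Cfq

end Cfsg.Agent.HSE
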