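import Mathlib
import Cfsg.Agent.HSE.Pc

/-! Normal forms in `S₀ = ⟨t, u⟩ × D₈` and the symmetries `tw`, `sw`. -/

set_option autoImplicit false
set_option linter.unusedSectionVars false
set_option linter.unusedVariables false

namespace Cfsg.Agent.HSE

open Cfsg Subgroup Cfsg.Agent.PLocal Cfsg.Agent.PLocal.Amb Cfsg.Agent.MacW

variable {G : Type*} [Group G] [Finite G]

theorem bp_comm {g x : G} (h : g * x = x * g) (i j : Bool) (r : G) :
    bp g i * (bp x j * r) = bp x j * (bp g i * r) := by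
  cases i <;> cases j <;> simp [← mul_assoc, h]

theorem bp_xor {g : G} (h : g * g = 1) (i j : Bool) (r : G) :
    bp g i * (bp g j * r) = bp g (i ^^ j) * r := by
  cases i <;> cases j <;> simp [← mul_assoc, h]

theorem bp_mem {H : Subgroup G} {g : G} (h : g ∈ H) (i : Bool) : bp g i ∈ H := by
  cases i
  · exact one_mem _
  · exact h

theorem mem_norm_closure {s : Set G} {g : G} (h : ∀ x ∈ s, g * x * g⁻¹ ∈ closure s) :
    g ∈ 𝐍[closure s] := by
  refine mem_normalizer_fintype fun n hn => (?_ : g * n * g⁻¹ ∈ closure s)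
  induction hn using closure_induction with
  | mem x hx => exact h x hx
  | one => simp
  | mul x y _ _ a b => convert mul_mem a b using 1; group
  | inv x _ a => convert inv_mem a using 1; group

theorem mem_cent_closure {s : Set G} {g : G} (h : ∀ x ∈ s, Cj g x x) : g ∈ 𝐂[closure s] := by
  rw [centralizer_closure]
  exact fun x hx => (h x hx).comm.symm

theorem Cj.of_cent {H : Subgroup G} {g x : G} (h : g ∈ 𝐂[H]) (hx : x ∈ H) : Cj g x x :=
  Cj.of_comm (h x hx).symm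

theorem Cj.mem {H : Subgroup G} {g x y : G} (h : Cj g x y) (hn : g ∈ 𝐍[H]) (hx : x ∈ H) : y ∈ H :=
  h ▸ conj_mem_of_mem_normalizer hn hx

namespace Dat

variable {d : Dat G}

/-- `ε = 1` or `ε = 2` -/
def Eps (d : Dat G) : Prop := d.E1 ∨ ∃ w, d.E2' w

theorem E2.to' {w : G} (h : d.E2 w) : d.E2' w := ⟨h.mem, h.cov, h.a, h.b, Or.inl h.u, h.ww⟩

theorem Eps.of (h : d.E1 ∨ ∃ w, d.E2 w) : d.Eps := h.imp_right fun ⟨w, hw⟩ => ⟨w, hw.to'⟩

theorem T.cj {g x y : G} (h : d.T x) (c : Cj g x y) : d.T y := h.trans c.isConj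
theorem T.cj' {g x y : G} (h : d.T y) (c : Cj g x y) : d.T x := h.cj c.symm
theorem T_t (d : Dat G) : d.T d.t := IsConj.refl _
theorem T.exists {y : G} (h : d.T y) : ∃ g, Cj g d.t y := isConj_iff.1 h

def V1 (d : Dat G) : Subgroup G := closure {d.z, d.a}
def V2 (d : Dat G) : Subgroup G := closure {d.z, d.b}
def U1 (d : Dat G) : Subgroup G := closure {d.u, d.z, d.a}
def U2 (d : Dat G) : Subgroup G := closure {d.u, d.z, d.b}

/-- normal form in `S₀` -/
def el (d : Dat G) (i j k l m : Bool) : G :=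
  bp d.t i * bp d.u j * bp d.a k * bp d.b l * bp d.z m

theorem Ac.comp {g k t' u' a' b' t'' u'' a'' b'' : G} (h : d.Ac k t' u' a' b') (h1 : Cj g t' t'')
    (h2 : Cj g u' u'') (h3 : Cj g a' a'') (h4 : Cj g b' b'') : d.Ac (g * k) t'' u'' a'' b'' :=
  ⟨h.t.comp h1, h.u.comp h2, h.a.comp h3, h.b.comp h4⟩

/-- elements acting alike on `S₀` -/
theorem Ac.of_cent {g k t' u' a' b' : G} (h : d.Ac g t' u' a' b') (hc : g⁻¹ * k ∈ 𝐂[d.S0]) :
    d.Ac k t' u' a' b' := by
  have e : k = g * (g⁻¹ * k) := by group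
  have c : ∀ x ∈ ({d.t, d.u, d.a, d.b} : Set G), Cj (g⁻¹ * k) x x := fun x hx =>
    Cj.of_cent hc (subset_closure hx)
  rw [e]
  exact ⟨(c _ (by simp)).comp h.t, (c _ (by simp)).comp h.u, (c _ (by simp)).comp h.a,
    (c _ (by simp)).comp h.b⟩

theorem Ac.cent {g : G} (h : d.Ac g d.t d.u d.a d.b) : g ∈ 𝐂[d.S0] :=
  mem_cent_closure (by simp [h.t, h.u, h.a, h.b])

theorem Ac.norm {g t' u' a' b' : G} (h : d.Ac g t' u' a' b') (h1 : t' ∈ d.S0) (h2 : u' ∈ d.S0)
    (h3 : a' ∈ d.S0) (h4 : b' ∈ d.S0) : g ∈ 𝐍[d.S0] :=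
  mem_norm_closure (by
    rintro x (rfl | rfl | rfl | rfl)
    exacts [h.t ▸ h1, h.u ▸ h2, h.a ▸ h3, h.b ▸ h4])

theorem t_S0 (d : Dat G) : d.t ∈ d.S0 := subset_closure (by simp)
theorem u_S0 (d : Dat G) : d.u ∈ d.S0 := subset_closure (by simp)
theorem a_S0 (d : Dat G) : d.a ∈ d.S0 := subset_closure (by simp)
theorem b_S0 (d : Dat G) : d.b ∈ d.S0 := subset_closure (by simp)

namespace Cfq

variable (h : d.Cfq)
include h

theorem z_eq : d.z = d.a * d.b * d.a * d.b := by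
  rw [mul_assoc d.a, h.ba, ← mul_assoc, ← mul_assoc, h.aa, one_mul, mul_assoc, h.zb, ← mul_assoc,
    h.bb, one_mul]
theorem cz {g a' b' : G} (h1 : Cj g d.a a') (h2 : Cj g d.b b') : Cj g d.z (a' * b' * a' * b') :=
  h.z_eq ▸ ((h1.mul h2).mul h1).mul h2
theorem cz' {g : G} (h1 : Cj g d.a d.a) (h2 : Cj g d.b d.b) : Cj g d.z d.z :=
  (h.cz h1 h2).to h.z_eq.symm
theorem z_eq' : d.z = d.b * d.a * d.b * d.a := by
  rw [mul_assoc (d.b * d.a), h.ba, mul_assoc (d.a * d.b), ← mul_assoc d.z, ← mul_assoc d.z, h.za,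
    mul_assoc d.a d.z, h.zb, mul_assoc d.a (d.b * d.z), mul_assoc d.b d.z, h.zz, mul_one,
    ← mul_assoc, ← h.z_eq]
theorem cz_sw {g : G} (h1 : Cj g d.a d.b) (h2 : Cj g d.b d.a) : Cj g d.z d.z :=
  (h.cz h1 h2).to h.z_eq'.symm
theorem zt : d.z * d.t = d.t * d.z :=
  (h.cz' (Cj.of_comm h.at'.symm) (Cj.of_comm h.bt.symm)).comm.symm
theorem zu : d.z * d.u = d.u * d.z :=
  (h.cz' (Cj.of_comm h.au.symm) (Cj.of_comm h.bu.symm)).comm.symm
theorem z_S0 : d.z ∈ d.S0 := by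
  rw [h.z_eq]; exact mul_mem (mul_mem (mul_mem d.a_S0 d.b_S0) d.a_S0) d.b_S0
theorem z_D : d.z ∈ d.D := by
  have a : d.a ∈ d.D := subset_closure (by simp)
  have b : d.b ∈ d.D := subset_closure (by simp)
  rw [h.z_eq]; exact mul_mem (mul_mem (mul_mem a b) a) b
theorem D_K : d.D ≤ d.K := h.KS ▸ inf_le_left
theorem a_K : d.a ∈ d.K := h.D_K (subset_closure (by simp))
theorem b_K : d.b ∈ d.K := h.D_K (subset_closure (by simp))
theorem z_K : d.z ∈ d.K := h.D_K h.z_D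
theorem r1t : Cj d.r₁ d.t d.t := Cj.of_comm (h.KC h.r1K d.t rfl).symm
theorem r2t : Cj d.r₂ d.t d.t := Cj.of_comm (h.KC h.r2K d.t rfl).symm
theorem ab : d.a * d.b = d.b * d.a * d.z := by rw [h.ba, mul_assoc, h.zz, mul_one]

theorem el_mul (i j k l m i' j' k' l' m' : Bool) : d.el i j k l m * d.el i' j' k' l' m' =
    d.el (i ^^ i') (j ^^ j') (k ^^ k') (l ^^ l') (m ^^ m' ^^ (l && k')) := by
  have ba : ∀ (l k : Bool) (r : G), bp d.b l * (bp d.a k * r) =
      bp d.a k * (bp d.b l * (bp d.z (l && k) * r)) := by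
    intro l k r; cases l <;> cases k <;> simp [← mul_assoc, h.ba]
  have e : ∀ i j k l m, d.el i j k l m =
      bp d.t i * (bp d.u j * (bp d.a k * (bp d.b l * (bp d.z m * 1)))) := by
    intros; simp [el, mul_assoc]
  simp only [e, mul_assoc, one_mul, bp_comm h.ut, bp_comm h.at', bp_comm h.bt, bp_comm h.zt,
    bp_comm h.au, bp_comm h.bu, bp_comm h.zu, bp_comm h.za, bp_comm h.zb, ba, bp_xor h.tt,
    bp_xor h.uu, bp_xor h.aa, bp_xor h.bb, bp_xor h.zz]
  congr 6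
  cases m <;> cases m' <;> cases l <;> cases k' <;> rfl

theorem el_t : d.t = d.el true false false false false := by simp [el]
theorem el_u : d.u = d.el false true false false false := by simp [el]
theorem el_a : d.a = d.el false false true false false := by simp [el]
theorem el_b : d.b = d.el false false false true false := by simp [el]
theorem el_z : d.z = d.el false false false false true := by simp [el]
theorem el_one : (1 : G) = d.el false false false false false := by simp [el]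
theorem el_inv (i j k l m : Bool) : (d.el i j k l m)⁻¹ = d.el i j k l (m ^^ (l && k)) := by
  rw [inv_eq_iff_mul_eq_one, h.el_mul, h.el_one]
  congr 1 <;> simp

theorem el_eq_one {i j k l m : Bool} (e : d.el i j k l m = 1) :
    i = false ∧ j = false ∧ k = false ∧ l = false ∧ m = false := by
  have h1 : bp d.t i * bp d.u j ∈ d.K := by
    have : bp d.t i * bp d.u j = (bp d.a k * bp d.b l * bp d.z m)⁻¹ := by
      rw [eq_inv_iff_mul_eq_one, ← e, el]; simp only [mul_assoc]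
    rw [this]
    exact inv_mem (mul_mem (mul_mem (bp_mem h.a_K _) (bp_mem h.b_K _)) (bp_mem h.z_K _))
  have a1 : d.a ≠ 1 := fun c => h.z1 (by simpa [Cj, c] using h.r1z)
  have a2 : d.a * d.z ≠ 1 := fun c => a1 (by simpa [Cj, c] using h.r1a)
  have b1 : d.b ≠ 1 := fun c => h.z1 (by simpa [Cj, c] using h.r2z)
  have b2 : d.b * d.z ≠ 1 := fun c => b1 (by simpa [Cj, c] using h.r2b)
  have c1 : ∀ x, x * d.a = d.a * x → d.a * d.b * x ≠ 1 := fun x hx c => h.z1 (by
    have e1 : d.b = d.a * x⁻¹ := by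
      rw [eq_mul_inv_iff_mul_eq, ← mul_left_cancel_iff (a := d.a), h.aa, ← c, mul_assoc]
    have e2 : d.b * d.a = d.a * d.b := by
      have : x⁻¹ * d.a = d.a * x⁻¹ := (Commute.inv_left hx).eq
      rw [e1, mul_assoc, this]
    rw [h.ba] at e2
    simpa using e2)
  have := h.tK; have := h.uK; have := h.tuK; have := h.z1
  have := c1 1 (by simp); have := c1 _ h.za
  cases i <;> cases j <;> simp_all [el]
  cases k <;> cases l <;> cases m <;> simp_all

theorem el_inj {i j k l m i' j' k' l' m' : Bool} (e : d.el i j k l m = d.el i' j' k' l' m') :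
    i = i' ∧ j = j' ∧ k = k' ∧ l = l' ∧ m = m' := by
  have := h.el_eq_one (by rw [← h.el_mul, ← h.el_inv, e, mul_inv_cancel] :
    d.el (i ^^ i') (j ^^ j') (k ^^ k') (l ^^ l') (m ^^ (m' ^^ (l' && k')) ^^ (l && k')) = 1)
  revert this
  revert i j k l m i' j' k' l' m'
  intro i j k l m i' j' k' l' m' _
  cases l <;> cases l' <;> cases k' <;> cases m <;> cases m' <;> simp

theorem el_eq_iff {i j k l m i' j' k' l' m' : Bool} : d.el i j k l m = d.el i' j' k' l' m' ↔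
    i = i' ∧ j = j' ∧ k = k' ∧ l = l' ∧ m = m' :=
  ⟨h.el_inj, by rintro ⟨rfl, rfl, rfl, rfl, rfl⟩; rfl⟩

/-- subgroups of `S₀` given by a predicate on the exponents -/
theorem mem_gen (p : Bool → Bool → Bool → Bool → Bool → Bool) {s : Set G}
    (p0 : p false false false false false)
    (pm : ∀ i j k l m i' j' k' l' m', p i j k l m → p i' j' k' l' m' →
      p (i ^^ i') (j ^^ j') (k ^^ k') (l ^^ l') (m ^^ m' ^^ (l && k')))
    (h1 : ∀ x ∈ s, ∃ i j k l m, p i j k l m ∧ x = d.el i j k l m)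
    (h2 : ∀ i j k l m, p i j k l m → d.el i j k l m ∈ closure s) {x : G} :
    x ∈ closure s ↔ ∃ i j k l m, p i j k l m ∧ x = d.el i j k l m := by
  refine ⟨fun hx => ?_, by rintro ⟨i, j, k, l, m, a, rfl⟩; exact h2 _ _ _ _ _ a⟩
  have : x ∈ Submonoid.closure s := by rw [← closure_toSubmonoid_of_finite]; exact hx
  clear hx
  induction this using Submonoid.closure_induction with
  | mem x hx => exact h1 x hx
  | one => exact ⟨_, _, _, _, _, p0, h.el_one⟩
  | mul x y _ _ a b =>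
    obtain ⟨i, j, k, l, m, a, rfl⟩ := a
    obtain ⟨i', j', k', l', m', b, rfl⟩ := b
    exact ⟨_, _, _, _, _, pm _ _ _ _ _ _ _ _ _ _ a b, h.el_mul ..⟩

theorem el_mem {H : Subgroup G} {i j k l m : Bool} (h1 : i → d.t ∈ H) (h2 : j → d.u ∈ H)
    (h3 : k → d.a ∈ H) (h4 : l → d.b ∈ H) (h5 : m → d.z ∈ H) : d.el i j k l m ∈ H := by
  have b : ∀ (g : G) (i : Bool), (i → g ∈ H) → bp g i ∈ H := fun g i c => by
    cases i
    · exact one_mem _
    · exact c rfl
  exact mul_mem (mul_mem (mul_mem (mul_mem (b _ _ h1) (b _ _ h2)) (b _ _ h3)) (b _ _ h4)) (b _ _ h5)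

theorem mem_S0 {x : G} : x ∈ d.S0 ↔ ∃ i j k l m, x = d.el i j k l m := by
  refine (h.mem_gen (fun _ _ _ _ _ => true) rfl (by simp) ?_ fun i j k l m _ =>
    h.el_mem (fun _ => d.t_S0) (fun _ => d.u_S0) (fun _ => d.a_S0) (fun _ => d.b_S0)
      fun _ => h.z_S0).trans (by simp)
  rintro x (rfl | rfl | rfl | rfl)
  exacts [⟨_, _, _, _, _, rfl, h.el_t⟩, ⟨_, _, _, _, _, rfl, h.el_u⟩, ⟨_, _, _, _, _, rfl, h.el_a⟩,
    ⟨_, _, _, _, _, rfl, h.el_b⟩]
theorem mem_A1 {x : G} : x ∈ d.A1 ↔ ∃ i j k m, x = d.el i j k false m := by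
  refine (h.mem_gen (fun _ _ _ l _ => !l) rfl (by simp) ?_ fun i j k l m c =>
    h.el_mem ?_ ?_ ?_ ?_ ?_).trans (by simp)
  · rintro x (rfl | rfl | rfl | rfl)
    exacts [⟨_, _, _, _, _, rfl, h.el_t⟩, ⟨_, _, _, _, _, rfl, h.el_u⟩, ⟨_, _, _, _, _, rfl, h.el_z⟩,
      ⟨_, _, _, _, _, rfl, h.el_a⟩]
  all_goals (intro; first | (refine Subgroup.subset_closure ?_; simp; done) | simp_all)
theorem mem_A2 {x : G} : x ∈ d.A2 ↔ ∃ i j l m, x = d.el i j false l m := by
  refine (h.mem_gen (fun _ _ k _ _ => !k) rfl (by simp) ?_ fun i j k l m c =>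
    h.el_mem ?_ ?_ ?_ ?_ ?_).trans (by simp)
  · rintro x (rfl | rfl | rfl | rfl)
    exacts [⟨_, _, _, _, _, rfl, h.el_t⟩, ⟨_, _, _, _, _, rfl, h.el_u⟩, ⟨_, _, _, _, _, rfl, h.el_z⟩,
      ⟨_, _, _, _, _, rfl, h.el_b⟩]
  all_goals (intro; first | (refine Subgroup.subset_closure ?_; simp; done) | simp_all)
theorem mem_Z0 {x : G} : x ∈ d.Z0 ↔ ∃ i j m, x = d.el i j false false m := by
  refine (h.mem_gen (fun _ _ k l _ => !k && !l) rfl (by simp) ?_ fun i j k l m c =>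
    h.el_mem ?_ ?_ ?_ ?_ ?_).trans (by simp)
  · rintro x (rfl | rfl | rfl)
    exacts [⟨_, _, _, _, _, rfl, h.el_t⟩, ⟨_, _, _, _, _, rfl, h.el_u⟩, ⟨_, _, _, _, _, rfl, h.el_z⟩]
  all_goals (intro; first | (refine Subgroup.subset_closure ?_; simp; done) | simp_all)
theorem mem_U {x : G} : x ∈ d.U ↔ ∃ j m, x = d.el false j false false m := by
  refine (h.mem_gen (fun i _ k l _ => !i && !k && !l) rfl (by simp) ?_ fun i j k l m c =>
    h.el_mem ?_ ?_ ?_ ?_ ?_).trans (by simp [and_assoc])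
  · rintro x (rfl | rfl)
    exacts [⟨_, _, _, _, _, rfl, h.el_u⟩, ⟨_, _, _, _, _, rfl, h.el_z⟩]
  all_goals (intro; first | (refine Subgroup.subset_closure ?_; simp; done) | simp_all)
theorem mem_D {x : G} : x ∈ d.D ↔ ∃ k l m, x = d.el false false k l m := by
  refine (h.mem_gen (fun i j _ _ _ => !i && !j) rfl (by simp) ?_ fun i j k l m c =>
    h.el_mem ?_ ?_ ?_ ?_ fun _ => h.z_D).trans (by simp [and_assoc])
  · rintro x (rfl | rfl)
    exacts [⟨_, _, _, _, _, rfl, h.el_a⟩, ⟨_, _, _, _, _, rfl, h.el_b⟩]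
  all_goals (intro; first | (refine Subgroup.subset_closure ?_; simp; done) | simp_all)
theorem mem_V1 {x : G} : x ∈ d.V1 ↔ ∃ k m, x = d.el false false k false m := by
  refine (h.mem_gen (fun i j _ l _ => !i && !j && !l) rfl (by simp) ?_ fun i j k l m c =>
    h.el_mem ?_ ?_ ?_ ?_ ?_).trans (by simp [and_assoc])
  · rintro x (rfl | rfl)
    exacts [⟨_, _, _, _, _, rfl, h.el_z⟩, ⟨_, _, _, _, _, rfl, h.el_a⟩]
  all_goals (intro; first | (refine Subgroup.subset_closure ?_; simp; done) | simp_all)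
theorem mem_V2 {x : G} : x ∈ d.V2 ↔ ∃ l m, x = d.el false false false l m := by
  refine (h.mem_gen (fun i j k _ _ => !i && !j && !k) rfl (by simp) ?_ fun i j k l m c =>
    h.el_mem ?_ ?_ ?_ ?_ ?_).trans (by simp [and_assoc])
  · rintro x (rfl | rfl)
    exacts [⟨_, _, _, _, _, rfl, h.el_z⟩, ⟨_, _, _, _, _, rfl, h.el_b⟩]
  all_goals (intro; first | (refine Subgroup.subset_closure ?_; simp; done) | simp_all)
theorem mem_U1 {x : G} : x ∈ d.U1 ↔ ∃ j k m, x = d.el false j k false m := by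
  refine (h.mem_gen (fun i _ _ l _ => !i && !l) rfl (by simp) ?_ fun i j k l m c =>
    h.el_mem ?_ ?_ ?_ ?_ ?_).trans (by simp [and_assoc])
  · rintro x (rfl | rfl | rfl)
    exacts [⟨_, _, _, _, _, rfl, h.el_u⟩, ⟨_, _, _, _, _, rfl, h.el_z⟩, ⟨_, _, _, _, _, rfl, h.el_a⟩]
  all_goals (intro; first | (refine Subgroup.subset_closure ?_; simp; done) | simp_all)
theorem mem_U2 {x : G} : x ∈ d.U2 ↔ ∃ j l m, x = d.el false j false l m := by
  refine (h.mem_gen (fun i _ k _ _ => !i && !k) rfl (by simp) ?_ fun i j k l m c =>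
    h.el_mem ?_ ?_ ?_ ?_ ?_).trans (by simp [and_assoc])
  · rintro x (rfl | rfl | rfl)
    exacts [⟨_, _, _, _, _, rfl, h.el_u⟩, ⟨_, _, _, _, _, rfl, h.el_z⟩, ⟨_, _, _, _, _, rfl, h.el_b⟩]
  all_goals (intro; first | (refine Subgroup.subset_closure ?_; simp; done) | simp_all)

theorem card_of {H : Subgroup G} {α : Type} (f : α → G) (hf : Function.Injective f)
    (hH : ∀ x, x ∈ H ↔ ∃ a, x = f a) : Nat.card H = Nat.card α :=
  (Nat.card_congr (Equiv.ofBijective (fun a => (⟨f a, (hH _).2 ⟨a, rfl⟩⟩ : H))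
    ⟨fun _ _ e => hf (congrArg Subtype.val e), fun x => by
      obtain ⟨a, e⟩ := (hH _).1 x.2
      exact ⟨a, Subtype.ext e.symm⟩⟩)).symm

theorem card_S0 : Nat.card d.S0 = 32 := by
  rw [h.card_of (fun x : Bool × Bool × Bool × Bool × Bool => d.el x.1 x.2.1 x.2.2.1 x.2.2.2.1 x.2.2.2.2)
    (fun x y e => by simpa [h.el_eq_iff, Prod.ext_iff] using e) (by simp [h.mem_S0])]
  simp
theorem card_A1 : Nat.card d.A1 = 16 := by
  rw [h.card_of (fun x : Bool × Bool × Bool × Bool => d.el x.1 x.2.1 x.2.2.1 false x.2.2.2)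
    (fun x y e => by simpa [h.el_eq_iff, Prod.ext_iff] using e) (by simp [h.mem_A1])]
  simp
theorem card_A2 : Nat.card d.A2 = 16 := by
  rw [h.card_of (fun x : Bool × Bool × Bool × Bool => d.el x.1 x.2.1 false x.2.2.1 x.2.2.2)
    (fun x y e => by simpa [h.el_eq_iff, Prod.ext_iff] using e) (by simp [h.mem_A2])]
  simp
theorem card_Z0 : Nat.card d.Z0 = 8 := by
  rw [h.card_of (fun x : Bool × Bool × Bool => d.el x.1 x.2.1 false false x.2.2)
    (fun x y e => by simpa [h.el_eq_iff, Prod.ext_iff] using e) (by simp [h.mem_Z0])]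
  simp
theorem card_D : Nat.card d.D = 8 := by
  rw [h.card_of (fun x : Bool × Bool × Bool => d.el false false x.1 x.2.1 x.2.2)
    (fun x y e => by simpa [h.el_eq_iff, Prod.ext_iff] using e) (by simp [h.mem_D])]
  simp
theorem card_U : Nat.card d.U = 4 := by
  rw [h.card_of (fun x : Bool × Bool => d.el false x.1 false false x.2)
    (fun x y e => by simpa [h.el_eq_iff, Prod.ext_iff] using e) (by simp [h.mem_U])]
  simp
theorem A1_le : d.A1 ≤ d.S0 := fun x hx => by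
  obtain ⟨i, j, k, m, rfl⟩ := h.mem_A1.1 hx; exact h.mem_S0.2 ⟨_, _, _, _, _, rfl⟩
theorem A2_le : d.A2 ≤ d.S0 := fun x hx => by
  obtain ⟨i, j, k, m, rfl⟩ := h.mem_A2.1 hx; exact h.mem_S0.2 ⟨_, _, _, _, _, rfl⟩
theorem pS0 : IsPGroup 2 d.S0 := IsPGroup.of_card (n := 5) h.card_S0
theorem pS : IsPGroup 2 d.S := h.syl.pgrp

theorem closure_eq {s s' : Set G} (h1 : ∀ x ∈ s, x ∈ closure s') (h2 : ∀ x ∈ s', x ∈ closure s) :
    closure s = closure s' := le_antisymm ((closure_le _).2 h1) ((closure_le _).2 h2)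

theorem u_tw : d.u = d.t * (d.t * d.u) := by rw [← mul_assoc, h.tt, one_mul]
theorem u_sw : d.u = d.u * d.z * d.z := by rw [mul_assoc, h.zz, mul_one]

theorem tw_S0 : d.tw.S0 = d.S0 := h.closure_eq (by
    rintro x (rfl | rfl | rfl | rfl)
    exacts [d.t_S0, mul_mem d.t_S0 d.u_S0, d.a_S0, d.b_S0]) (by
    rintro x (rfl | rfl | rfl | rfl)
    exacts [d.tw.t_S0, h.u_tw ▸ mul_mem d.tw.t_S0 d.tw.u_S0, d.tw.a_S0, d.tw.b_S0])
theorem tw_gen (s : Set G) : closure (insert d.t (insert (d.t * d.u) s)) =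
    closure (insert d.t (insert d.u s)) := h.closure_eq (by
    rintro x (rfl | rfl | hx)
    exacts [subset_closure (.inl rfl),
      mul_mem (subset_closure (.inl rfl)) (subset_closure (.inr (.inl rfl))),
      subset_closure (.inr (.inr hx))]) (by
    rintro x (rfl | rfl | hx)
    exacts [subset_closure (.inl rfl), by
      have := mul_mem (subset_closure (k := insert d.t (insert (d.t * d.u) s)) (.inl rfl))
        (subset_closure (.inr (.inl rfl)))
      rwa [← h.u_tw] at this,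
      subset_closure (.inr (.inr hx))])
theorem tw_A1 : d.tw.A1 = d.A1 := h.tw_gen _
theorem tw_A2 : d.tw.A2 = d.A2 := h.tw_gen _
theorem tw_Z0 : d.tw.Z0 = d.Z0 := h.tw_gen _
theorem sw_gen {s s' : Set G} (h1 : ∀ x ∈ s, x ∈ s' ∨ x = d.u * d.z) (h2 : ∀ x ∈ s', x ∈ s ∨ x = d.u)
    (h3 : d.u * d.z ∈ s) (h4 : d.z ∈ s) (h5 : d.u ∈ s') (h6 : d.z ∈ s') : closure s = closure s' :=
  h.closure_eq (fun x hx => (h1 x hx).elim (fun c => subset_closure c) fun c =>
    c ▸ mul_mem (subset_closure h5) (subset_closure h6)) fun x hx =>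
    (h2 x hx).elim (fun c => subset_closure c) fun c =>
      (c.trans h.u_sw) ▸ mul_mem (subset_closure h3) (subset_closure h4)
theorem sw_A1 : d.sw.A1 = d.A2 := by apply h.sw_gen <;> simp [Dat.sw]
theorem sw_A2 : d.sw.A2 = d.A1 := by apply h.sw_gen <;> simp [Dat.sw]
theorem sw_Z0 : d.sw.Z0 = d.Z0 := by apply h.sw_gen <;> simp [Dat.sw]
theorem sw_U : d.sw.U = d.U := by apply h.sw_gen <;> simp [Dat.sw]
theorem sw_U1 : d.sw.U1 = d.U2 := by apply h.sw_gen <;> simp [Dat.sw]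
theorem sw_U2 : d.sw.U2 = d.U1 := by apply h.sw_gen <;> simp [Dat.sw]
theorem sw_D : d.sw.D = d.D := congrArg Subgroup.closure (Set.pair_comm _ _)
theorem sw_S0 : d.sw.S0 = d.S0 := h.closure_eq (by
    rintro x (rfl | rfl | rfl | rfl)
    exacts [d.t_S0, mul_mem d.u_S0 h.z_S0, d.b_S0, d.a_S0]) (by
    have z : d.z ∈ d.sw.S0 := by
      rw [h.z_eq]; exact mul_mem (mul_mem (mul_mem d.sw.b_S0 d.sw.a_S0) d.sw.b_S0) d.sw.a_S0
    rintro x (rfl | rfl | rfl | rfl)
    exacts [d.sw.t_S0, h.u_sw ▸ mul_mem d.sw.u_S0 z, d.sw.b_S0, d.sw.a_S0])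

theorem tw : d.tw.Cfq :=
  { h with
    uu := by
      change d.t * d.u * (d.t * d.u) = 1
      rw [mul_assoc, ← mul_assoc d.u, h.ut, mul_assoc, h.uu, mul_one, h.tt]
    ut := by change d.t * d.u * d.t = d.t * (d.t * d.u); rw [mul_assoc, h.ut]
    au := by change d.a * (d.t * d.u) = d.t * d.u * d.a; rw [← mul_assoc, h.at', mul_assoc, h.au, mul_assoc]
    bu := by change d.b * (d.t * d.u) = d.t * d.u * d.b; rw [← mul_assoc, h.bt, mul_assoc, h.bu, mul_assoc]
    le := h.tw_S0 ▸ h.le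
    KS := by rw [h.tw_S0]; exact h.KS
    uK := h.tuK
    tuK := by change d.t * (d.t * d.u) ∉ d.K; rw [← h.u_tw]; exact h.uK
    r1u := h.r1t.mul h.r1u
    r2u := by
      change Cj d.r₂ (d.t * d.u * d.z) (d.t * d.u * d.z); rw [mul_assoc]; exact h.r2t.mul h.r2u }

theorem sw : d.sw.Cfq :=
  { h with
    uu := by
      change d.u * d.z * (d.u * d.z) = 1
      rw [mul_assoc, ← mul_assoc d.z, h.zu, mul_assoc, h.zz, mul_one, h.uu]
    aa := h.bb
    bb := h.aa
    ba := h.ab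
    za := h.zb
    zb := h.za
    ut := by change d.u * d.z * d.t = d.t * (d.u * d.z); rw [mul_assoc, h.zt, ← mul_assoc, h.ut, mul_assoc]
    at' := h.bt
    bt := h.at'
    au := by change d.b * (d.u * d.z) = d.u * d.z * d.b; rw [← mul_assoc, h.bu, mul_assoc, ← h.zb, mul_assoc]
    bu := by change d.a * (d.u * d.z) = d.u * d.z * d.a; rw [← mul_assoc, h.au, mul_assoc, ← h.za, mul_assoc]
    le := h.sw_S0 ▸ h.le
    KS := by rw [h.sw_S0]; exact h.KS.trans h.sw_D.symm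
    uK := fun c => h.uK (h.u_sw ▸ mul_mem c h.z_K)
    tuK := fun c => h.tuK (by
      have := mul_mem c h.z_K
      change d.t * (d.u * d.z) * d.z ∈ d.K at this
      rwa [mul_assoc, ← h.u_sw] at this)
    r1K := h.r2K
    r2K := h.r1K
    r1z := h.r2z
    r1a := h.r2b
    r1u := h.r2u
    r2z := h.r1z
    r2b := h.r1a
    r2u := by change Cj d.r₁ (d.u * d.z * d.z) (d.u * d.z * d.z); rw [← h.u_sw]; exact h.r1u }

theorem sw_E1 (e : d.E1) : d.sw.E1 := e.trans h.sw_S0.symm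
theorem tw_E1 (e : d.E1) : d.tw.E1 := e.trans h.tw_S0.symm
theorem wt {w : G} (e : w ∈ d.S) : Cj w d.t d.t := Cj.of_comm (h.syl.le e d.t rfl).symm
theorem sw_E2' {w : G} (e : d.E2' w) : d.sw.E2' w :=
  ⟨e.mem, h.sw_S0 ▸ e.cov, e.b, e.a, e.u.imp (fun c => c.mul (h.cz_sw e.a e.b)) fun c =>
    (c.mul (h.cz_sw e.a e.b)).to (by change _ = d.t * (d.u * d.z) * d.z; simp only [mul_assoc]), e.ww⟩
theorem tw_E2' {w : G} (e : d.E2' w) : d.tw.E2' w :=
  ⟨e.mem, h.tw_S0 ▸ e.cov, e.a, e.b, e.u.imp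
    (fun c => ((h.wt e.mem).mul c).to (mul_assoc _ _ _).symm) fun c => ((h.wt e.mem).mul c).to (by
      change _ = d.t * (d.t * d.u) * d.z; simp only [mul_assoc]), e.ww⟩
theorem sw_eps (e : d.Eps) : d.sw.Eps := e.imp h.sw_E1 fun ⟨w, c⟩ => ⟨w, h.sw_E2' c⟩
theorem tw_eps (e : d.Eps) : d.tw.Eps := e.imp h.tw_E1 fun ⟨w, c⟩ => ⟨w, h.tw_E2' c⟩
theorem sw_E2 {w : G} (e : d.E2 w) : d.sw.E2 w :=
  ⟨e.mem, h.sw_S0 ▸ e.cov, e.b, e.a, e.u.mul (h.cz_sw e.a e.b), e.ww⟩
theorem tw_E2 {w : G} (e : d.E2 w) : d.tw.E2 w :=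
  ⟨e.mem, h.tw_S0 ▸ e.cov, e.a, e.b, ((h.wt e.mem).mul e.u).to (mul_assoc _ _ _).symm, e.ww⟩
theorem sw_NT (n : d.NT) : d.sw.NT :=
  ⟨n.z, n.uz, by change ¬ d.T (d.u * d.z * d.z); rw [← h.u_sw]; exact n.u⟩

theorem card_S2 {w : G} (e : d.E2' w) : Nat.card d.S = 64 := by
  have hw : w ∉ d.S0 := fun c => by
    obtain ⟨i, j, k, l, m, c⟩ := h.mem_S0.1 c
    have := e.a
    rw [Cj, c, h.el_inv, h.el_a, h.el_b, h.el_mul, h.el_mul, h.el_eq_iff] at this
    simp at this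
  have h1 := two_mul_le_of_lt h.le e.mem hw
  have h2 : Nat.card d.S ≤ 2 * Nat.card d.S0 := by
    let f : Bool × d.S0 → d.S := fun x => ⟨x.2 * bp w x.1, mul_mem (h.le x.2.2) (bp_mem e.mem _)⟩
    have : Function.Surjective f := fun s => by
      rcases e.cov s s.2 with c | c
      · exact ⟨(false, ⟨_, c⟩), Subtype.ext (by simp [f])⟩
      · exact ⟨(true, ⟨_, c⟩), Subtype.ext (by simp [f])⟩
    simpa using Nat.card_le_card_of_surjective f this
  rw [h.card_S0] at h1 h2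
  omega
theorem card_S1 (e : d.E1) : Nat.card d.S = 32 := by rw [e, h.card_S0]
theorem card_S_le (e : d.Eps) : Nat.card d.S ≤ 64 := by
  rcases e with e | ⟨w, e⟩
  · rw [h.card_S1 e]; omega
  · rw [h.card_S2 e]

end Cfq

end Dat

end Cfsg.Agent.HSE
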