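import Mathlib
import Cfsg.Agent.HSE.Rig

/-! Conjugates of `t` do not centralize elementary abelian groups of order `32`. -/

set_option autoImplicit false

namespace Cfsg.Agent.HSE

open Cfsg Subgroup Cfsg.Agent.PLocal Cfsg.Agent.PLocal.Amb Cfsg.Agent.MacW

variable {G : Type*} [Group G] [Finite G]

namespace Dat.Cfq

variable {d : Dat G} (h : d.Cfq)
include h

theorem notT_rank (e : d.Eps) {E : Subgroup G} (h2 : ∀ x ∈ E, x * x = 1) (hc : 32 ≤ Nat.card E)
    {y : G} (hy : ∀ x ∈ E, x * y = y * x) : ¬ d.T y := fun t => by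
  obtain ⟨g, -, l⟩ := h.conjT t (R := E)
    (Amb.isPGroup_iff.2 fun x hx => ⟨1, by simpa [pow_two] using h2 x hx⟩) hy
  have k := card_cj g E
  rcases h.eq_A e l (by
    rintro _ ⟨x, hx, rfl⟩
    rw [← map_mul, h2 x hx, map_one]) (by omega) with c | c <;> rw [c] at k
  · rw [h.card_A1] at k; omega
  · rw [h.card_A2] at k; omega

end Dat.Cfq

end Cfsg.Agent.HSE
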