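import Mathlib
import Cfsg.Agent.HSE.Basic
import Cfsg.Agent.HSE.Rig2
import Cfsg.Agent.HSE.I0Tab

/-! Type (I, I) with elementary abelian layers: common lemmas. -/

set_option autoImplicit false
set_option linter.unusedSectionVars false
set_option linter.unusedVariables false
set_option linter.unusedSimpArgs false
set_option maxRecDepth 100000

namespace Cfsg.Agent.HSE

open Cfsg Subgroup Cfsg.Agent.PLocal Cfsg.Agent.PLocal.Amb Cfsg.Agent.MacW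
open Cfsg.Agent.Comp Cfsg.Agent.X32 Pc I0T

variable {G : Type*} [Group G] [Finite G]

namespace Dat.Cfq

variable {d : Dat G} (h : d.Cfq)
include h

/-- the data of type (I, I) with `l = false` -/
structure I0 (d : Dat G) (e k f₁ f₂ ρ₁ ρ₂ : G) (β i j : Bool) : Prop
    extends d.LI e k f₁ f₂ ρ₁ ρ₂ false β where
  hc : f₁ * f₂ * f₁⁻¹ * f₂⁻¹ = e * bp k β * bp d.u i * bp d.z j

omit h in
/-- `W`, order `256` -/
def WW (d : Dat G) (e k f₁ f₂ : G) : Subgroup G := closure {d.z, d.u, e, k, d.a, f₁, d.b, f₂}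
omit h in
/-- `E₁ ≅ 2⁶` -/
def EE (d : Dat G) (e k f₁ : G) : Subgroup G := closure {d.z, d.u, e, k, d.a, f₁}
omit h in
/-- `T = W⟨t⟩`, order `512` -/
def TT (d : Dat G) (e k f₁ f₂ : G) : Subgroup G := closure {d.z, d.u, e, k, d.a, f₁, d.b, f₂, d.t}

variable {e k f₁ f₂ ρ₁ ρ₂ : G} {β i j : Bool}

/-! Notation: `h := k`, `f := f₁`, `g := f₂`.  pc generators `z u e h a f b g t` (bottom to top), all involutions, relations
`b a b = a z`, `b f b = e f`, `g a g = e u^β a`, `g f g = c f` (`c = e h^β u^i z^j`), `t e t = e z`, `t h t = h u`, `t f t = a f`,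
`t g t = b g` (script `tools/hsd_i0.py`; 8 tables `β, i, j`; or argue by hand: `Z₁ = ⟨z,u,e,h⟩` is central in `W`).
`E₁ = ⟨z,u,e,h,a,f⟩`, `E₂ = ⟨z,u,e,h,b,g⟩ ≅ 2⁶`, `W = E₁E₂`, `Z(W) = Z₁`. -/

/-- the symmetric configuration (`d.sw.sw = d` up to `u z z = u`) -/
theorem I0.sw (L : I0 d e k f₁ f₂ ρ₁ ρ₂ false false j) :
    I0 d.sw e (k * e) f₂ f₁ ρ₂ ρ₁ false false j ∧ WW d.sw e (k * e) f₂ f₁ = WW d e k f₁ f₂ := by
  have ss : d.sw.sw = d := by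
    have : d.u * d.z * d.z = d.u := h.u_sw.symm
    cases d
    simp only [Dat.sw] at this ⊢
    rw [this]
  have l2 : d.sw.Lay e f₂ ρ₂ false := by simpa using L.l2
  have ee : e * e = 1 := L.l1.ee
  have kk : k * k = 1 := L.hh
  have kz := h.cz' L.ach.a L.ach.b
  have ez := h.cz' L.l1.ac.a L.l1.ac.b
  refine ⟨⟨⟨⟨l2, by rw [ss]; simpa using L.l1⟩, ⟨?_, ?_, ?_, ?_⟩, (Cj.self e).comp L.he,
    l2.fe.flip.comp L.hf2, L.l1.fe.flip.comp L.hf1, ?_, by simpa using L.p2h, ?_⟩, ?_⟩, ?_⟩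
  · exact L.l1.ac.t.comp ((L.ach.t.mul kz).to (mul_assoc _ _ _))
  · exact (L.l1.ac.u.mul ez).comp (L.ach.u.mul kz)
  · exact L.l1.ac.b.comp L.ach.b
  · exact L.l1.ac.a.comp L.ach.a
  · rw [mul_assoc, ← mul_assoc e, ← L.he.comm, mul_assoc, ee, mul_one, kk]; rfl
  · simpa [mul_assoc, ee] using L.p1h
  · have hc := L.hc
    simp only [bp_false, mul_one] at hc ⊢
    rw [show d.sw.z = d.z from rfl, ← inv_eq_of_mul_eq_one_right (show e * bp d.z j * (e * bp d.z j) = 1 by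
      cases j
      · simpa using ee
      · rw [bp_true, mul_assoc, ← mul_assoc d.z, ← ez.comm, mul_assoc, h.zz, mul_one, ee]), ← hc]
    group
  · have m : ∀ {s : Set G} {x y : G}, x ∈ s → y ∈ s → x * y ∈ closure s := fun a b =>
      mul_mem (subset_closure a) (subset_closure b)
    have o : ∀ {s : Set G} {x : G}, x ∈ s → x ∈ closure s := fun a => subset_closure a
    have ke : k * e * e = k := by rw [mul_assoc k e e, ee, mul_one]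
    refine h.closure_eq ?_ ?_ <;> simp only [Dat.sw, Set.forall_mem_insert, Set.mem_singleton_iff, forall_eq]
    · exact ⟨o (by simp), m (by simp) (by simp), o (by simp), m (by simp) (by simp), o (by simp),
        o (by simp), o (by simp), o (by simp)⟩
    · exact ⟨o (by simp), (congrArg (· ∈ _) h.u_sw).mpr (m (by simp) (by simp)), o (by simp),
        (congrArg (· ∈ _) ke).mp (m (by simp) (by simp)), o (by simp), o (by simp), o (by simp),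
        o (by simp)⟩

omit h in
/-- `Q₁ = E₁⟨t⟩`, order `128` -/
def QQ (d : Dat G) (e k f₁ : G) : Subgroup G := closure {d.z, d.u, e, k, d.a, f₁, d.t}
omit h in
/-- `Z₁ = Z(W)`, order `16` -/
def ZZ (d : Dat G) (e k : G) : Subgroup G := closure {d.z, d.u, e, k}

omit h in
theorem mem_cl {T : Tab} [Fact T.OK] (φ : TG T →* G) (l : List (TG T)) (p : TG T → Prop) (h1 : p 1)
    (h2 : ∀ k, p k → (∀ g ∈ l, p (g * k)) ∧ (k = 1 ∨ ∃ g ∈ l, (g * k).v < k.v)) {s : Set G}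
    (hs : ∀ x, x ∈ s ↔ x ∈ l.map φ) (y : G) : y ∈ closure s ↔ ∃ v, p v ∧ φ v = y := by
  have : s = φ '' {g | g ∈ l} := by ext; simp [hs]
  rw [this, ← MonoidHom.map_closure, mem_map]
  simp only [mem_closure_iff l p h1 h2]

theorem card_cl {T : Tab} [Fact T.OK] {φ : TG T →* G} (inj : Function.Injective φ) {H : Subgroup G}
    {p : TG T → Prop} (hH : ∀ y, y ∈ H ↔ ∃ v, p v ∧ φ v = y) : Nat.card H = Nat.card {v // p v} :=
  h.card_of (fun v : {v // p v} => φ v) (fun a b e => Subtype.ext (inj e)) fun x => by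
    simp [hH, eq_comm]

/-- the isomorphism of the table group `I0T.K β i j` onto `T` -/
structure TH (d : Dat G) (e k f₁ f₂ : G) {β i j : Bool} (φ : I0T.K β i j →* G) : Prop where
  inj : Function.Injective φ
  all : d.z = φ gz ∧ d.u = φ gu ∧ e = φ ge ∧ k = φ gh ∧ d.a = φ ga ∧ f₁ = φ gf ∧ d.b = φ gb ∧
    f₂ = φ gg ∧ d.t = φ gt
  T : TT d e k f₁ f₂ = φ.range
  W : ∀ y, y ∈ WW d e k f₁ f₂ ↔ ∃ v, Msk 256 v ∧ φ v = y
  E : ∀ y, y ∈ EE d e k f₁ ↔ ∃ v, Msk 448 v ∧ φ v = y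
  E2 : ∀ y, y ∈ EE d.sw e k f₂ ↔ ∃ v, Msk 304 v ∧ φ v = y
  Z : ∀ y, y ∈ ZZ d e k ↔ ∃ v, Msk 496 v ∧ φ v = y
  Q : ∀ y, y ∈ QQ d e k f₁ ↔ ∃ v, Msk 192 v ∧ φ v = y
  U : ∀ y, y ∈ d.U1 ↔ ∃ v, Msk 492 v ∧ φ v = y

theorem I0.f2u (L : I0 d e k f₁ f₂ ρ₁ ρ₂ β i j) : Cj f₂ d.u d.u := by
  have : Cj f₂ (d.u * d.z * d.z) (d.u * d.z * d.z) := L.l2.fu.mul L.l2.fz
  rwa [← h.u_sw] at this

theorem I0.f2e (L : I0 d e k f₁ f₂ ρ₁ ρ₂ β i j) : Cj f₂ e e := by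
  simpa using L.l2.fe.mul ((I0.f2u h L).bp β).inv

theorem flT {x y : G} (h1 : Cj x d.t (d.t * y)) (h2 : Cj x y y) : Cj d.t x (x * y) := by
  have := h1.flipR
  rw [inv_eq_of_mul_eq_one_right h.tt] at this
  exact this.to h2.comm.symm

theorem cj_ba : Cj d.b d.a (d.a * d.z) := by
  rw [Cj, h.ba, mul_assoc, mul_assoc, ← mul_assoc d.b, ← h.zb]; group

theorem I0.tab (L : I0 d e k f₁ f₂ ρ₁ ρ₂ β i j) : ∃ φ : I0T.K β i j →* G, TH d e k f₁ f₂ φ := by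
  have kz := h.cz' L.ach.a L.ach.b
  have ez := h.cz' L.l1.ac.a L.l1.ac.b
  obtain ⟨φ, p1, p2, p3, p4, p5, p6, p7, p8, p9, p⟩ := I0T.hom (β := β) (i := i) (j := j) (z := d.z)
    (u := d.u) (e := e) (h := k) (a := d.a) (f := f₁) (b := d.b) (g := f₂) (t := d.t) h.zz h.uu
    (.of_comm h.zu.symm) L.l1.ee ez L.l1.ac.u L.hh kz L.ach.u L.he h.aa (.of_comm h.za.symm)
    (.of_comm h.au) L.l1.ac.a.flip L.ach.a.flip L.l1.ff L.l1.fz L.l1.fu L.l1.fe L.hf1.flip L.l1.fa h.bb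
    (.of_comm h.zb.symm) (.of_comm h.bu) L.l1.ac.b.flip L.ach.b.flip h.cj_ba
    (by simpa using L.l1.fb.flipL) L.l2.ff L.l2.fz (I0.f2u h L) (I0.f2e h L) L.hf2.flip L.l2.fa h.tt
    (.of_comm h.zt.symm) (.of_comm h.ut.symm) (h.flT L.l1.ac.t ez) (h.flT L.ach.t L.ach.u)
    (.of_comm h.at'.symm) (h.flT L.l1.ft L.l1.fa) (.of_comm h.bt.symm) (h.flT L.l2.ft L.l2.fa)
    (by simpa [Dat.sw] using L.l2.fb) (by rw [← L.hc, Cj]; group)
  have o : ∀ m, Msk m (1 : I0T.K β i j) := fun m => Nat.zero_and m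
  refine ⟨φ, Pc.inj (I0T.hc β i j) φ gs _ cen ?_,
    ⟨p1.symm, p2.symm, p3.symm, p4.symm, p5.symm, p6.symm, p7.symm, p8.symm, p9.symm⟩,
    le_antisymm ((closure_le _).2 ?_) (by apply p <;> exact subset_closure (by simp)),
    mem_cl φ _ _ (o _) genW (by simp [*]), mem_cl φ _ _ (o _) genE (by simp [*]),
    mem_cl φ _ _ (o _) genE2 (by simp [*, Dat.sw]), mem_cl φ _ _ (o _) genZ (by simp [*]),
    mem_cl φ _ _ (o _) genQ (by simp [*]), mem_cl φ _ _ (o _) genU (by simp [*])⟩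
  · simp only [List.forall_mem_cons, List.not_mem_nil, false_imp_iff, implies_true, and_true, map_mul,
      p1, p2]
    simp only [h.el_u, h.el_z, h.el_one, h.el_mul, ne_eq, h.el_eq_iff]
    decide
  · rintro _ (rfl | rfl | rfl | rfl | rfl | rfl | rfl | rfl | rfl)
    exacts [⟨_, p1⟩, ⟨_, p2⟩, ⟨_, p3⟩, ⟨_, p4⟩, ⟨_, p5⟩, ⟨_, p6⟩, ⟨_, p7⟩, ⟨_, p8⟩, ⟨_, p9⟩]

theorem card_WW (L : I0 d e k f₁ f₂ ρ₁ ρ₂ β i j) : Nat.card (WW d e k f₁ f₂) = 256 ∧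
    Nat.card (TT d e k f₁ f₂) = 512 ∧ Nat.card (EE d e k f₁) = 64 ∧ Nat.card (EE d.sw e k f₂) = 64 := by
  obtain ⟨φ, H⟩ := I0.tab h L
  exact ⟨(h.card_cl H.inj H.W).trans cardW, by rw [H.T, card_range H.inj, I0T.card],
    (h.card_cl H.inj H.E).trans cardE, (h.card_cl H.inj H.E2).trans cardE2⟩

theorem card_ZQ (L : I0 d e k f₁ f₂ ρ₁ ρ₂ β i j) : Nat.card (ZZ d e k) = 16 ∧
    Nat.card (QQ d e k f₁) = 128 := by
  obtain ⟨φ, H⟩ := I0.tab h L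
  exact ⟨(h.card_cl H.inj H.Z).trans cardZ, (h.card_cl H.inj H.Q).trans cardQ⟩

theorem p_TT (L : I0 d e k f₁ f₂ ρ₁ ρ₂ β i j) : IsPGroup 2 (TT d e k f₁ f₂) :=
  .of_card (n := 9) (h.card_WW L).2.1

omit h in
theorem WW_le : WW d e k f₁ f₂ ≤ TT d e k f₁ f₂ := closure_mono (by
  rintro _ (rfl | rfl | rfl | rfl | rfl | rfl | rfl | rfl) <;> simp)
omit h in
theorem EE_le : EE d e k f₁ ≤ WW d e k f₁ f₂ := closure_mono (by
  rintro _ (rfl | rfl | rfl | rfl | rfl | rfl) <;> simp)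
omit h in
theorem EE_le_QQ : EE d e k f₁ ≤ QQ d e k f₁ := closure_mono (by
  rintro _ (rfl | rfl | rfl | rfl | rfl | rfl) <;> simp)
omit h in
theorem QQ_le : QQ d e k f₁ ≤ TT d e k f₁ f₂ := closure_mono (by
  rintro _ (rfl | rfl | rfl | rfl | rfl | rfl | rfl) <;> simp)
omit h in
theorem S0_TT : d.S0 ≤ TT d e k f₁ f₂ := closure_mono (by rintro _ (rfl | rfl | rfl | rfl) <;> simp)
omit h in
theorem U1_EE : d.U1 ≤ EE d e k f₁ := closure_mono (by rintro _ (rfl | rfl | rfl) <;> simp)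
omit h in
theorem A1_QQ : d.A1 ≤ QQ d e k f₁ := closure_mono (by rintro _ (rfl | rfl | rfl | rfl) <;> simp)
omit h in
theorem t_TT : d.t ∈ TT d e k f₁ f₂ := subset_closure (by simp)
omit h in
theorem t_QQ : d.t ∈ QQ d e k f₁ := subset_closure (by simp)

omit h in
theorem comm_of_sq {E : Subgroup G} (h2 : ∀ x ∈ E, x * x = 1) {x y : G} (hx : x ∈ E) (hy : y ∈ E) :
    x * y = y * x := by
  rw [← inv_eq_of_mul_eq_one_right (h2 _ (mul_mem hx hy)), mul_inv_rev,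
    inv_eq_of_mul_eq_one_right (h2 _ hx), inv_eq_of_mul_eq_one_right (h2 _ hy)]

theorem sq_EE (L : I0 d e k f₁ f₂ ρ₁ ρ₂ β i j) : (∀ x ∈ EE d e k f₁, x * x = 1) ∧
    ∀ x ∈ EE d.sw e k f₂, x * x = 1 := by
  obtain ⟨φ, H⟩ := I0.tab h L
  refine ⟨fun x hx => ?_, fun x hx => ?_⟩
  · obtain ⟨v, hv, rfl⟩ := (H.E x).1 hx
    rw [← map_mul, sqE v (.inl hv), map_one]
  · obtain ⟨v, hv, rfl⟩ := (H.E2 x).1 hx
    rw [← map_mul, sqE v (.inr hv), map_one]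

theorem EE_cen (L : I0 d e k f₁ f₂ ρ₁ ρ₂ β i j) : EE d e k f₁ ≤ 𝐂[EE d e k f₁] := fun x hx y hy =>
  comm_of_sq (h.sq_EE L).1 hy hx

theorem TT_nE (L : I0 d e k f₁ f₂ ρ₁ ρ₂ β i j) : TT d e k f₁ f₂ ≤ 𝐍[EE d e k f₁] := by
  obtain ⟨φ, H⟩ := I0.tab h L
  have : ∀ g ∈ (gs : List (I0T.K β i j)), φ g ∈ 𝐍[EE d e k f₁] := fun g hg =>
    mem_normalizer_fintype fun y hy => by
      obtain ⟨v, hv, rfl⟩ := (H.E y).1 hy
      exact (H.E _).2 ⟨_, nE v hv g hg, by simp⟩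
  simp only [List.forall_mem_cons, ← H.all.1, ← H.all.2.1, ← H.all.2.2.1, ← H.all.2.2.2.1,
    ← H.all.2.2.2.2.1, ← H.all.2.2.2.2.2.1, ← H.all.2.2.2.2.2.2.1, ← H.all.2.2.2.2.2.2.2.1,
    ← H.all.2.2.2.2.2.2.2.2] at this
  obtain ⟨a1, a2, a3, a4, a5, a6, a7, a8, a9, -⟩ := this
  refine (closure_le _).2 ?_
  rintro _ (rfl | rfl | rfl | rfl | rfl | rfl | rfl | rfl | rfl) <;> assumption

theorem notT_tab (ε : d.Eps) {T : Tab} [Fact T.OK] {φ : TG T →* G} (inj : Function.Injective φ)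
    {l : List (TG T)} {p : TG T → Prop} (h1 : p 1)
    (h2 : ∀ k, p k → (∀ g ∈ l, p (g * k)) ∧ (k = 1 ∨ ∃ g ∈ l, (g * k).v < k.v))
    (h3 : ∀ k, p k → k * k = 1) (h4 : Nat.card {k // p k} = 64) {y : TG T} (hy : p y) : ¬ d.T (φ y) := by
  have m := mem_cl φ l p h1 h2 (s := {x | x ∈ l.map φ}) fun _ => Iff.rfl
  have sq : ∀ x ∈ closure {x | x ∈ l.map φ}, x * x = 1 := fun x hx => by
    obtain ⟨v, hv, rfl⟩ := (m x).1 hx
    rw [← map_mul, h3 v hv, map_one]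
  exact h.notT_rank ε sq (by rw [h.card_cl inj m, h4]; omega) fun x hx =>
    comm_of_sq sq hx ((m _).2 ⟨y, hy, rfl⟩)

theorem T_sqA {y : G} (t : d.T y) : y * y = 1 := by
  obtain ⟨g, hg⟩ := t.exists
  exact ((hg.mul hg).unique (h.tt ▸ Cj.one g))

/-- involutions of `W` lie in an `E₆₄` (`E₁`, `E₂`, and for `β = i = j = 0` also `⟨Z₁, a f, g⟩`, `⟨Z₁, f, b g⟩`): `notT_rank` -/
theorem notT_W (ε : d.Eps) (L : I0 d e k f₁ f₂ ρ₁ ρ₂ β i j) {y : G} (hy : y ∈ WW d e k f₁ f₂) : ¬ d.T y := by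
  intro t
  obtain ⟨φ, H⟩ := I0.tab h L
  obtain ⟨v, hv, rfl⟩ := (H.W y).1 hy
  have vv : v * v = 1 := H.inj (by rw [map_mul, h.T_sqA t, map_one])
  have o : ∀ m, Msk m (1 : I0T.K β i j) := fun m => Nat.zero_and m
  have c : Msk 448 v ∨ Msk 304 v → False := by
    rintro (a | a)
    · exact h.notT_tab ε H.inj (o _) genE (fun k a => sqE k (.inl a)) cardE a t
    · exact h.notT_tab ε H.inj (o _) genE2 (fun k a => sqE k (.inr a)) cardE2 a t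
  by_cases hb : (β || i || j) = true
  · exact c (invW hb v hv vv)
  obtain ⟨⟨rfl, rfl⟩, rfl⟩ : (β = false ∧ i = false) ∧ j = false := by simpa using hb
  rcases invW0 v hv vv with a | a | a | a
  · exact c (.inl a)
  · exact c (.inr a)
  · exact h.notT_tab ε H.inj (BD.of (by decide +kernel)) genE3 sqE3 cardE3 a t
  · exact h.notT_tab ε H.inj (BD.of (by decide +kernel)) genE4 sqE4 cardE4 a t

theorem out_W' (L : I0 d e k f₁ f₂ ρ₁ ρ₂ β i j) {y : G} (hy : y ∈ TT d e k f₁ f₂) (hn : y ∉ WW d e k f₁ f₂)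
    (yy : y * y = 1) : ∃ p ∈ WW d e k f₁ f₂, Cj p d.t y ∧ (y ∈ QQ d e k f₁ → p ∈ EE d e k f₁) := by
  obtain ⟨φ, H⟩ := I0.tab h L
  obtain ⟨v, rfl⟩ := H.T ▸ hy
  obtain ⟨p, a, b, c⟩ := outW v (fun a => hn ((H.W _).2 ⟨v, a, rfl⟩))
    (H.inj (by rw [map_mul, yy, map_one]))
  refine ⟨φ p, (H.W _).2 ⟨p, a, rfl⟩, H.all.2.2.2.2.2.2.2.2 ▸ map_cj φ b, fun q => ?_⟩
  obtain ⟨w, hw, e1⟩ := (H.Q _).1 q
  exact (H.E _).2 ⟨p, c (H.inj e1 ▸ hw), rfl⟩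

/-- the 16 involutions of `t W` are conjugate to `t` under `W` -/
theorem out_W (L : I0 d e k f₁ f₂ ρ₁ ρ₂ β i j) {y : G} (hy : y ∈ TT d e k f₁ f₂) (hn : y ∉ WW d e k f₁ f₂)
    (yy : y * y = 1) : ∃ p ∈ WW d e k f₁ f₂, Cj p d.t y := by
  obtain ⟨p, a, b, -⟩ := h.out_W' L hy hn yy
  exact ⟨p, a, b⟩

/-- unless `β = i = j = 0` all involutions of `W` are in `E₁ ∪ E₂`; `W = E₁E₂` -/
theorem inv_W (L : I0 d e k f₁ f₂ ρ₁ ρ₂ β i j) (hb : (β || i || j) = true) {y : G} (hy : y ∈ WW d e k f₁ f₂)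
    (yy : y * y = 1) : y ∈ EE d e k f₁ ∨ y ∈ EE d.sw e k f₂ := by
  obtain ⟨φ, H⟩ := I0.tab h L
  obtain ⟨v, hv, rfl⟩ := (H.W y).1 hy
  exact (invW hb v hv (H.inj (by rw [map_mul, yy, map_one]))).imp (fun a => (H.E _).2 ⟨v, a, rfl⟩)
    fun a => (H.E2 _).2 ⟨v, a, rfl⟩

/-- `C_{E₁}(t) = U₁ = [E₁, t]` -/
theorem fix_U (L : I0 d e k f₁ f₂ ρ₁ ρ₂ β i j) {y : G} (hy : y ∈ EE d e k f₁) :
    (Cj d.t y y → y ∈ d.U1) ∧ y⁻¹ * (d.t * y * d.t⁻¹) ∈ d.U1 := by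
  obtain ⟨φ, H⟩ := I0.tab h L
  obtain ⟨v, hv, rfl⟩ := (H.E y).1 hy
  rw [H.all.2.2.2.2.2.2.2.2]
  exact ⟨fun c => (H.U _).2 ⟨v, (fixU v hv).1 (H.inj (by simpa [Cj] using c)), rfl⟩,
    (H.U _).2 ⟨_, (fixU v hv).2, by simp⟩⟩

omit h in
theorem U1_A1 : d.U1 ≤ d.A1 := closure_mono fun x hx => .inr hx

/-- an element of `N(E₁)` fixing `t` normalizes `A₁` -/
theorem nA1_of (L : I0 d e k f₁ f₂ ρ₁ ρ₂ β i j) {c : G} (hn : c ∈ 𝐍[EE d e k f₁]) (ht : Cj c d.t d.t) :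
    c ∈ 𝐍[d.A1] := by
  have : ∀ s ∈ d.U1, c * s * c⁻¹ ∈ d.A1 := fun s hs => by
    refine U1_A1 ((h.fix_U L (conj_mem_of_mem_normalizer hn (U1_EE hs))).1 (Cj.of_comm ?_))
    have := h.A1_cen h.t_A1 s (U1_A1 hs)
    rw [← (ht : _ = _), conj_mul, conj_mul, this]
  refine mem_norm_closure ?_
  rintro _ (rfl | rfl | rfl | rfl)
  · exact rg_cm ht h.t_A1
  all_goals exact this _ (subset_closure (by simp))

/-- a conjugate of `t` in `T` is conjugate to `t` under `W` -/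
theorem adjT (ε : d.Eps) (L : I0 d e k f₁ f₂ ρ₁ ρ₂ β i j) {x : G} (h1 : x * d.t * x⁻¹ ∈ TT d e k f₁ f₂) :
    ∃ p ∈ WW d e k f₁ f₂, Cj (p⁻¹ * x) d.t d.t ∧ (x * d.t * x⁻¹ ∈ QQ d e k f₁ → p ∈ EE d e k f₁) := by
  have t : d.T (x * d.t * x⁻¹) := d.T_t.cj rfl
  obtain ⟨p, a, b, c⟩ := h.out_W' L h1 (fun a => h.notT_W ε L a t) (h.T_sqA t)
  exact ⟨p, a, Cj.comp rfl b.symm, c⟩

/-- `x p` fixes `t`, normalizes `C_{E₁}(t)⟨t⟩ = A₁` (`C_{E₁}(t) = ⟨z,u,a⟩`); `reg`. -/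
theorem regT (ε : d.Eps) (L : I0 d e k f₁ f₂ ρ₁ ρ₂ β i j) {R : Subgroup G} (hR : IsPGroup 2 R)
    (hT : TT d e k f₁ f₂ ≤ R) {x : G} (hx : x ∈ R) (hn : x ∈ 𝐍[EE d e k f₁])
    (h1 : x * d.t * x⁻¹ ∈ TT d e k f₁ f₂) : x ∈ TT d e k f₁ f₂ := by
  obtain ⟨p, a, b, -⟩ := h.adjT ε L h1
  have := S0_TT (e := e) (k := k) (f₁ := f₁) (f₂ := f₂) (h.reg ε hR (S0_TT.trans hT)
    (mul_mem (inv_mem (hT (WW_le a))) hx) b
    (h.nA1_of L (mul_mem (inv_mem (h.TT_nE L (WW_le a))) hn) b))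
  exact (mul_mem_cancel_left (inv_mem (WW_le a))).1 this

/-- `T` is Sylow in `N(E₁)` (normalizer growth: `x ∈ N_R(T)`, `regT`). -/
theorem sylT (ε : d.Eps) (L : I0 d e k f₁ f₂ ρ₁ ρ₂ β i j) : IsSyl 2 (TT d e k f₁ f₂) 𝐍[EE d e k f₁] := by
  have : Fact (Nat.Prime 2) := ⟨Nat.prime_two⟩
  refine ⟨h.TT_nE L, h.p_TT L, fun R hR h1 h2 => by_contra fun hn => ?_⟩
  obtain ⟨x, ⟨hx, hx'⟩, hx2⟩ := SetLike.exists_of_lt (lt_inf_normalizer hR (lt_of_le_not_ge h1 hn))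
  exact hx2 (h.regT ε L hR h1 hx (h2 hx) (conj_mem_of_mem_normalizer hx' t_TT))

theorem QQ_cen (L : I0 d e k f₁ f₂ ρ₁ ρ₂ β i j) : QQ d e k f₁ ≤ 𝐂[d.U1] := by
  refine (closure_le _).2 ?_
  rintro _ (rfl | rfl | rfl | rfl | rfl | rfl | rfl)
  rotate_right
  · exact centralizer_anti U1_A1 (h.A1_cen h.t_A1)
  all_goals exact centralizer_anti U1_EE (h.EE_cen L (subset_closure (by simp)))

omit h in
theorem cen_A1 {c : G} (ht : Cj c d.t d.t) (hc : c ∈ 𝐂[d.U1]) : c ∈ 𝐂[d.A1] := mem_cent_closure (by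
  rintro _ (rfl | rfl | rfl | rfl)
  · exact ht
  all_goals exact Cj.of_cent hc (subset_closure (by simp)))

/-- `Q₁` is Sylow in `N(E₁) ⊓ C(U₁)` -/
theorem sylQQ (ε : d.Eps) (L : I0 d e k f₁ f₂ ρ₁ ρ₂ β i j) :
    IsSyl 2 (QQ d e k f₁) (𝐍[EE d e k f₁] ⊓ 𝐂[d.U1]) := by
  have : Fact (Nat.Prime 2) := ⟨Nat.prime_two⟩
  refine ⟨le_inf (QQ_le.trans (h.TT_nE L)) (h.QQ_cen L), (h.p_TT L).to_le QQ_le,
    fun R hR h1 h2 => by_contra fun hn => ?_⟩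
  obtain ⟨x, ⟨hx, hx'⟩, hx2⟩ := SetLike.exists_of_lt (lt_inf_normalizer hR (lt_of_le_not_ge h1 hn))
  have q := conj_mem_of_mem_normalizer hx' t_QQ
  obtain ⟨p, -, b, c⟩ := h.adjT ε L (QQ_le q)
  have pQ := EE_le_QQ (c q)
  have := (h.sylA1 ε).max (R ⊓ 𝐂[d.A1]) hR.to_inf_left (le_inf (A1_QQ.trans h1) h.A1_cen) inf_le_right
    ⟨R.mul_mem (R.inv_mem (h1 pQ)) hx, cen_A1 b (mul_mem (inv_mem (h.QQ_cen L pQ)) (h2 hx).2)⟩
  exact hx2 ((mul_mem_cancel_left (inv_mem pQ)).1 (A1_QQ this))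

/-- elements fixing `u` and the coset `h⟨u⟩` -/
def PP (k : G) : Subgroup G where
  carrier := {g | Cj g d.u d.u ∧ (Cj g k k ∨ Cj g k (k * d.u))}
  one_mem' := ⟨Cj.one' _, .inl (Cj.one' _)⟩
  mul_mem' := by
    rintro a b ⟨a1, a2 | a2⟩ ⟨b1, b2 | b2⟩
    · exact ⟨b1.comp a1, .inl (b2.comp a2)⟩
    · exact ⟨b1.comp a1, .inr (b2.comp (a2.mul a1))⟩
    · exact ⟨b1.comp a1, .inr (b2.comp a2)⟩
    · exact ⟨b1.comp a1, .inl (b2.comp ((a2.mul a1).to (by rw [mul_assoc, h.uu, mul_one])))⟩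
  inv_mem' := by
    rintro a ⟨a1, a2 | a2⟩
    · exact ⟨a1.symm, .inl a2.symm⟩
    · refine ⟨a1.symm, .inr ?_⟩
      have := a2.symm.mul a1.symm
      rwa [mul_assoc, h.uu, mul_one] at this

theorem cen_PP : 𝐂[EE d e k f₁] ≤ h.PP k := fun g hg =>
  ⟨Cj.of_cent hg (subset_closure (by simp)), .inl (Cj.of_cent hg (subset_closure (by simp)))⟩

theorem QQ_PP (L : I0 d e k f₁ f₂ ρ₁ ρ₂ β i j) : QQ d e k f₁ ≤ h.PP k := by
  refine (closure_le _).2 ?_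
  rintro _ (rfl | rfl | rfl | rfl | rfl | rfl | rfl)
  rotate_right
  · exact ⟨.of_comm h.ut.symm, .inr (h.flT L.ach.t L.ach.u)⟩
  all_goals exact h.cen_PP (h.EE_cen L (subset_closure (by simp)))

theorem liftA (ε : d.Eps) (L : I0 d e k f₁ f₂ ρ₁ ρ₂ β i j) {x : G} (hn : x ∈ 𝐍[EE d e k f₁])
    (hc : x ∈ 𝐂[d.A1]) : x ∈ h.PP k := by
  have st : ∀ g ∈ 𝐂[d.A1] ⊓ 𝐍[EE d e k f₁], ∀ y ∈ EE d e k f₁, y⁻¹ * (g * y * g⁻¹) ∈ d.U1 := by
    rintro g ⟨g1, g2⟩ y hy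
    have y' := conj_mem_of_mem_normalizer g2 hy
    refine (h.fix_U L (mul_mem (inv_mem hy) y')).1 ?_
    have w := (h.fix_U L hy).2
    set v := y⁻¹ * (d.t * y * d.t⁻¹) with hv
    have a1 : Cj d.t y (y * v) := by rw [hv, Cj]; group
    have a2 : Cj d.t (g * y * g⁻¹) (g * y * g⁻¹ * v) := by
      have b1 := Cj.of_cent g1 h.t_A1
      have b2 := Cj.of_cent g1 (U1_A1 w)
      rw [Cj, ← (b2 : _ = _), conj_mul, ← (a1 : _ = _), ← mul_assoc, ← mul_assoc, ← b1.comm,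
        mul_assoc _ g⁻¹, ← mul_inv_rev, ← b1.comm]
      group
    refine (a1.inv.mul a2).to ?_
    rw [mul_inv_rev, mul_assoc, ← mul_assoc y⁻¹,
      comm_of_sq (h.sq_EE L).1 (mul_mem (inv_mem hy) y') (U1_EE w), inv_mul_cancel_left]
  obtain ⟨s, hs, hx⟩ := two_lift0 (P := QQ d e k f₁) (M := 𝐂[d.A1] ⊓ 𝐍[EE d e k f₁])
    (le_inf (centralizer_anti A1_QQ) ((centralizer_anti EE_le_QQ).trans (centralizer_le_normalizer' _)))
    (fun g hg => mem_norm_closure (by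
      rintro _ (rfl | rfl | rfl | rfl | rfl | rfl | rfl)
      rotate_right
      · exact rg_cm (Cj.of_cent hg.1 h.t_A1) t_QQ
      all_goals exact EE_le_QQ (conj_mem_of_mem_normalizer hg.2 (subset_closure (by simp)))))
    (fun g hg ho => mem_cent_closure (by
      have : ∀ y ∈ EE d e k f₁, Cj g y y := fun y hy =>
        odd_step (k := 1) ho (n := y⁻¹ * (g * y * g⁻¹)) (by rw [Cj]; group)
          (Cj.of_cent hg.1 (U1_A1 (st g hg y hy)))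
          (by rw [pow_one, pow_two]; exact h.sq_A1 _ (U1_A1 (st g hg y hy)))
      rintro _ (rfl | rfl | rfl | rfl | rfl | rfl | rfl)
      rotate_right
      · exact Cj.of_cent hg.1 h.t_A1
      all_goals exact this _ (subset_closure (by simp))))
    ((h.sylA1 ε).mono (le_inf h.A1_cen (A1_QQ.trans (QQ_le.trans (h.TT_nE L)))) inf_le_left) ⟨hc, hn⟩
  simpa using mul_mem (h.cen_PP (centralizer_anti EE_le_QQ hx)) (h.QQ_PP L (A1_QQ hs))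

theorem rho_nE (L : I0 d e k f₁ f₂ ρ₁ ρ₂ β i j) : ρ₁ ∈ 𝐍[EE d e k f₁] := mem_norm_closure (by
  have m : ∀ {x y : G}, x ∈ ({d.z, d.u, e, k, d.a, f₁} : Set G) → y ∈ ({d.z, d.u, e, k, d.a, f₁} : Set G) →
      x * y ∈ EE d e k f₁ := fun a b => mul_mem (subset_closure a) (subset_closure b)
  rintro _ (rfl | rfl | rfl | rfl | rfl | rfl)
  · exact rg_cm L.l1.pz (subset_closure (by simp))
  · exact rg_cm L.l1.pu (subset_closure (by simp))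
  · exact rg_cm L.l1.pe (subset_closure (by simp))
  · exact rg_cm L.p1h (subset_closure (by simp))
  · exact rg_cm L.l1.pa (m (by simp) (by simp))
  · exact rg_cm L.l1.pf (inv_mem (m (by simp) (by simp))))

theorem liftB (ε : d.Eps) (L : I0 d e k f₁ f₂ ρ₁ ρ₂ β i j) {x : G} (hn : x ∈ 𝐍[EE d e k f₁])
    (ht : Cj x d.t d.t) (hz : Cj x d.z d.z) : x ∈ h.PP k := by
  obtain ⟨xu, xV⟩ := h.stab1 ε ht (h.nA1_of L hn ht)
  have key : ∀ y ∈ 𝐍[EE d e k f₁], Cj y d.t d.t → Cj y d.u d.u → Cj y d.z d.z → Cj y d.a d.a →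
      y ∈ h.PP k := fun y a b c f g => h.liftA ε L a (mem_cent_closure (by simp [b, c, f, g]))
  obtain ⟨l, m, e1⟩ := h.mem_V1.1 (conj_mem_of_mem_normalizer xV (subset_closure (by simp) : d.a ∈ d.V1))
  have n1 : ∀ s, Cj x s (d.el false false l false m) → s = d.a := fun s hs =>
    hs.symm.unique (Cj.symm e1)
  cases l <;> cases m
  · have := n1 1 (h.el_one ▸ Cj.one x)
    simp [h.el_a, h.el_one, h.el_eq_iff] at this
  · have := n1 d.z (h.el_z ▸ hz)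
    simp [h.el_a, h.el_z, h.el_eq_iff] at this
  · exact key x hn ht xu hz (e1.trans h.el_a.symm)
  · have b1 : d.b ∈ h.PP k := ⟨.of_comm h.bu, .inl L.ach.b.flip⟩
    have bz : Cj d.b d.z d.z := .of_comm h.zb.symm
    refine (mul_mem_cancel_left b1).1 (key _ (mul_mem (h.TT_nE L (S0_TT d.b_S0)) hn)
      (ht.comp (.of_comm h.bt)) (xu.comp b1.1) (hz.comp bz) (Cj.comp (y := d.a * d.z) ?_ ?_))
    · exact e1.trans (by simp [Dat.el])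
    · exact (h.cj_ba.mul bz).to (by rw [mul_assoc, h.zz, mul_one])

/-- an element of `N(E₁)` fixing `t` fixes `u` and `h⟨u⟩` -/
theorem liftC (ε : d.Eps) (L : I0 d e k f₁ f₂ ρ₁ ρ₂ β i j) {x : G} (hn : x ∈ 𝐍[EE d e k f₁])
    (ht : Cj x d.t d.t) : x ∈ h.PP k := by
  obtain ⟨xu, xV⟩ := h.stab1 ε ht (h.nA1_of L hn ht)
  have r1 : ρ₁⁻¹ ∈ h.PP k := inv_mem ⟨L.l1.pu, .inl L.p1h⟩
  have r2 := inv_mem (h.rho_nE L)
  obtain ⟨l, m, e1⟩ := h.mem_V1.1 (conj_mem_of_mem_normalizer xV (subset_closure (by simp) : d.z ∈ d.V1))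
  cases l <;> cases m
  · exact absurd ((Cj.symm e1).unique (h.el_one ▸ Cj.one x⁻¹)) h.z1
  · exact h.liftB ε L hn ht (e1.trans h.el_z.symm)
  · exact (mul_mem_cancel_left r1).1 (h.liftB ε L (mul_mem r2 hn) (ht.comp L.l1.pt.symm)
      (Cj.comp (e1.trans h.el_a.symm) L.l1.pz.symm))
  · refine (mul_mem_cancel_left r1).1 ((mul_mem_cancel_left r1).1 (h.liftB ε L
      (mul_mem r2 (mul_mem r2 hn)) ((ht.comp L.l1.pt.symm).comp L.l1.pt.symm)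
      (Cj.comp (Cj.comp (y := d.a * d.z) ?_ L.l1.pa.symm) L.l1.pz.symm)))
    exact e1.trans (by simp [Dat.el])

/-- An element `g ∈ N(E₁)` commuting with `t` on `E₁`.  `Q₁ = E₁⟨t⟩` is Sylow in `C(E₁)⟨t⟩` (`T ⊓ C(E₁)⟨t⟩ = Q₁`, `sylT`, `C(E₁)⟨t⟩` is normalized by ...;
directly: `x ∈ N_R(Q₁)`, `R ≤ C(E₁)⟨t⟩` a 2-group; the involutions of `t E₁` are `t U₁`, one `E₁`-class, so `x p` fixes `t` and centralizes `A₁`, `sylA1`).
Frattini: `g = c n`, `c ∈ C(E₁)`, `n ∈ N(Q₁) ⊓ N(E₁)`; adjust by `E₁` so that `n` fixes `t`; `n ∈ N(A₁)`, `stab1`: `n` fixes `u` and acts on `V₁` as some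
`s ∈ ⟨ρ₁, b⟩` (`ρ₁, b` fix `t, u, h` and normalize `Q₁`).  `s⁻¹ n ∈ M = C(A₁) ⊓ N(Q₁) ⊓ N(E₁)`.  An `x ∈ M` maps `h ↦ h'` with `[t,h'] = [t,h] = u`, so `h' = h v`,
`v ∈ U₁`; in the same way `e ↦ e v'`, `f ↦ f v''`, so `x² ∈ C(Q₁)`, odd elements of `M` centralize `Q₁`; `two_lift` (`P = Q₁`, `M C(Q₁) = M`), the Sylow subgroup
of `M` is `A₁` (`sylA1`), so `x` acts on `E₁` as `1` or `t`. -/
theorem liftE (ε : d.Eps) (L : I0 d e k f₁ f₂ ρ₁ ρ₂ β i j) {g : G} (hn : g ∈ 𝐍[EE d e k f₁])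
    (hc : g * d.t * g⁻¹ * d.t ∈ 𝐂[EE d e k f₁]) : Cj g d.u d.u ∧ (Cj g k k ∨ Cj g k (k * d.u)) := by
  have : Fact (Nat.Prime 2) := ⟨Nat.prime_two⟩
  have sQ := (h.sylQQ ε L).mono (le_inf (h.sylQQ ε L).le (h.QQ_PP L)) inf_le_left
  have t : d.T (g * d.t * g⁻¹) := d.T_t.cj rfl
  have m1 : g * d.t * g⁻¹ ∈ 𝐍[EE d e k f₁] ⊓ 𝐂[d.U1] ⊓ h.PP k :=
    (mul_mem_cancel_right (sQ.le t_QQ)).1
      (mem_inf.2 ⟨mem_inf.2 ⟨centralizer_le_normalizer' _ hc, centralizer_anti U1_EE hc⟩, h.cen_PP hc⟩)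
  obtain ⟨m, hm, l⟩ := sQ.exists_cj_le (R := zpowers (g * d.t * g⁻¹))
    (IsPGroup.of_card_dvd_pow (n := 1) (by
      rw [Nat.card_zpowers]; exact orderOf_dvd_of_pow_eq_one (by rw [pow_one, pow_two, h.T_sqA t])))
    (zpowers_le.2 m1)
  have q : m * g * d.t * (m * g)⁻¹ ∈ QQ d e k f₁ := by
    have := l (conj_mem_cj m (mem_zpowers _))
    simpa only [mul_assoc, mul_inv_rev] using this
  obtain ⟨p, -, b, c⟩ := h.adjT ε L (QQ_le q)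
  obtain ⟨hm1, hm2⟩ := mem_inf.1 hm
  have := h.liftC ε L (mul_mem (inv_mem (le_normalizer (c q))) (mul_mem (mem_inf.1 hm1).1 hn)) b
  have k1 := (mul_mem_cancel_left hm2).1
    ((mul_mem_cancel_left (inv_mem (h.QQ_PP L (EE_le_QQ (c q))))).1 this)
  exact k1

end Dat.Cfq

end Cfsg.Agent.HSE
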