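import Cfsg.Agent.HSE.I0OT

/-! Binary coordinates on elementary abelian groups; automorphisms of the table group `OW0`. -/

set_option autoImplicit false
set_option maxRecDepth 100000
set_option synthInstance.maxHeartbeats 400000
set_option synthInstance.maxSize 4000

namespace Cfsg.Agent.HSE

open Subgroup Cfsg.Agent.Comp Cfsg.Agent.X32 Cfsg.Agent.PLocal.Amb

variable {G : Type*} [Group G] {X : List G} {x g : G}

/-- linear map on binary vectors -/
noncomputable def ln (l : List ℕ) : ℕ → ℕ :=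
  List.rec (motive := fun _ => ℕ → ℕ) (fun _ => 0)
    (fun c _ ih y => force y fun y => Nat.xor (Nat.mul c (Nat.mod y 2)) (ih (Nat.div y 2))) l

theorem ln_cons (c : ℕ) (l : List ℕ) (y : ℕ) : ln (c :: l) y = c * (y % 2) ^^^ ln l (y / 2) :=
  force_eq y fun y => Nat.xor (Nat.mul c (Nat.mod y 2)) (ln l (Nat.div y 2))

theorem ps_zero (X : List G) : ps X 0 = 1 := by induction X <;> simp [ps, *]

theorem ps_mem {H : Subgroup G} (h : ∀ k ∈ X, k ∈ H) (y : ℕ) : ps X y ∈ H := by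
  induction X generalizing y with
  | nil => exact one_mem _
  | cons g l ih => exact mul_mem (pow_mem (h g (by simp)) _) (ih (fun k a => h k (by simp [a])) _)

theorem ps_mul (h2 : ∀ g ∈ X, g * g = 1) (hc : X.Pairwise Commute) (y y' : ℕ) :
    ps X y * ps X y' = ps X (y ^^^ y') := by
  induction X generalizing y y' with
  | nil => exact one_mul _
  | cons g l ih =>
    rw [List.pairwise_cons] at hc
    have c : ∀ y, Commute (ps l y) g := fun y => mem_centralizer_singleton_iff.1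
      (ps_mem (fun k a => mem_centralizer_singleton_iff.2 (hc.1 k a).symm.eq) y)
    rw [ps, ps, ps, ((c _).pow_right _).mul_mul_mul_comm, ih (fun k a => h2 k (by simp [a])) hc.2,
      Nat.xor_div_two, Nat.xor_mod_two_eq, ← pow_add, Nat.add_mod y,
      ← pow_eq_pow_mod _ (by rw [pow_two, h2 g (by simp)])]

theorem ps_mod (X : List G) (y : ℕ) : ps X (y % 2 ^ X.length) = ps X y := by
  induction X generalizing y with
  | nil => rfl
  | cons g l ih =>
    rw [ps, ps, List.length_cons, pow_succ', Nat.mod_mul_right_mod, Nat.mod_mul_right_div_self, ih]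

theorem map_ps {K : Type*} [Group K] (φ : G →* K) (X : List G) (y : ℕ) :
    φ (ps X y) = ps (X.map φ) y := by
  induction X generalizing y <;> simp [ps, *]

/-- binary coordinates -/
structure Fr (X : List G) (n : ℕ) (ψ : ℕ → G) : Prop where
  eq : ∀ y, ψ y = ps X y
  mul : ∀ y y', ψ y * ψ y' = ψ (y ^^^ y')
  inj : ∀ {y y'}, ψ y = ψ y' → y % n = y' % n

/-- action in binary coordinates -/
def Al (ψ : ℕ → G) (x : G) (F : ℕ → ℕ) : Prop := ∀ y, Cj x (ψ y) (ψ (F y))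

theorem Al.mul {ψ : ℕ → G} {F F' : ℕ → ℕ} (a : Al ψ x F) (b : Al ψ g F') :
    Al ψ (x * g) fun y => F (F' y) := fun y => (b y).comp (a _)

namespace Fr
variable {n : ℕ} {ψ : ℕ → G} (F : Fr X n ψ)
include F

theorem zero : ψ 0 = 1 := (F.eq 0).trans (ps_zero X)

theorem act' {gs : List G} {cs : List ℕ} (h : List.Forall₂ (fun g c => Cj x g (ψ c)) gs cs) (y : ℕ) :
    Cj x (ps gs y) (ψ (ln cs y)) := by
  induction h generalizing y with
  | nil => exact (Cj.one x).to F.zero.symm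
  | cons a _ ih =>
    rw [ps, ln_cons, ← F.mul]
    refine Cj.mul ?_ (ih _)
    rcases Nat.mod_two_eq_zero_or_one y with e | e <;> rw [e]
    · simpa [F.zero] using Cj.one x
    · simpa using a

theorem act {cs : List ℕ} (h : List.Forall₂ (fun g c => Cj x g (ψ c)) X cs) : Al ψ x (ln cs) :=
  fun y => F.eq y ▸ F.act' h y

theorem mem {H : Subgroup G} (hH : H = closure {g | g ∈ X}) (hX : ∀ g ∈ X, ∃ y, ψ y = g) :
    g ∈ H ↔ ∃ y, ψ y = g := by
  subst hH
  refine ⟨fun a => ?_, fun ⟨y, a⟩ => a ▸ F.eq y ▸ ps_mem (fun _ b => Subgroup.subset_closure b) y⟩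
  induction a using closure_induction with
  | mem k a => exact hX k a
  | one => exact ⟨0, F.zero⟩
  | mul _ _ _ _ a b =>
    obtain ⟨y, rfl⟩ := a
    obtain ⟨y', rfl⟩ := b
    exact ⟨_, (F.mul y y').symm⟩
  | inv _ _ a =>
    obtain ⟨y, rfl⟩ := a
    exact ⟨y, eq_inv_of_mul_eq_one_left (by rw [F.mul, Nat.xor_self, F.zero])⟩

end Fr

/-- generators of the words -/
def sel {α : Type*} (a b c d e : α) : ℕ → α
  | 0 => a
  | 1 => b
  | 2 => c
  | 3 => d
  | _ => e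

noncomputable def wf (s : ℕ → List ℕ) (w : List ℕ) (y : ℕ) : ℕ :=
  List.rec (motive := fun _ => ℕ) y (fun i _ ih => ln (s i) ih) w

theorem Al.word {ψ : ℕ → G} {γ : ℕ → G} {s : ℕ → List ℕ} (h : ∀ i, Al ψ (γ i) (ln (s i))) (w : List ℕ) :
    Al ψ (w.map γ).prod (wf s w) := by
  induction w with
  | nil => exact fun y => Cj.one' _
  | cons i w ih => exact (h i).mul ih

def lT : List ℕ := [1, 2, 5, 10, 16, 48]
def lR : List ℕ := [16, 2, 32, 8, 17, 36]
def lB : List ℕ := [1, 2, 4, 8, 17, 36]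

def wds : List (List ℕ) := [[0, 1, 1, 0, 1, 0], [0, 0, 1, 1, 0, 0, 1, 0, 0], [3, 1, 0, 0, 4, 1, 0, 0, 1, 3],
  [0, 1, 3, 1, 0, 0, 1, 0, 0], [0, 0, 1, 0, 1, 0, 1, 0, 1, 0, 0], [0, 1, 0, 1, 1, 0, 1, 0],
  [0, 0, 1, 0, 0, 1, 1, 0, 0, 1, 0, 0], [0, 0, 1, 0, 0, 1, 3, 1, 0]]

theorem chkO : ∀ U ∈ List.range 16, ∀ H ∈ List.range 16, ∀ A ∈ List.range 16, ∀ B ∈ List.range 16,
    ∀ o ∈ [[1, U, 4, H, (48 ^^^ A) ^^^ (32 ^^^ B), 32 ^^^ B]],
    (3 ^^^ ln o 3 ^^^ ln o (ln o 3)) % 64 = 0 % 64 →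
    (∀ y ∈ [2, 8, 16, 32], ln lT (ln o (ln lT (ln o y))) % 64 = y % 64) → ∃ w ∈ wds,
      ∀ F ∈ [wf (sel o lR lB [1, 2, 4, 8, 20, 36] lT) w],
      (∀ y ∈ [1, 2, 4, 8, 16, 32], F (ln lT y) = ln lT (F y)) ∧
        ¬ (F 2 % 64 = 2 % 64 ∧ (F 8 % 64 = 8 % 64 ∨ F 8 % 64 = 10 % 64)) := BD.of (by decide +kernel)

theorem chkZ : ∀ U ∈ List.range 16, ∀ H ∈ List.range 16, ∀ E ∈ [4, 5],
    (∀ y ∈ List.range 16, ln [1, U, E, H] y % 16 = 0 % 16 → y = 0) → U ∈ [2, 3, 6, 7] ∨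
    ∀ U' ∈ List.range 16, ∀ H' ∈ List.range 16, ln [1, U', 5, H'] U % 16 = U % 16 →
      ln [1, U', 5, H'] H % 16 = (U ^^^ H) % 16 →
      ∀ s ∈ [fun y => ln [1, 2, 5, 10] (ln [1, U', 5, H'] y)], ∃ y ∈ [3, 2],
        (y ^^^ s (s y) ^^^ s (s (s (s y)))) % 16 = 0 := by decide +kernel

theorem chkH : ∀ F ∈ [wf (sel [] lR lB [1, 2, 4, 8, 20, 37] lT) [1, 1, 3, 1, 3, 1]],
    (F 1 = 5 ∧ F 2 = 2 ∧ F 4 = 1 ∧ F 8 = 8) ∧ ∀ y ∈ [1, 2, 4, 8, 16, 32],
      F (ln lB y) = ln [1, 2, 4, 8, 20, 37] (F y) ∧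
      F (ln [1, 2, 4, 8, 20, 37] y) = ln lB (ln [1, 2, 4, 8, 20, 37] (F y)) := BD.of (by decide +kernel)

theorem exists_aut {K : Type*} [Group K] [Finite K] {φ : K →* G} (hφ : Function.Injective φ) {n : G}
    (hn : n ∈ 𝐍[φ.range]) : ∃ θ : K ≃* K, ∀ k, Cj n (φ k) (φ (θ k)) := by
  choose θ h using fun k => conj_mem_of_mem_normalizer hn (⟨k, rfl⟩ : φ k ∈ φ.range)
  let f : K →* K := MonoidHom.mk' θ fun a b => hφ (by rw [map_mul, h, h, h, map_mul, conj_mul])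
  have : Function.Injective f := (injective_iff_map_eq_one f).2 fun a e => hφ (by
    have := h a
    rwa [show θ a = 1 from e, map_one, eq_comm, conj_eq_one_iff, ← map_one φ] at this)
  exact ⟨MulEquiv.ofBijective f (Finite.injective_iff_bijective.1 this), fun k => (h k).symm⟩

namespace OW0

variable (θ : K ≃* K) {c p q : K}

theorem cz_map : (∀ w, Commute w (θ p)) ↔ ∀ w, Commute w p :=
  ⟨fun a _ => Commute.of_map θ.injective (a _), fun a => θ.surjective.forall.2 fun w => (a w).map θ⟩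

theorem Y.cl (a : Y c p) : (A gf gg (θ p) ∧ θ c = ge) ∨ (A (ga * gf) (gb * gg) (θ p) ∧ θ c = ge * gz) := by
  have b : ∀ w, θ p * w * (θ p)⁻¹ * w⁻¹ = 1 ∨ θ p * w * (θ p)⁻¹ * w⁻¹ = θ c :=
    θ.surjective.forall.2 fun w => by
      simpa only [← map_inv, ← map_mul, EmbeddingLike.apply_eq_iff_eq, EmbeddingLike.map_eq_one_iff]
        using a.2.2 w
  rcases ycl (θ p) (by rw [← map_mul, a.1, map_one]) with d | ⟨d, w, -, e⟩ | ⟨d, w, -, e⟩ |
    ⟨w, -, v, -, d, e, f⟩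
  · exact absurd ((cz_map θ).1 d) a.2.1
  · exact Or.inl ⟨d, ((e ▸ b w).resolve_left misc.1).symm⟩
  · exact Or.inr ⟨d, ((e ▸ b w).resolve_left misc.2.1).symm⟩
  · exact absurd (((b w).resolve_left d).trans ((b v).resolve_left e).symm) f

theorem two (n : ¬ ∀ w, Commute w (p⁻¹ * q)) (a : A p q (θ p)) (b : A p q (θ q)) :
    (∀ w, Commute w (p⁻¹ * θ (θ p))) ∧ ∀ w, Commute w (q⁻¹ * θ (θ q)) := by
  have e : ∀ x y : K, (∀ w, Commute w (x⁻¹ * y)) ↔ (x : K ⧸ center K) = y := fun x y => by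
    rw [QuotientGroup.eq, mem_center_iff]; rfl
  have m : ∀ x y : K, (θ x : K ⧸ center K) = θ y ↔ (x : K ⧸ center K) = y := fun x y => by
    rw [← e, ← e, ← map_inv, ← map_mul, cz_map]
  simp only [A, e] at n a b ⊢
  rcases a with a | a <;> rcases b with b | b
  · exact absurd ((m _ _).1 (a.symm.trans b)) n
  · exact ⟨a.trans ((m _ _).2 a), b.trans ((m _ _).2 b)⟩
  · exact ⟨b.trans ((m _ _).2 a), a.trans ((m _ _).2 b)⟩
  · exact absurd ((m _ _).1 (a.symm.trans b)) n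

theorem aut : θ gz = gz ∧ (θ ge = ge ∨ θ ge = ge * gz) ∧ (θ ge = ge → ∀ p ∈ [gf, gg, ga * gf, gb * gg],
    ∀ w, Commute w (p⁻¹ * θ (θ p))) := by
  obtain ⟨y1, y2, y3, y4⟩ := y4
  obtain ⟨-, -, m1, m2, m3, m4⟩ := misc
  have z : θ gz = gz := by
    rcases y1.cl θ with ⟨-, a⟩ | ⟨-, a⟩ <;> rcases y3.cl θ with ⟨-, b⟩ | ⟨-, b⟩
    · exact absurd (θ.injective (a.trans b.symm)) m1
    · rwa [map_mul, a, mul_right_inj] at b
    · rw [map_mul, a] at b
      exact (eq_inv_mul_of_mul_eq b).trans m2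
    · exact absurd (θ.injective (a.trans b.symm)) m1
  refine ⟨z, (y1.cl θ).imp And.right And.right, fun a => ?_⟩
  have b : θ (ge * gz) = ge * gz := by rw [map_mul, a, z]
  have c := two θ m3 ((y1.cl θ).resolve_right fun c => m1 (a.symm.trans c.2)).1
    ((y2.cl θ).resolve_right fun c => m1 (a.symm.trans c.2)).1
  have d := two θ m4 ((y3.cl θ).resolve_left fun c => m1 (c.2.symm.trans b)).1
    ((y4.cl θ).resolve_left fun c => m1 (c.2.symm.trans b)).1
  simp only [List.forall_mem_cons, List.not_mem_nil, false_imp_iff, implies_true, and_true]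
  exact ⟨c.1, c.2, d.1, d.2⟩

end OW0

end Cfsg.Agent.HSE
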