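import Mathlib
import Cfsg.Agent.HSE.I0A
import Cfsg.Agent.HSE.I0OA

/-! Type (I, I), wreath case: Lemma O. -/

set_option autoImplicit false
set_option linter.unusedSectionVars false
set_option linter.unusedVariables false

namespace Cfsg.Agent.HSE

open Cfsg Subgroup Cfsg.Agent.PLocal Cfsg.Agent.PLocal.Amb Cfsg.Agent.MacW

variable {G : Type*} [Group G] [Finite G]

namespace Dat.Cfq

variable {d : Dat G} (h : d.Cfq)
include h

variable {e k f₁ f₂ ρ₁ ρ₂ : G} {j : Bool}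

theorem o_r8 (L : I0 d e k f₁ f₂ ρ₁ ρ₂ false false j) :
    R8 d.z d.u e k d.a f₁ d.b f₂ (e * bp d.z j) := by
  have ee : e * e = 1 := L.l1.ee
  have ez := h.cz' L.l1.ac.a L.l1.ac.b
  have c : f₁ * f₂ * f₁⁻¹ * f₂⁻¹ = e * bp d.z j := by simpa [bp] using L.hc
  have c2 : e * bp d.z j * (e * bp d.z j) = 1 := by
    cases j
    · simpa [bp] using ee
    · rw [bp_true, (show Commute d.z e from ez.comm.symm).mul_mul_mul_comm, ee, h.zz, one_mul]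
  refine ⟨h.zz, h.uu, .of_comm h.zu.symm, ee, ez, L.l1.ac.u, L.hh, h.cz' L.ach.a L.ach.b, L.ach.u, L.he,
    h.aa, .of_comm h.za.symm, .of_comm h.au, L.l1.ac.a.flip, L.ach.a.flip, L.l1.ff, L.l1.fz, L.l1.fu,
    L.l1.fe, L.hf1.flip, L.l1.fa, h.bb, .of_comm h.zb.symm, .of_comm h.bu, L.l1.ac.b.flip, L.ach.b.flip,
    ?_, L.l1.fb.flipL.to ?_, L.l2.ff, L.l2.fz, ?_, ?_, L.hf2.flip, ?_, ?_, L.l2.fa⟩
  · rw [Cj, h.ba, mul_assoc d.a, ← h.zb]; group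
  · rw [bp_false, mul_one, inv_eq_of_mul_eq_one_right ee]
  · simpa [Dat.sw] using L.l2.fu.mul L.l2.fz.inv
  · simpa [bp] using L.l2.fe
  · simpa [bp, Dat.sw] using L.l2.fb
  · rw [Cj, ← inv_eq_of_mul_eq_one_right c2, ← c]; group

omit h in
theorem o_EW : EE d e k f₁ ≤ WW d e k f₁ f₂ := closure_mono (by
  simp only [Set.insert_subset_iff, Set.singleton_subset_iff, Set.mem_insert_iff, true_or, or_true, and_self])

omit h in
theorem o_WT : WW d e k f₁ f₂ ≤ TT d e k f₁ f₂ := closure_mono (by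
  simp only [Set.insert_subset_iff, Set.singleton_subset_iff, Set.mem_insert_iff, true_or, or_true, and_self])

omit h in
theorem o_mE : d.z ∈ EE d e k f₁ ∧ d.u ∈ EE d e k f₁ ∧ e ∈ EE d e k f₁ ∧ k ∈ EE d e k f₁ ∧
    d.a ∈ EE d e k f₁ ∧ f₁ ∈ EE d e k f₁ := by
  refine ⟨?_, ?_, ?_, ?_, ?_, ?_⟩ <;> exact subset_closure (by simp)

omit h in
theorem o_mW : d.b ∈ WW d e k f₁ f₂ ∧ f₂ ∈ WW d e k f₁ f₂ := by
  refine ⟨?_, ?_⟩ <;> exact subset_closure (by simp)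

theorem o_t (L : I0 d e k f₁ f₂ ρ₁ ρ₂ false false j) : Cj d.t d.z d.z ∧ Cj d.t d.u d.u ∧
    Cj d.t e (d.z * e) ∧ Cj d.t k (d.u * k) ∧ Cj d.t d.a d.a ∧ Cj d.t f₁ (d.a * f₁) ∧ Cj d.t d.b d.b ∧
    Cj d.t f₂ (d.b * f₂) := by
  have i := inv_eq_of_mul_eq_one_right h.tt
  exact ⟨.of_comm h.zt.symm, .of_comm h.ut.symm, i ▸ L.l1.ac.t.flipR, i ▸ L.ach.t.flipR,
    .of_comm h.at'.symm, i ▸ L.l1.ft.flipR, .of_comm h.bt.symm, i ▸ L.l2.ft.flipR⟩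

theorem o_cW (L : I0 d e k f₁ f₂ ρ₁ ρ₂ false false j) : d.z ∈ 𝐂[WW d e k f₁ f₂] ∧
    d.u ∈ 𝐂[WW d e k f₁ f₂] ∧ e ∈ 𝐂[WW d e k f₁ f₂] ∧ k ∈ 𝐂[WW d e k f₁ f₂] := by
  have r := h.o_r8 L
  refine ⟨?_, ?_, ?_, ?_⟩ <;> refine mem_cent_closure ?_ <;>
    rintro _ (rfl | rfl | rfl | rfl | rfl | rfl | rfl | rfl)
  exacts [.self _, r.u_z.flip, r.e_z.flip, r.h_z.flip, r.a_z.flip, r.f_z.flip, r.b_z.flip, r.g_z.flip,
    r.u_z, .self _, r.e_u.flip, r.h_u.flip, r.a_u.flip, r.f_u.flip, r.b_u.flip, r.g_u.flip,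
    r.e_z, r.e_u, .self _, r.h_e.flip, r.a_e.flip, r.f_e.flip, r.b_e.flip, r.g_e.flip,
    r.h_z, r.h_u, r.h_e, .self _, r.a_h.flip, r.f_h.flip, r.b_h.flip, r.g_h.flip]

theorem o_tN (L : I0 d e k f₁ f₂ ρ₁ ρ₂ false false j) : d.t ∈ 𝐍[WW d e k f₁ f₂] := by
  obtain ⟨t1, t2, t3, t4, t5, t6, t7, t8⟩ := h.o_t L
  obtain ⟨m1, m2, m3, m4, m5, m6⟩ := o_mE (d := d) (e := e) (k := k) (f₁ := f₁)
  obtain ⟨m7, m8⟩ := o_mW (d := d) (e := e) (k := k) (f₁ := f₁) (f₂ := f₂)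
  have l := o_EW (d := d) (e := e) (k := k) (f₁ := f₁) (f₂ := f₂)
  refine mem_norm_closure ?_
  rintro _ (rfl | rfl | rfl | rfl | rfl | rfl | rfl | rfl)
  exacts [rg_cm t1 (l m1), rg_cm t2 (l m2), rg_cm t3 (l (mul_mem m1 m3)), rg_cm t4 (l (mul_mem m2 m4)),
    rg_cm t5 (l m5), rg_cm t6 (l (mul_mem m5 m6)), rg_cm t7 m7, rg_cm t8 (mul_mem m7 m8)]

theorem o_spl (L : I0 d e k f₁ f₂ ρ₁ ρ₂ false false j) {y : G} (hy : y ∈ TT d e k f₁ f₂) :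
    y ∈ WW d e k f₁ f₂ ∨ ∃ w ∈ WW d e k f₁ f₂, y = w * d.t := by
  have : TT d e k f₁ f₂ ≤ WW d e k f₁ f₂ ⊔ zpowers d.t := (closure_le _).2 (by
    rintro _ (rfl | rfl | rfl | rfl | rfl | rfl | rfl | rfl | rfl)
    iterate 8 exact mem_sup_left (subset_closure (by simp))
    exact mem_sup_right (mem_zpowers _))
  obtain ⟨w, hw, s, hs, rfl⟩ := (mem_sup_of_le_normalizer_left (zpowers_le.2 (h.o_tN L))).1 (this hy)
  obtain ⟨n, rfl⟩ := mem_powers_iff_mem_zpowers.2 hs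
  obtain ⟨n, rfl | rfl⟩ := n.even_or_odd'
  · exact Or.inl (by simpa [pow_mul, pow_two, h.tt] using hw)
  · exact Or.inr ⟨w, hw, by simp [pow_succ, pow_mul, h.tt]⟩

theorem o_fr (L : I0 d e k f₁ f₂ ρ₁ ρ₂ false false j) : ∃ ψ χ, Fr [d.z, d.u, e, k, d.a, f₁] 64 ψ ∧
    Fr [d.z, d.u, e, k] 16 χ ∧ (∀ y < 16, χ y = ψ y) ∧ (∀ g, g ∈ EE d e k f₁ ↔ ∃ y, ψ y = g) ∧
    Al ψ d.t (ln lT) ∧ Al ψ ρ₁ (ln lR) ∧ Al ψ d.b (ln lB) ∧
    Al ψ f₂ (ln [1, 2, 4, 8, 20, cond j 37 36]) := by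
  have r := h.o_r8 L
  have m : ∀ y y', ps [d.z, d.u, e, k, d.a, f₁] y * ps [d.z, d.u, e, k, d.a, f₁] y' = ps _ (y ^^^ y') :=
    ps_mul (by simp [r.hz, r.hu, r.he, r.hh, r.ha, r.hf]) (by
      simp only [List.pairwise_cons, List.forall_mem_cons, List.not_mem_nil, false_imp_iff, implies_true,
        and_true, List.Pairwise.nil]
      exact ⟨⟨r.u_z.comm.symm, r.e_z.comm.symm, r.h_z.comm.symm, r.a_z.comm.symm, r.f_z.comm.symm⟩,
        ⟨r.e_u.comm.symm, r.h_u.comm.symm, r.a_u.comm.symm, r.f_u.comm.symm⟩,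
        ⟨r.h_e.comm.symm, r.a_e.comm.symm, r.f_e.comm.symm⟩, ⟨r.a_h.comm.symm, r.f_h.comm.symm⟩,
        r.f_a.comm.symm⟩)
  have M : ∀ g, g ∈ EE d e k f₁ ↔ ∃ y, ps [d.z, d.u, e, k, d.a, f₁] y = g := fun g =>
    Fr.mem (n := 1) ⟨fun _ => rfl, m, fun _ => by omega⟩ (congrArg Subgroup.closure (Set.ext (by simp))) (by
      simp only [List.forall_mem_cons, List.not_mem_nil, false_imp_iff, implies_true, and_true]
      exact ⟨⟨1, by simp [ps]⟩, ⟨2, by simp [ps]⟩, ⟨4, by simp [ps]⟩, ⟨8, by simp [ps]⟩,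
        ⟨16, by simp [ps]⟩, ⟨32, by simp [ps]⟩⟩)
  have F : Fr [d.z, d.u, e, k, d.a, f₁] 64 (ps [d.z, d.u, e, k, d.a, f₁]) := by
    refine ⟨fun _ => rfl, m, fun {y y'} c => ?_⟩
    have : Function.Bijective fun y : Fin 64 => (⟨_, (M _).2 ⟨y, rfl⟩⟩ : EE d e k f₁) :=
      (Nat.bijective_iff_surjective_and_card _).2 ⟨fun g => by
        obtain ⟨y, a⟩ := (M _).1 g.2
        exact ⟨⟨y % 64, Nat.mod_lt _ (by norm_num)⟩, Subtype.ext ((ps_mod _ y).trans a)⟩,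
        by rw [(h.card_WW L).2.2.1]; simp⟩
    exact congrArg Fin.val (@this.1 ⟨y % 64, Nat.mod_lt _ (by norm_num)⟩ ⟨y' % 64, Nat.mod_lt _ (by norm_num)⟩
      (Subtype.ext (((ps_mod _ y).trans c).trans (ps_mod _ y').symm)))
  have p : ∀ y < 16, ps [d.z, d.u, e, k] y = ps [d.z, d.u, e, k, d.a, f₁] y := fun y a => by
    simp [ps, show y / 2 / 2 / 2 / 2 = 0 by omega]
  have q : ∀ y, ps [d.z, d.u, e, k] y = ps [d.z, d.u, e, k, d.a, f₁] (y % 16) := fun y =>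
    (ps_mod _ y).symm.trans (p _ (Nat.mod_lt _ (by norm_num)))
  obtain ⟨t1, t2, t3, t4, t5, t6, -⟩ := h.o_t L
  refine ⟨_, _, F, ⟨fun _ => rfl, fun y y' => by
      rw [q, q, q, m, ← Nat.xor_mod_two_pow (n := 4)], fun {y y'} c => by
      have := F.inj ((q y).symm.trans (c.trans (q y')))
      omega⟩, p, M, F.act ?_, F.act ?_, F.act ?_, F.act ?_⟩
  · simp [lT, ps, t1, t2, t3, t4, t5, t6]
  · simp [lR, ps, L.l1.pz, L.l1.pu, L.l1.pe, L.p1h, L.l1.pa.to h.za.symm, L.l1.pf.to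
      (inv_eq_of_mul_eq_one_right (by rw [(show Commute f₁ e from r.f_e.comm).mul_mul_mul_comm, r.he, r.hf,
        one_mul]))]
  · simp [lB, ps, r.b_z, r.b_u, r.b_e, r.b_h, r.b_a.to h.za.symm, r.b_f]
  · have := r.g_f
    cases j
    · simp_all [ps, r.g_z, r.g_u, r.g_e, r.g_h, r.g_a, bp]
    · rw [bp_true, r.e_z.comm, mul_assoc] at this
      simp [ps, r.g_z, r.g_u, r.g_e, r.g_h, r.g_a, this]

omit h in
theorem o_same {ψ : ℕ → G} (F : Fr [d.z, d.u, e, k, d.a, f₁] 64 ψ)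
    (M : ∀ g, g ∈ EE d e k f₁ ↔ ∃ y, ψ y = g) {p q : G} {P Q : ℕ → ℕ} (a : Al ψ p P) (b : Al ψ q Q) :
    p ∈ 𝐍[EE d e k f₁] ∧
      ((∀ y ∈ [1, 2, 4, 8, 16, 32], P y = Q y) → p * q⁻¹ ∈ 𝐂[EE d e k f₁]) := by
  have n : ∀ {p P}, Al ψ p P → p ∈ 𝐍[EE d e k f₁] := fun a => mem_normalizer_fintype fun g c => by
    obtain ⟨y, rfl⟩ := (M g).1 c
    exact rg_cm (a y) ((M _).2 ⟨_, rfl⟩)
  refine ⟨n a, fun c => ?_⟩
  have s : ∀ y ∈ [1, 2, 4, 8, 16, 32], Cj (q⁻¹ * p) (ψ y) (ψ y) := fun y m =>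
    (a y).comp (c y m ▸ (b y).symm)
  have : q⁻¹ * p ∈ 𝐂[EE d e k f₁] := mem_cent_closure (by
    rintro _ (rfl | rfl | rfl | rfl | rfl | rfl)
    exacts [by simpa [F.eq, ps] using s 1 (by simp), by simpa [F.eq, ps] using s 2 (by simp),
      by simpa [F.eq, ps] using s 4 (by simp), by simpa [F.eq, ps] using s 8 (by simp),
      by simpa [F.eq, ps] using s 16 (by simp), by simpa [F.eq, ps] using s 32 (by simp)])
  simpa [mul_assoc] using conj_mem_of_mem_normalizer (normalizer_le_normalizer_centralizer _ (n b)) this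

/-- the action of `N(W)` on `W` -/
theorem o_NW (L : I0 d e k f₁ f₂ ρ₁ ρ₂ false false false) :
    (∀ y ∈ WW d e k f₁ f₂, y ∈ 𝐂[WW d e k f₁ f₂] → ∃ c ∈ List.range 16, y = ps [d.z, d.u, e, k] c) ∧
    ∀ n ∈ 𝐍[WW d e k f₁ f₂], Cj n d.z d.z ∧ (Cj n e e ∨ Cj n e (e * d.z)) ∧ (Cj n e e →
      ∀ p ∈ [f₁, f₂, d.a * f₁, d.b * f₂], p⁻¹ * (n * n * p * (n * n)⁻¹) ∈ 𝐂[WW d e k f₁ f₂]) := by
  obtain ⟨φ, p1, p2, p3, p4, p5, p6, p7, p8, p⟩ := R8.hom0 (by simpa [bp] using h.o_r8 L)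
  replace p : φ.range = WW d e k f₁ f₂ := p
  have inj : Function.Injective φ := by
    have := (Nat.bijective_iff_surjective_and_card φ.rangeRestrict).2 ⟨φ.rangeRestrict_surjective, by
      rw [p, (h.card_WW L).1, OW0.card]⟩
    exact fun a b c => this.1 (Subtype.ext c)
  rw [← p]
  refine ⟨?_, fun n hn => ?_⟩
  · rintro _ ⟨y, rfl⟩ c
    refine ⟨y.v % 16, List.mem_range.2 (Nat.mod_lt _ (by norm_num)), ?_⟩
    nth_rw 1 [OW0.cen y fun w _ => Commute.of_map inj (c _ ⟨w, rfl⟩)]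
    rw [map_ps, ← ps_mod]
    simp [p1, p2, p3, p4]
  obtain ⟨θ, t⟩ := exists_aut inj hn
  obtain ⟨a1, a2, a3⟩ := OW0.aut θ
  refine ⟨p1 ▸ (t _).to (by rw [a1]), a2.imp (fun a => p3 ▸ (t _).to (by rw [a]))
    fun a => p3 ▸ p1 ▸ (t _).to (by rw [a, map_mul]), fun c => ?_⟩
  have a : ∀ p ∈ [OW0.gf, OW0.gg, OW0.ga * OW0.gf, OW0.gb * OW0.gg],
      (φ p)⁻¹ * (n * n * φ p * (n * n)⁻¹) ∈ 𝐂[φ.range] := fun p m => by
    rw [show n * n * φ p * (n * n)⁻¹ = _ from (t p).comp (t _), ← map_inv, ← map_mul]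
    rintro _ ⟨w, rfl⟩
    exact ((a3 (inj ((t _).unique (p3.symm ▸ c))) p m w).map φ).eq
  simpa only [List.forall_mem_cons, List.not_mem_nil, false_imp_iff, implies_true, map_mul, p5, p6, p7,
    p8] using a

theorem o_core (ε : d.Eps) (L : I0 d e k f₁ f₂ ρ₁ ρ₂ false false false) {o : G}
    (hn : o ∈ 𝐍[WW d e k f₁ f₂]) (he : Cj o e e) (hf : f₁⁻¹ * (o * f₁ * o⁻¹) ∈ 𝐂[WW d e k f₁ f₂])
    (ha : (d.a * f₁)⁻¹ * (o * (d.a * f₁) * o⁻¹) ∈ 𝐂[WW d e k f₁ f₂]) (ht : d.t * (o * (d.t * o)) = 1)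
    {y : G} (hy : y = d.u * d.z) (hs : y * (o * y * o⁻¹) * (o * (o * y * o⁻¹) * o⁻¹) = 1) : False := by
  obtain ⟨ψ, χ, F, F', p, M, at', ar, ab, ag⟩ := h.o_fr L
  obtain ⟨Z, N⟩ := h.o_NW L
  obtain ⟨m1, m2, m3, m4, m5, m6⟩ := o_mE (d := d) (e := e) (k := k) (f₁ := f₁)
  obtain ⟨c1, c2, c3, c4⟩ := h.o_cW L
  have l := o_EW (d := d) (e := e) (k := k) (f₁ := f₁) (f₂ := f₂)
  have z : ∀ y ∈ WW d e k f₁ f₂, y ∈ 𝐂[WW d e k f₁ f₂] → ∃ c ∈ List.range 16, y = ψ c := fun y a b =>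
    (Z y a b).imp fun c a => ⟨a.1, a.2.trans ((F'.eq c).symm.trans (p c (List.mem_range.1 a.1)))⟩
  have n := fun y (a : y ∈ WW d e k f₁ f₂) => conj_mem_of_mem_normalizer hn a
  have n' := fun y (a : y ∈ 𝐂[WW d e k f₁ f₂]) =>
    conj_mem_of_mem_normalizer (normalizer_le_normalizer_centralizer _ hn) a
  obtain ⟨U, hU, eU⟩ := z _ (n _ (l m2)) (n' _ c2)
  obtain ⟨H, hH, eH⟩ := z _ (n _ (l m4)) (n' _ c4)
  obtain ⟨A, hA, eA⟩ := z _ (mul_mem (inv_mem (l (mul_mem m5 m6))) (n _ (l (mul_mem m5 m6)))) ha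
  obtain ⟨B, hB, eB⟩ := z _ (mul_mem (inv_mem (l m6)) (n _ (l m6))) hf
  replace eA : Cj o (d.a * f₁) (ψ (48 ^^^ A)) := by
    rw [← F.mul, ← eA, show ψ 48 = d.a * f₁ by simp [F.eq, ps], mul_inv_cancel_left]; rfl
  replace eB : Cj o f₁ (ψ (32 ^^^ B)) := by
    rw [← F.mul, ← eB, show ψ 32 = f₁ by simp [F.eq, ps], mul_inv_cancel_left]; rfl
  have ao : Al ψ o (ln [1, U, 4, H, (48 ^^^ A) ^^^ (32 ^^^ B), 32 ^^^ B]) := F.act (by
    simp only [List.forall₂_cons, List.forall₂_nil_left_iff, and_true]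
    refine ⟨(N o hn).1.to (by simp [F.eq, ps]), eU, he.to (by simp [F.eq, ps]), eH, ?_, eB⟩
    simpa only [mul_assoc, (h.o_r8 L).hf, mul_one, F.mul] using eA.mul eB)
  obtain ⟨w, -, c⟩ := chkO U hU H hH A hA B hB _ (List.mem_singleton_self _) (F.inj (by
    rw [show y = ψ 3 by simp [hy, F.eq, ps, h.zu], ao 3, ao _, F.mul, F.mul] at hs
    rw [hs, F.zero])) fun y _ => F.inj (((at'.mul (ao.mul (at'.mul ao))) y).unique (ht ▸ Cj.one' _))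
  obtain ⟨c, c'⟩ := c _ (List.mem_singleton_self _)
  have aw := Al.word (γ := sel o ρ₁ d.b f₂ d.t) (s := sel _ lR lB [1, 2, 4, 8, 20, 36] lT)
    (fun i => match i with
      | 0 => ao
      | 1 => ar
      | 2 => ab
      | 3 => ag
      | _ + 4 => at') w
  generalize (w.map (sel o ρ₁ d.b f₂ d.t)).prod = g at aw
  obtain ⟨a, b⟩ := h.liftE ε L (o_same F M aw aw).1 (by
    simpa [mul_assoc, inv_eq_of_mul_eq_one_right h.tt] using (o_same F M (aw.mul at') (at'.mul aw)).2 c)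
  refine c' ⟨F.inj ((aw 2).unique (by simpa [F.eq, ps] using a)), b.imp (fun b => F.inj ((aw 8).unique
    (by simpa [F.eq, ps] using b))) fun b => F.inj ((aw 8).unique ?_)⟩
  simpa [F.eq, ps] using b.to (h.o_r8 L).h_u.comm

omit h [Finite G] in
theorem o_cj {n t x y x' y' : G} (a : Cj t x y) (b : Cj n x x') (c : Cj n y y') :
    Cj (n * (t * n⁻¹)) x' y' := (b.symm.comp a).comp c

theorem lemO (ε : d.Eps) (L : I0 d e k f₁ f₂ ρ₁ ρ₂ false false false) {n : G}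
    (hn : n ∈ 𝐍[WW d e k f₁ f₂]) : ∃ p q, Cj n d.u (d.u * bp d.z p * bp e q) := by
  obtain ⟨ψ, χ, -, F, -⟩ := h.o_fr L
  obtain ⟨Z, N⟩ := h.o_NW L
  obtain ⟨m1, m2, m3, m4, -⟩ := o_mE (d := d) (e := e) (k := k) (f₁ := f₁)
  obtain ⟨c1, c2, c3, c4⟩ := h.o_cW L
  obtain ⟨t1, t2, t3, t4, -⟩ := h.o_t L
  have r := h.o_r8 L
  have l := o_EW (d := d) (e := e) (k := k) (f₁ := f₁) (f₂ := f₂)
  have z : ∀ n ∈ 𝐍[WW d e k f₁ f₂], ∀ y ∈ EE d e k f₁, y ∈ 𝐂[WW d e k f₁ f₂] →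
      ∃ c ∈ List.range 16, Cj n y (χ c) := fun n hn y a b =>
    (Z _ (conj_mem_of_mem_normalizer hn (l a)) (conj_mem_of_mem_normalizer
      (normalizer_le_normalizer_centralizer _ hn) b)).imp fun c a => ⟨a.1, a.2.trans (F.eq c).symm⟩
  have ac : ∀ {x U E H}, Cj x d.z d.z → Cj x d.u (χ U) → Cj x e (χ E) → Cj x k (χ H) →
      Al χ x (ln [1, U, E, H]) := fun a b c d => F.act (by
    simp only [List.forall₂_cons, List.forall₂_nil_left_iff, and_true]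
    exact ⟨a.to (by simp [F.eq, ps]), b, c, d⟩)
  obtain ⟨U, hU, eU⟩ := z n hn _ m2 c2
  obtain ⟨H, hH, eH⟩ := z n hn _ m4 c4
  obtain ⟨n1, n2, -⟩ := N n hn
  obtain ⟨E, hE, eE⟩ : ∃ E ∈ [4, 5], Cj n e (χ E) := n2.elim
    (fun a => ⟨4, by simp, a.to (by simp [F.eq, ps])⟩)
    fun a => ⟨5, by simp, a.to (by simp [F.eq, ps, r.e_z.comm])⟩
  have an := ac n1 eU eE eH
  rcases chkZ U hU H hH E hE (fun y a b => by
    have := an y
    rw [F.eq (ln _ _), ← ps_mod, show ln [1, U, E, H] y % 2 ^ [d.z, d.u, e, k].length = 0 from b, ps_zero,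
      Cj, conj_eq_one_iff, ← F.zero] at this
    have := F.inj this
    have := List.mem_range.1 a
    omega) with a | a
  · simp only [List.mem_cons, List.not_mem_nil, or_false] at a
    rcases a with rfl | rfl | rfl | rfl
    exacts [⟨false, false, eU.to (by simp [F.eq, ps, bp])⟩, ⟨true, false, eU.to (by simp [F.eq, ps, bp, h.zu])⟩,
      ⟨false, true, eU.to (by simp [F.eq, ps, bp])⟩,
      ⟨true, true, eU.to (by simp [F.eq, ps, bp, ← h.zu, mul_assoc])⟩]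
  have tN := h.o_tN L
  have sN : n * (d.t * n⁻¹) ∈ 𝐍[WW d e k f₁ f₂] := mul_mem hn (mul_mem tN (inv_mem hn))
  have s2 : n * (d.t * n⁻¹) * (n * (d.t * n⁻¹)) = 1 := by
    rw [show ∀ t, n * (t * n⁻¹) * (n * (t * n⁻¹)) = n * (t * t) * n⁻¹ from fun t => by group, h.tt]; simp
  have ze : Cj d.t (d.z * e) e := (t1.mul t3).to (by rw [← mul_assoc, h.zz, one_mul])
  have se : Cj (n * (d.t * n⁻¹)) e (d.z * e) := n2.elim (fun a => o_cj t3 a (n1.mul a)) fun a =>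
    o_cj ze ((n1.mul a).to (by rw [r.e_z.comm, ← mul_assoc, h.zz, one_mul])) (a.to r.e_z.comm)
  have sU := o_cj t2 eU eU
  have sH := o_cj t4 eH (eU.mul eH)
  generalize n * (d.t * n⁻¹) = s at sN s2 se sU sH
  obtain ⟨U', hU', eU'⟩ := z s sN _ m2 c2
  obtain ⟨H', hH', eH'⟩ := z s sN _ m4 c4
  have as := ac (E := 5) (N s sN).1 eU' (se.to (by simp [F.eq, ps])) eH'
  have at' := ac (U := 2) (E := 5) (H := 10) t1 (t2.to (by simp [F.eq, ps])) (t3.to (by simp [F.eq, ps]))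
    (t4.to (by simp [F.eq, ps]))
  obtain ⟨y, hy, b⟩ := a U' hU' H' hH' (F.inj ((as U).unique sU)) (F.inj ((as H).unique (F.mul .. ▸ sH))) _
    (List.mem_singleton_self _)
  have ao := (at'.mul as).mul (at'.mul as)
  have oN := mul_mem tN sN
  have oe := se.comp ze
  have c := (N _ oN).2.2 oe
  have b' : χ y * (d.t * s * (d.t * s) * χ y * (d.t * s * (d.t * s))⁻¹) * (d.t * s * (d.t * s) *
      (d.t * s * (d.t * s) * χ y * (d.t * s * (d.t * s))⁻¹) * (d.t * s * (d.t * s))⁻¹) = 1 := by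
    rw [ao y, ao _, F.mul, F.mul, F.eq, ← ps_mod]
    exact (congrArg _ b).trans (ps_zero _)
  have ot : d.t * (d.t * s * (d.t * s) * (d.t * (d.t * s * (d.t * s)))) = 1 := by
    have a : ∀ x y : G, x * x = 1 → x * (x * y) = y := fun x y a => by rw [← mul_assoc, a, one_mul]
    simp only [mul_assoc, a _ _ h.tt, a _ _ s2, s2]
  simp only [List.mem_cons, List.not_mem_nil, or_false] at hy
  rcases hy with rfl | rfl
  · exact (h.o_core ε L (mul_mem oN oN) (oe.comp oe) (c _ (by simp)) (c _ (by simp)) ot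
      (by simp [F.eq, ps, h.zu]) b').elim
  obtain ⟨L', w⟩ := I0.sw h L
  rw [← w] at oN c
  exact (h.sw.o_core (h.sw_eps ε) L' (mul_mem oN oN) (oe.comp oe) (c _ (by simp)) (c _ (by simp [Dat.sw])) ot
    ((show χ 2 = d.u by simp [F.eq, ps]).trans h.u_sw) b').elim

theorem o_H (ε : d.Eps) (L : I0 d e k f₁ f₂ ρ₁ ρ₂ false false true) :
    ∃ H ∈ 𝐍[WW d e k f₁ f₂] ⊓ 𝐍[EE d e k f₁],
      Cj H d.u d.u ∧ Cj H k k ∧ Cj H d.z (d.z * e) ∧ Cj H e d.z := by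
  have := Fact.mk Nat.prime_two
  obtain ⟨ψ, χ, F, -, -, M, at', ar, ab, ag⟩ := h.o_fr L
  obtain ⟨m1, m2, m3, m4, m5, m6⟩ := o_mE (d := d) (e := e) (k := k) (f₁ := f₁)
  obtain ⟨m7, m8⟩ := o_mW (d := d) (e := e) (k := k) (f₁ := f₁) (f₂ := f₂)
  obtain ⟨c1, c2, c3, c4⟩ := h.o_cW L
  have l := o_EW (d := d) (e := e) (k := k) (f₁ := f₁) (f₂ := f₂)
  have ax := Al.word (γ := sel d.t ρ₁ d.b f₂ d.t) (s := sel lT lR lB [1, 2, 4, 8, 20, 37] lT)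
    (fun i => match i with
      | 0 => at'
      | 1 => ar
      | 2 => ab
      | 3 => ag
      | _ + 4 => at') [1, 1, 3, 1, 3, 1]
  obtain ⟨⟨x1, x2, x3, x4⟩, x5⟩ := chkH _ (List.mem_singleton_self _)
  replace ax : Al ψ _ (wf (sel [] lR lB [1, 2, 4, 8, 20, 37] lT) [1, 1, 3, 1, 3, 1]) := ax
  generalize ([1, 1, 3, 1, 3, 1].map (sel d.t ρ₁ d.b f₂ d.t)).prod = x at ax
  have xE := (o_same F M ax ax).1
  have xY : x ∈ 𝐍[WW d e k f₁ f₂ ⊔ 𝐂[EE d e k f₁]] := mem_normalizer_of_cj_le (by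
    rw [cj_sup, cj_of_mem_normalizer (normalizer_le_normalizer_centralizer _ xE)]
    refine sup_le (map_le_iff_le_comap.2 ((closure_le _).2 ?_)) le_sup_right
    have a : ∀ y ∈ EE d e k f₁, x * y * x⁻¹ ∈ WW d e k f₁ f₂ ⊔ 𝐂[EE d e k f₁] := fun y a =>
      mem_sup_left (l (conj_mem_of_mem_normalizer xE a))
    have b : ∀ p, ∀ q ∈ WW d e k f₁ f₂, x * p * (q * x)⁻¹ ∈ 𝐂[EE d e k f₁] →
        x * p * x⁻¹ ∈ WW d e k f₁ f₂ ⊔ 𝐂[EE d e k f₁] := fun p q a b => by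
      simpa [mul_assoc] using mul_mem (mem_sup_right b) (mem_sup_left a)
    rintro _ (rfl | rfl | rfl | rfl | rfl | rfl | rfl | rfl)
    iterate 6 exact a _ ‹_›
    · exact b _ _ m8 ((o_same F M (ax.mul ab) (ag.mul ax)).2 fun y a => (x5 y a).1)
    · exact b _ _ (mul_mem m7 m8) ((o_same F M (ax.mul ag) ((ab.mul ag).mul ax)).2 fun y a => (x5 y a).2))
  have hT := h.sylT ε L
  have TW : TT d e k f₁ f₂ ≤ 𝐍[WW d e k f₁ f₂] := fun y a => (h.o_spl L a).elim (fun a => le_normalizer a)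
    fun ⟨w, a, b⟩ => b ▸ mul_mem (le_normalizer a) (h.o_tN L)
  have hY : ∀ q ∈ 𝐂[WW d e k f₁ f₂], q ∈ EE d e k f₁ → ∀ n ∈ WW d e k f₁ f₂ ⊔ 𝐂[EE d e k f₁], Cj n q q :=
    fun q a b n c => rg_mem'.1 ((sup_le (fun w c => rg_mem'.2 (Cj.of_cent a c).flip)
      (fun w c => rg_mem'.2 (Cj.of_cent c b)) : WW d e k f₁ f₂ ⊔ 𝐂[EE d e k f₁] ≤ centralizer {q}) c)
  have s := (hT.mono (K := _ ⊔ 𝐂[EE d e k f₁]) le_sup_left (sup_le hT.le
    (centralizer_le_normalizer' _))).inf_of_le (sup_le_sup_right o_WT _) (sup_le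
      (le_normalizer_sup TW (le_normalizer_centralizer hT.le)) (le_sup_right.trans le_normalizer))
  rw [show TT d e k f₁ f₂ ⊓ (WW d e k f₁ f₂ ⊔ 𝐂[EE d e k f₁]) = WW d e k f₁ f₂ from
    le_antisymm (fun y a => (h.o_spl L a.1).resolve_right fun ⟨w, b, c⟩ => h.uK (by
      have := (hY k c4 m4 _ ((mul_mem_cancel_left (mem_sup_left b)).1 (c ▸ a.2))).unique (h.o_t L).2.2.2.1
      rw [right_eq_mul.1 this]; exact one_mem _)) (le_inf o_WT le_sup_left)] at s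
  obtain ⟨n, hn, H, hH, c⟩ := s.frattini xY
  have t : ∀ p q, Cj x p q → q ∈ EE d e k f₁ → q ∈ 𝐂[WW d e k f₁ f₂] → Cj H p q := fun p q a b c' => by
    simpa [c] using a.comp (hY q c' b _ (inv_mem hn))
  refine ⟨H, ⟨hH, (mul_mem_cancel_left (sup_le (o_WT.trans hT.le) (centralizer_le_normalizer' _) hn)).1
    (c ▸ xE)⟩, t _ _ ?_ m2 c2, t _ _ ?_ m4 c4, t _ _ ?_ (mul_mem m1 m3) (mul_mem c1 c3), t _ _ ?_ m1 c1⟩
  · simpa [x2, F.eq, ps] using ax 2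
  · simpa [x4, F.eq, ps] using ax 8
  · simpa [x1, F.eq, ps] using ax 1
  · simpa [x3, F.eq, ps] using ax 4

theorem lemH (ε : d.Eps) (L : I0 d e k f₁ f₂ ρ₁ ρ₂ false false true) : False := by
  have := Fact.mk Nat.prime_two
  obtain ⟨H, hH, p1, p2, p3, p4⟩ := h.o_H ε L
  obtain ⟨L', w⟩ := I0.sw h L
  obtain ⟨K, ⟨K1, K2⟩, q1, q2, q3, q4⟩ := h.sw.o_H (h.sw_eps ε) L'
  rw [w] at K1
  change Cj K (d.u * d.z) (d.u * d.z) at q1
  change Cj K d.z (d.z * e) at q3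
  change Cj K e d.z at q4
  have r := h.o_r8 L
  obtain ⟨m1, m2, m3, m4, m5, m6⟩ := o_mE (d := d) (e := e) (k := k) (f₁ := f₁)
  obtain ⟨m7, m8⟩ := o_mW (d := d) (e := e) (k := k) (f₁ := f₁) (f₂ := f₂)
  obtain ⟨c1, c2, c3, c4⟩ := h.o_cW L
  obtain ⟨t1, t2, t3, -⟩ := h.o_t L
  have l := o_EW (d := d) (e := e) (k := k) (f₁ := f₁) (f₂ := f₂)
  have q5 : Cj K d.u (d.u * e) := by
    simpa only [mul_assoc, h.zz, mul_one, ← mul_assoc d.z, one_mul] using q1.mul q3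
  have q6 : Cj K k (k * e * d.z) := by simpa only [mul_assoc, r.he, mul_one] using q2.mul q4
  have e1 : e ≠ 1 := fun a => h.z1 (by simpa [a, Cj, eq_comm] using t3)
  have KE : K ∈ 𝐍[EE d e k f₁] := by
    have n := o_mE (d := d.sw) (e := e) (k := k) (f₁ := f₂)
    have n' := o_mE (d := d.sw) (e := e) (k := k * e) (f₁ := f₂)
    rw [show EE d.sw e (k * e) f₂ = EE d.sw e k f₂ from h.closure_eq (by
      rintro _ (rfl | rfl | rfl | rfl | rfl | rfl)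
      exacts [n.1, n.2.1, n.2.2.1, mul_mem n.2.2.2.1 n.2.2.1, n.2.2.2.2.1, n.2.2.2.2.2]) (by
      rintro _ (rfl | rfl | rfl | rfl | rfl | rfl)
      exacts [n'.1, n'.2.1, n'.2.2.1, (mul_mem_cancel_right n'.2.2.1).1 n'.2.2.2.1, n'.2.2.2.2.1,
        n'.2.2.2.2.2])] at K2
    have b : d.b ∈ 𝐂[EE d.sw e k f₂] := mem_cent_closure (by
      rintro _ (rfl | rfl | rfl | rfl | rfl | rfl)
      exacts [r.b_z, r.b_u.mul r.b_z, r.b_e, r.b_h, .self _, r.g_b.flip])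
    have a : ∀ y ∈ EE d e k f₁, y * y = 1 → ¬ Cj d.b y y → K * y * K⁻¹ ∈ EE d e k f₁ := fun y a c n =>
      (h.inv_W L rfl (conj_mem_of_mem_normalizer K1 (l a)) (by simp [c])).resolve_right fun m =>
        n (Cj.of_cent b (by simpa [mul_assoc] using inv_conj_mem_of_mem_normalizer K2 m))
    refine mem_norm_closure ?_
    rintro _ (rfl | rfl | rfl | rfl | rfl | rfl)
    exacts [rg_cm q3 (mul_mem m1 m3), rg_cm q5 (mul_mem m2 m3), rg_cm q4 m1,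
      rg_cm q6 (mul_mem (mul_mem m4 m3) m1), a _ m5 h.aa fun c => h.z1 (left_eq_mul.1 (c.unique r.b_a)),
      a _ m6 r.hf fun c => e1 (right_eq_mul.1 (c.unique r.b_f))]
  have xM : H⁻¹ * K ∈ 𝐍[WW d e k f₁ f₂] ⊓ 𝐍[EE d e k f₁] := mul_mem (inv_mem hH) ⟨K1, KE⟩
  have xz : Cj (H⁻¹ * K) d.z d.z := q3.comp p3.symm
  have xe : Cj (H⁻¹ * K) e e := q4.comp p4.symm
  have xu : Cj (H⁻¹ * K) d.u (d.u * (e * d.z)) := q5.comp (p1.symm.mul (by
    simpa only [← mul_assoc, h.zz, one_mul] using p4.symm.mul p3.symm))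
  generalize H⁻¹ * K = x at xM xz xe xu
  have xp : ∀ n : ℕ, Cj (x ^ n) d.z d.z ∧ Cj (x ^ n) e e ∧ Cj (x ^ n) d.u (d.u * (e * d.z) ^ n) := fun n => by
    induction n with
    | zero => simp [Cj]
    | succ n ih =>
      rw [pow_succ', pow_succ', ← mul_assoc d.u]
      exact ⟨ih.1.comp xz, ih.2.1.comp xe, ih.2.2.comp (xu.mul ((xe.mul xz).pow n))⟩
  obtain ⟨_, n, ⟨i, rfl⟩, x2⟩ := exists_two_part x
  obtain ⟨yz, ye, yu⟩ := xp (2 * i + 1)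
  rw [pow_succ (e * d.z), pow_mul, pow_two, (show Commute d.z e from r.e_z.comm.symm).mul_mul_mul_comm,
    r.he, h.zz, one_mul, one_pow, one_mul] at yu
  have hT := h.sylT ε L
  obtain ⟨m, hm, c⟩ := (hT.mono (le_inf (fun y a => (h.o_spl L a).elim (fun a => le_normalizer a)
    fun ⟨w, a, b⟩ => b ▸ mul_mem (le_normalizer a) (h.o_tN L)) hT.le) inf_le_right).exists_cj_le
      (isPGroup_zpowers ⟨n, x2⟩) (zpowers_le.2 (pow_mem xM _))
  generalize x ^ (2 * i + 1) = y at yz ye yu c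
  rcases h.o_spl L (c (conj_mem_cj m (mem_zpowers y))) with a | ⟨v, a, b⟩
  · have b := (Cj.of_cent (conj_mem_of_mem_normalizer (normalizer_le_normalizer_centralizer _ hm.1) c2) a).flip
    have : Cj y d.u d.u := by simpa [Cj, mul_assoc] using congrArg (m⁻¹ * · * m) b
    have := eq_inv_of_mul_eq_one_left (left_eq_mul.1 (this.unique yu))
    exact h.z1 (right_eq_mul.1 ((this ▸ t1.inv).unique t3))
  obtain ⟨φ, s1, -, s3, -, -, -, -, -, s⟩ := R8.hom1 r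
  obtain ⟨p, hp⟩ := s.ge (inv_conj_mem_of_mem_normalizer hm.1 (mul_mem m7 (l m6)))
  have p2 : φ (p * p) = m⁻¹ * e * m := by
    have : d.b * f₁ * (d.b * f₁) = e := by
      rw [← mul_assoc, ← mul_inv_cancel_right e f₁, ← r.b_f, inv_eq_of_mul_eq_one_right h.bb,
        inv_eq_of_mul_eq_one_right r.hf]
    rw [map_mul, hp, ← this]; group
  have f : Cj y (φ (p * p)) (φ (p * p)) := by
    have := OW1.sq p
    simp only [List.mem_cons, List.not_mem_nil, or_false] at this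
    rcases this with a | a | a | a <;> simp only [a, map_one, map_mul, s1, s3]
    exacts [Cj.one y, yz, ye, yz.mul ye]
  have g : Cj (v * d.t) e e := by
    rw [← b]; simpa [p2, Cj, mul_assoc, inv_mul_eq_iff_eq_mul] using congrArg (m * · * m⁻¹) f
  exact h.z1 (right_eq_mul.1 (g.unique (t3.comp (Cj.of_cent (mul_mem c1 c3) a).flip)))

end Dat.Cfq

end Cfsg.Agent.HSE
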