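import Mathlib
import Cfsg.Agent.HSE.I0O
import Cfsg.Agent.HSE.I0D2

/-! Type (I, I), wreath case with `ε = 2`. -/

set_option autoImplicit false
set_option linter.unusedSectionVars false
set_option linter.unusedVariables false

namespace Cfsg.Agent.HSE

open Cfsg Subgroup Cfsg.Agent.PLocal Cfsg.Agent.PLocal.Amb Cfsg.Agent.MacW

variable {G : Type*} [Group G] [Finite G]

namespace Dat.Cfq

variable {d : Dat G} (h : d.Cfq)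
include h

variable {e k f₁ f₂ ρ₁ ρ₂ : G}

/-- `ε = 2`, `β = i = j = 0`, `w² = 1` (compare `caseN0w`).  `W = ⟨u,h⟩ × ⟨α₁,α₂⟩ × ⟨β₁,β₂⟩`, `α₁ = f, α₂ = g, β₁ = a f, β₂ = b g`, `W' = ⟨z,e⟩`, `[α₁,α₂] = e`, `[β₁,β₂] = e z`, `Z₁ = Z(W) = ⟨z,u,e,h⟩`,
`T₂ = W⟨t,w⟩` of order 1024 (`w : u ↦ u z, a ↔ b, f ↔ g, h ↦ h e`), `S = S₀⟨w⟩` of order 64 has 31 involutions and the element `w a` of order 8.
(1) The involutions of `w W` form one `W`-class; `w ∉ T`: `C_{T₂}(w)` has order 64 and 15 involutions (`conjT`; or: it has the abelian subgroup `C_W(w)⟨w⟩` of order 32 ...).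
(2) `P ≥ T₂` Sylow in `G`, `N = N_P(W)`.  If `x ∈ N`, `x t x⁻¹ ∈ t W` then `x ∈ T₂` (`out_W`, `regS`).  `N` permutes the cosets `αᵢZ₁, βᵢZ₁` (involutions outside `Z₁` with centralizer of index 2),
preserving the blocks `{α},{β}`: `π : N → D₈`, `π t = (α₁β₁)(α₂β₂)`, `π w = (α₁α₂)(β₁β₂)`; `ker π = W` (a nontrivial normal subgroup of `N/W` meets `Z(N/W) ≤ C(t̄) = ⟨t̄,w̄⟩`).
So `N = T₂` or `N = T₂⟨y⟩`, `π y = (α₁α₂)`, `y² ∈ W`, `y · t y t ∈ w W`.  `y` fixes `e, e z`; by `lemO` `y : u ↦ u ζ, h ↦ h u^c η` (`ζ, η ∈ W'`); `ζ · tζt = z` gives `ζ ∈ {e, e z}`, and `y²` trivial on `Z₁` gives `c = 0`.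
(3) Every `E₆₄` `F ≤ N` lies in `W`: `F₀ = F ⊓ W` has index `≤ 4`, its image in `W/Z₁` lies in some `⟨ᾱᵢ, β̄ⱼ⟩` and is fixed by `π F`.  If `π w ∈ π F`: `F₀ ≤ C_{Z₁}(w) = W'`;
if `π t` or `π(t w) ∈ π F`: `|F₀| ≤ 2 · 4`; otherwise `|F₀| = 32` but `|F₀| ≤ 2 · 8` (`y` moves `u`).  As `W = E₁E₂`: `N_P(N) ≤ N(W)`, `P = N`, and `W^g ≤ P ⇒ g ∈ N(W)`; so `N(W)` controls fusion in `Z₁`,
and by `lemO` the sets `W'`, `u W'`, `h W' ∪ h u W'` are not fused in `G`.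
(4) `W₀ = ⟨z,e,a,b,f,g⟩ ⊴ P`: `⟨ρ₁, W⟩` conjugates every element of `x M₁` (`M₁ = ⟨z,a,e,f⟩ = ⟨e,f⟩ × ⟨e z, a f⟩`, `x ∈ ⟨u,h⟩`) into `x W'`, `⟨ρ₂, W⟩` every element of `x M₂` (`M₂ = ⟨z,b,e,g⟩`, `x ∈ ⟨u z, h e⟩`) into `x W'`;
so `y αᵢ y⁻¹, y βᵢ y⁻¹ ∈ W₀` by (3).
(5) `M = W⟨w⟩` resp. `W⟨y,w⟩` has index 2 in `P` and contains no conjugate of `t`: an involution `x ∈ y W` (or `t y t W`) fixes `β₁W', β₂W', α₁α₂W'` and `Z₁/W'`, so `v ↦ [x,v]` is a homomorphism from `⟨Z₁,β₁,β₂,α₁α₂⟩` (order 128) to `W'`;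
`R = ⟨x⟩ × C_W(x)` has order `≥ 64` and exponent 4, and `conjT` would make it conjugate to `S ∋ w a`.  `thompson`: `t ∉ X`; `mem_X` with `R = W` gives `u, h ∈ X`; `W₀ ≤ X` (`lay_mem`, `KX`).
(6) `Y = P ⊓ X ≥ W`, `W₁ = W₀⟨u⟩ ⊴ P`, `h̄` is central in `P/W₁`, and `Y / W₁` is abelian: order 4 if `P = T₂`; otherwise `Y/W` is cyclic or `⟨y, t y t⟩` with
`[y, tyt] ≡ (y · tyt)² ≡ w² = 1` (`y² ≡ (tyt)² ∈ ⟨h̄⟩`).  `xfer` for `h`, `R = W`, `φ : Y → Y/W₁`, `c = h̄ ≠ 1`: `W^g ≤ Y` gives `g ∈ N(W)`, `g h g⁻¹ ∈ h W' ∪ h u W'`. -/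
theorem caseI0w {w : G} (L : I0 d e k f₁ f₂ ρ₁ ρ₂ false false false) (W : d.WI w e k f₁ f₂ false false) : False := by
  have ε : d.Eps := Eps.of (Or.inr ⟨w, W.toE2⟩)
  have fl : ∀ {x y : G}, Cj x d.t (d.t * y) → Cj d.t x (y * x) := fun h1 =>
    inv_eq_of_mul_eq_one_right h.tt ▸ h1.flipR
  have ww : w * w = 1 := W.w2
  have gu' : Cj f₂ d.u d.u := by
    have : Cj f₂ (d.u * d.z * d.z) (d.u * d.z * d.z) := L.l2.fu.mul L.l2.fz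
    rwa [← h.u_sw] at this
  have hc : f₁ * f₂ * f₁⁻¹ * f₂⁻¹ = e := by simpa using L.hc
  obtain ⟨φ, p0, p1, p2, p3, p4, p5, p6, p7, p8, p9, -⟩ := I0DT.hom (z := d.z) (e := e) (u := d.u)
    (k := k) (a := d.a) (f := f₁) (b := d.b) (g := f₂) (t := d.t) (w := w) h.zz L.l1.ee
    (h.cz' L.l1.ac.a L.l1.ac.b) h.uu (.of_comm h.zu.symm) L.l1.ac.u.flip L.hh
    (h.cz' L.ach.a L.ach.b) L.he L.ach.u h.aa (.of_comm h.za.symm) L.l1.ac.a.flip (.of_comm h.au)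
    L.ach.a.flip L.l1.ff L.l1.fz L.l1.fe L.l1.fu L.hf1.flip L.l1.fa h.bb (.of_comm h.zb.symm)
    L.l1.ac.b.flip (.of_comm h.bu) L.ach.b.flip
    (by rw [Cj, h.ba, mul_assoc, mul_assoc, ← mul_assoc d.b, ← h.zb]; group)
    (L.l1.fb.flipL.to (by simp)) L.l2.ff L.l2.fz (by simpa using L.l2.fe) gu' L.hf2.flip
    (by simpa [Dat.sw] using L.l2.fb) (by rw [Cj, ← hc]; group) L.l2.fa h.tt (.of_comm h.zt.symm)
    (fl L.l1.ac.t) (.of_comm h.ut.symm) (fl L.ach.t) (.of_comm h.at'.symm) (fl L.l1.ft)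
    (.of_comm h.bt.symm) (fl L.l2.ft) ww (h.cz_sw W.a W.b) (by simpa using W.we) W.u
    (by simpa using W.wh) W.a W.wf W.b (inv_eq_of_mul_eq_one_right ww ▸ W.wf.symm) (h.wt W.mem)
  have inj := Pc.inj I0DT.hc φ I0DT.gs [I0DT.gz] I0DT.cen (by simpa [p0] using h.z1)
  have eW : WW d e k f₁ f₂ = I0DT.sb φ I0DT.gW := by
    rw [I0DT.sb, MonoidHom.map_closure, WW]
    congr 1
    ext x
    simp only [Set.mem_image, Set.mem_ofPred_eq, List.mem_cons, List.not_mem_nil, or_false,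
      exists_eq_or_imp, exists_eq_left, p0, p1, p2, p3, p4, p5, p6, p7, Set.mem_insert_iff,
      Set.mem_singleton_iff, eq_comm (b := x)]
    exact or_congr_right or_left_comm
  have tW : d.t ∉ WW d e k f₁ f₂ := fun c =>
    I0DT.msc.2.2.2.1 (I0DT.tW.mem' inj (by rwa [p8, ← eW]))
  have S0 : d.S0 ≤ φ.range := (closure_le _).2 (by
    rintro _ (rfl | rfl | rfl | rfl)
    exacts [⟨_, p8⟩, ⟨_, p2⟩, ⟨_, p4⟩, ⟨_, p6⟩])
  refine I0DT.St.false (d := d) (φ := φ) (ρ := ρ₁) ⟨h, inj, p8, fun s hs => ?_,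
    h.card_S2 W.toE2.to', ?_, fun y hy => h.notT_W ε L (eW ▸ hy), fun y hy yy => ?_,
    fun n hn => ?_, ?_, ?_, ?_, ?_, ?_, ?_, ?_⟩
  · rcases W.cov s hs with c | c
    · exact S0 c
    · simpa using mul_mem (S0 c) (⟨_, p9⟩ : w ∈ φ.range)
  · rw [map_mul, p9, p4]; exact mul_mem W.mem (h.le d.a_S0)
  · rw [← eW] at hy ⊢
    refine h.out_W L ?_ (fun c => tW (by simpa using mul_mem (inv_mem c) hy)) yy
    have h1 : WW d e k f₁ f₂ ≤ TT d e k f₁ f₂ := closure_mono (by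
      simp only [Set.insert_subset_iff, Set.singleton_subset_iff, Set.mem_insert_iff, true_or,
        or_true, and_self])
    simpa using mul_mem (h1 hy) (inv_mem (subset_closure (by simp) : d.t ∈ TT d e k f₁ f₂))
  · obtain ⟨p, q, c⟩ := h.lemO ε L (eW ▸ hn)
    rw [p2, (c : _ = _), mul_assoc, inv_mul_cancel_left]
    exact mul_mem (bp_mem (p0 ▸ I0DT.mem_sb (by simp)) p) (bp_mem (p1 ▸ I0DT.mem_sb (by simp)) q)
  · rw [p0, p4]; exact L.l1.pz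
  · rw [p0, p4]; exact L.l1.pa
  · rw [p1, p5]; exact L.l1.pe
  · rw [p1, p5]; exact L.l1.pf
  · rw [p2]; exact L.l1.pu
  · rw [p3]; exact L.p1h
  · simp only [List.forall_mem_cons, List.not_mem_nil, false_imp_iff, implies_true, and_true, p0, p1,
      p4, p5, p6, p7]
    exact ⟨h.KX h.z_K, (h.lay_mem L.l1).1, h.KX h.a_K, (h.lay_mem L.l1).2.1, h.KX h.b_K,
      (h.sw.lay_mem L.l2).2.1⟩

end Dat.Cfq

end Cfsg.Agent.HSE
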