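import Mathlib
import Cfsg.Agent.HSE.N0G

/-! `HSD/N0`: the homomorphism from the table group and case (a). -/

set_option autoImplicit false
set_option linter.unusedSectionVars false
set_option linter.unusedVariables false

namespace Cfsg.Agent.HSE.N0

open Cfsg Subgroup Cfsg.Agent.PLocal Cfsg.Agent.PLocal.Amb Cfsg.Agent.MacW
open Cfsg.Agent.Comp Cfsg.Agent.X32 Pc

variable {G : Type*} [Group G] [Finite G] {d : Dat G} {e f₁ f₂ ρ₁ ρ₂ w : G}

theorem relA (h : d.Cfq) (L : d.LN e f₁ f₂ ρ₁ ρ₂ false false) {k j : Bool}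
    (hc : f₁ * f₂ * f₁⁻¹ * f₂⁻¹ = e * bp d.u k * bp d.z j) (w : G) :
    ∀ r ∈ RA k j, rel (LES.tup [d.z, d.u, e, d.a, f₁, d.b, f₂, d.t, w]) r := by
  have ee : e * e = 1 := L.l1.ee
  have ei : e⁻¹ = e := inv_eq_of_mul_eq_one_right ee
  have ti : d.t⁻¹ = d.t := inv_eq_of_mul_eq_one_right h.tt
  have ez := h.cz' L.l1.ac.a L.l1.ac.b
  have c1 : Cj d.b d.a (d.a * d.z) := by
    rw [Cj, h.ba, mul_assoc d.a, ← h.zb]; group
  have c2 : Cj d.b f₁ (e * f₁) := by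
    have := L.l1.fb.flipL
    simpa [ei] using this
  have c3 : Cj f₂ d.u d.u := by
    have : Cj f₂ (d.u * d.z * d.z) (d.u * d.z * d.z) := L.l2.fu.mul L.l2.fz
    rwa [← h.u_sw] at this
  have c4 : Cj f₂ e e := by simpa using L.l2.fe
  have c5 : Cj f₂ d.a (e * d.a) := by
    have : Cj f₂ d.a (e * 1 * 1 * d.a) := L.l2.fb
    simpa using this
  have c6 : Cj f₂ f₁ (e * bp d.u k * bp d.z j * f₁) := by
    have i : (e * bp d.u k * bp d.z j) * (e * bp d.u k * bp d.z j) = 1 := by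
      have a1 := L.l1.ac.u.comm
      have a2 := ez.comm
      calc _ = e * (bp d.u k * (bp d.z j * (bp e true * (bp d.u k * (bp d.z j * 1))))) := by
            simp [mul_assoc]
        _ = 1 := by
          rw [bp_comm a2.symm, bp_comm a1.symm, bp_comm h.zu, bp_xor h.uu, bp_xor h.zz]
          simp [ee]
    rw [← inv_eq_of_mul_eq_one_right i, ← hc, Cj]; group
  have c7 : Cj d.t e (d.z * e) := ti ▸ L.l1.ac.t.flipR
  have c8 : Cj d.t f₁ (d.a * f₁) := ti ▸ L.l1.ft.flipR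
  have c9 : Cj d.t f₂ (d.b * f₂) := ti ▸ Cj.flipR (x := d.t) L.l2.ft
  simp only [RA, List.forall_mem_cons, List.not_mem_nil, false_imp_iff, implies_true, and_true]
  refine ⟨h.zz, h.uu, Cj.of_comm h.zu.symm, ee, ez, L.l1.ac.u, h.aa, Cj.of_comm h.za.symm,
    Cj.of_comm h.au, L.l1.ac.a.flip, L.l1.ff, L.l1.fz, L.l1.fu, L.l1.fe, L.l1.fa, h.bb,
    Cj.of_comm h.zb.symm, Cj.of_comm h.bu, L.l1.ac.b.flip, c1, c2, L.l2.ff, L.l2.fz, c3, c4, c5, ?_,
    L.l2.fa, h.tt, Cj.of_comm h.zt.symm, Cj.of_comm h.ut.symm, c7, Cj.of_comm h.at'.symm, c8,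
    Cj.of_comm h.bt.symm, c9⟩
  cases k <;> cases j <;>
    exact Eq.trans c6 (by simp only [mul_assoc, bp_true, bp_false, mul_one]; rfl)

variable {T : Tab} [Fact T.OK]

structure Hm (d : Dat G) (e f₁ f₂ : G) (φ : TG T →* G) : Prop where
  inj : Function.Injective φ
  pg : IsPGroup 2 (TG T)
  z : φ kz = d.z
  u : φ ku = d.u
  e : φ ke = e
  a : φ ka = d.a
  f : φ kf = f₁
  b : φ kb = d.b
  g : φ kg = f₂
  t : φ kt = d.t

theorem hom (h : d.Cfq) {L : List Lv} [Fact (tab L).OK] (hc : chk L = true)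
    {R : List (ℕ × ℕ × List ℕ)} (hR : chkR R L = true) (hl : 8 ≤ len L)
    (hr : ∀ r ∈ R, rel (LES.tup [d.z, d.u, e, d.a, f₁, d.b, f₂, d.t, w]) r) (F : FB (tab L)) :
    ∃ φ : TG (tab L) →* G, Hm d e f₁ f₂ φ ∧ (8 < len L → φ kw = w) := by
  obtain ⟨φ, H⟩ := exists_hom hr hc hR
  have z : φ kz = d.z := H 0 (by omega)
  have u : φ ku = d.u := H 1 (by omega)
  refine ⟨φ, ⟨inj hc φ _ _ F.ctr ?_, pgrp hc, z, u, H 2 (by omega), H 3 (by omega), H 4 (by omega),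
    H 5 (by omega), H 6 (by omega), H 7 (by omega)⟩, H 8⟩
  simp only [List.forall_mem_cons, List.not_mem_nil, false_imp_iff, implies_true, and_true, map_mul,
    z, u]
  exact ⟨h.z1, fun c => h.uK (c ▸ one_mem _), fun c =>
    h.uK ((mul_mem_cancel_right h.z_K).1 (c ▸ one_mem _))⟩

variable {φ : TG T →* G}

local notation "W" => sb φ gW
local notation "W₀" => sb φ g0

namespace Hm

variable (H : Hm d e f₁ f₂ φ)
include H

theorem WX (h : d.Cfq) (L : d.LN e f₁ f₂ ρ₁ ρ₂ false false) (hu : d.u ∈ d.X) : W ≤ d.X := sb_le (by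
  simp only [List.forall_mem_cons, List.not_mem_nil, false_imp_iff, implies_true, and_true, H.z, H.u,
    H.e, H.a, H.f, H.b, H.g]
  exact ⟨h.KX h.z_K, hu, (h.lay_mem L.l1).1, h.KX h.a_K, (h.lay_mem L.l1).2.1, h.KX h.b_K,
    (h.sw.lay_mem L.l2).2.1⟩)

theorem S0_le : d.S0 ≤ φ.range := (closure_le _).2 (by
  rintro x (rfl | rfl | rfl | rfl)
  exacts [⟨_, H.t⟩, ⟨_, H.u⟩, ⟨_, H.a⟩, ⟨_, H.b⟩])

theorem uW : d.u ∈ W := H.u ▸ gen_mem (by simp)

theorem Tsq (h : d.Cfq) {k : TG T} (c : d.T (φ k)) : k * k = 1 := sq1 H.inj (by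
  obtain ⟨g, e⟩ := c.exists
  exact (e.mul e).unique (h.tt ▸ Cj.one g))

theorem cen (B : FB T) (F : F0 T) {k : TG T} (hk : pW k) (c : ∀ r ∈ W, r * φ k = φ k * r) : pZ k :=
  (F.uc k hk).2.2.2 fun g hg => cm1 H.inj (c _ (gen_mem hg))

theorem cen' (B : FB T) (F : F0 T) {k : TG T} (hk : pZ k) : ∀ r ∈ W, r * φ k = φ k * r := by
  intro r hr
  obtain ⟨r, a, rfl⟩ := ex B.cW hr
  exact cm2 ((F.zz k hk).2.1 r a)

theorem sq0 (B : FB T) (F : F0 T) : ∀ p ∈ W, p * p ∈ W₀ := fun p hp => by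
  obtain ⟨p, a, rfl⟩ := ex B.cW hp
  rw [← map_mul]; exact mks F.c0 (F.uc p a).2.1

theorem u0 (F : F0 T) : d.u ∉ W₀ := fun c => F.u0 (un H.inj F.c0 (H.u ▸ c))

theorem nW (B : FB T) (F : F0 T) : φ.range ≤ 𝐍[W] := by
  rintro _ ⟨k, rfl⟩; exact norm_tab B.cW (F.nrm k).1

theorem nW0 (F : F0 T) : φ.range ≤ 𝐍[W₀] := by
  rintro _ ⟨k, rfl⟩; exact norm_tab F.c0 (F.nrm k).2.1

theorem W_cos (B : FB T) (F : F0 T) {x : G} (hx : x ∈ W) : x ∈ W₀ ∨ x * d.u⁻¹ ∈ W₀ := by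
  obtain ⟨p, a, rfl⟩ := ex B.cW hx
  refine (F.uc p a).2.2.1.imp (mks F.c0) fun c => ?_
  rw [← H.u, ← map_inv, ← map_mul]; exact mks F.c0 c

theorem W_le (B : FB T) (F : F0 T) {S : Set G} (hu : d.u ∈ S) : W ≤ closure ((W₀ : Set G) ∪ S) :=
  fun x hx => (H.W_cos B F hx).elim (fun c => subset_closure (.inl c)) fun c =>
    (mul_mem_cancel_right (inv_mem (subset_closure (.inr hu)))).1 (subset_closure (.inl c))

theorem finT (h : d.Cfq) (B : FB T) (F : F0 T) {Y : Subgroup G} (hY : IsSyl 2 Y d.X) (hW : W ≤ Y)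
    (wc : ∀ g, cj(g, W) ≤ Y → g ∈ 𝐍[W]) (cm : ∀ p ∈ Y, ∀ q ∈ Y, p * q * p⁻¹ * q⁻¹ ∈ W₀) : False := by
  refine fin h hY hW H.uW (fun r hr => ?_) (H.u0 F) wc (H.sq0 B F) (fun y hy c => ?_) cm
  · obtain ⟨r, a, rfl⟩ := ex B.cW hr
    rw [← H.u]; exact cm2 (F.uc r a).1
  · obtain ⟨y, a, rfl⟩ := ex B.cW hy
    have z := F.zz y (H.cen B F a c)
    rcases z.2.2.2 with b | ⟨p, -, b, c⟩
    · obtain ⟨p, -, b, c⟩ := z.2.2.1 b
      exact .inl ⟨φ p, mks B.cW b, by rw [← map_mul, c]⟩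
    · refine .inr ⟨φ p, mks B.cW b, φ kb, gen_mem (by simp), ?_⟩
      rw [c, ← H.u]; simp only [map_mul, map_inv]

theorem coreA (h : d.Cfq) {κ : Bool} {Pt Rt : ℕ} (F : FA T κ Pt Rt) (F' : κ = false → F0 T)
    (WX : W ≤ d.X) (e1 : d.E1) (h1 : ¬ d.T (d.t * d.u)) : False := by
  have key : ∀ k, ¬ pW k → k * k = 1 → d.T (φ k) → lkE Rt k = kt := fun k a b c => by
    obtain ⟨p, q | q⟩ := F.cls k a b
    · exact q
    · exact absurd (by simpa only [q, map_mul, H.t, H.u] using c.cj' (map_cj φ p)) h1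
  have key2 : ∀ k, ¬ pW k → k * k = 1 → lkE Rt k = kt → Cj (φ (lkE Pt k)) d.t (φ k) :=
    fun k a b c => by simpa only [c, H.t] using map_cj φ (F.cls k a b).1
  have tX : d.t ∉ d.X := fun hX => by
    have := par h hX H.inj H.pg F.cW (by rw [F.n, F.nW]) (fun k => lkE Rt k = kt) fun k a b =>
      ⟨key k a b, fun c => d.T_t.cj (key2 k a b c)⟩
    rw [F.nt, F.n, h.card_S1 e1] at this
    omega
  have hP : IsSyl 2 φ.range ⊤ := h.crit (prange H.pg) (e1 ▸ H.S0_le) (by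
    rintro _ ⟨k, rfl⟩ c
    have a : ¬ pW k := fun a => h.T_notMem tX c (WX (mks F.cW a))
    exact ⟨_, ⟨_, rfl⟩, key2 k a (H.Tsq h c) (key k a (H.Tsq h c) c)⟩)
  have hY : IsSyl 2 W d.X := by
    have : φ.range ⊓ d.X = W := le_antisymm (by
      rintro _ ⟨⟨k, rfl⟩, c⟩
      have c : φ k ∈ d.X := c
      refine (F.cos k (F.all k)).elim (mks F.cW) fun a => absurd ?_ tX
      have := WX (mks F.cW a)
      rwa [map_mul, map_inv, H.t, mul_mem_cancel_left c, inv_mem_iff] at this) (le_inf sb_range WX)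
    exact this ▸ h.sylX hP
  cases κ
  · have F' := F' rfl
    refine H.finT h F.toFB F' hY le_rfl (fun g => mem_normalizer_of_cj_le) (cm_of (S := {d.u}) ?_ ?_
      (H.W_le F.toFB F' rfl))
    · rintro _ rfl; exact H.nW0 F' ⟨_, H.u⟩
    · rintro _ rfl _ rfl; simp
  · have s1 : ∀ k : TG T, p1 k → pW k ∧ k * k = 1 := fun k a => F.s12 k (.inl a)
    have s2 : ∀ k : TG T, p2 k → pW k ∧ k * k = 1 := fun k a => F.s12 k (.inr a)
    have c := card_sb H.inj F.cW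
    rw [F.nW] at c
    have := twoEA (A := sb φ g1) (B := sb φ g2) h.sX h.ncX hY
      (fun x hx => by obtain ⟨k, a, rfl⟩ := ex F.c1 hx; exact mks F.cW (s1 k a).1)
      (fun x hx => by obtain ⟨k, a, rfl⟩ := ex F.c2 hx; exact mks F.cW (s2 k a).1)
      (fun x hx => by obtain ⟨k, a, rfl⟩ := ex F.c1 hx; exact sq2 (s1 k a).2)
      (fun x hx => by obtain ⟨k, a, rfl⟩ := ex F.c2 hx; exact sq2 (s2 k a).2)
      (fun x hx s => by
        obtain ⟨k, a, rfl⟩ := ex F.cW hx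
        exact ((F.two rfl k a).1 (sq1 H.inj s)).imp (mks F.c1) (mks F.c2))
      (fun x hx => by
        obtain ⟨k, a, rfl⟩ := ex F.cW hx
        obtain ⟨q, -, b, c⟩ := (F.two rfl k a).2
        exact ⟨_, mks F.c1 c, _, mks F.c2 b, by simp⟩)
      (by rw [c, card_sb H.inj F.c1, F.n1]) (by rw [c, card_sb H.inj F.c2, F.n2])
    omega

end Hm

end Cfsg.Agent.HSE.N0
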