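import Mathlib
import Cfsg.Agent.HSE.Basic
import Cfsg.Agent.HSE.N1T

/-! Family `N2` with `4 × 4` layers: the layer group `Q`, the lifting lemma and case (a'). -/

set_option autoImplicit false
set_option linter.unusedSectionVars false
set_option linter.unusedVariables false

namespace Cfsg.Agent.HSE

open Cfsg Subgroup Cfsg.Agent.PLocal Cfsg.Agent.PLocal.Amb Cfsg.Agent.MacW Cfsg.Agent.X32 N1Q Pc

variable {G : Type*} [Group G] [Finite G]

/-- a submonoid of a finite group -/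
def n1Sub (p : G → Prop) (h1 : p 1) (h2 : ∀ a b, p a → p b → p (a * b)) : Subgroup G where
  carrier := {g | p g}
  one_mem' := h1
  mul_mem' := fun a b => h2 _ _ a b
  inv_mem' := fun {b} hb => by
    have : ∀ n, p (b ^ n) := fun n => by
      induction n with
      | zero => simpa using h1
      | succ n ih => rw [pow_succ]; exact h2 _ _ ih hb
    have e : b⁻¹ = b ^ (orderOf b - 1) := by
      rw [inv_eq_iff_mul_eq_one, ← pow_succ', Nat.sub_add_cancel (orderOf_pos b), pow_orderOf_eq_one]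
    exact e ▸ this _

theorem n1_map_bp {K : Type*} [Group K] (φ : K →* G) (x : K) (i : Bool) : φ (bp x i) = bp (φ x) i := by
  cases i <;> simp

theorem n1_tr {K : Type*} [Group K] {χ : K →* G} (hχ : Function.Injective χ) {g x x' : G} {s s' : K}
    (h1 : Cj g x (χ s)) (h2 : Cj g x' (χ s')) : s = s' ↔ x = x' :=
  ⟨fun e => h1.symm.unique (e ▸ h2.symm), fun e => hχ (h1.unique (e ▸ h2))⟩

/-- `g` maps `x` into `x N` -/
def N1St (N : Subgroup G) (g x : G) : Prop := ∃ n ∈ N, Cj g x (x * n)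

theorem N1St.of {N : Subgroup G} {g x : G} (h : Cj g x x) : N1St N g x := ⟨1, one_mem _, h.to (mul_one _).symm⟩

theorem N1St.mul {N : Subgroup G} {g k x : G} (hn : g ∈ 𝐍[N]) (h : N1St N g x) (h' : N1St N k x) :
    N1St N (g * k) x := by
  obtain ⟨n, a, b⟩ := h
  obtain ⟨n', a', b'⟩ := h'
  exact ⟨n * (g * n' * g⁻¹), mul_mem a (conj_mem_of_mem_normalizer hn a'),
    (b'.comp (b.mul rfl)).to (mul_assoc _ _ _)⟩

theorem N1St.odd {N : Subgroup G} {g x : G} (hN : IsPGroup 2 N) (ho : Odd (orderOf g)) (hc : g ∈ 𝐂[N])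
    (h : N1St N g x) : Cj g x x := by
  obtain ⟨n, a, b⟩ := h
  obtain ⟨k, hk⟩ := isPGroup_iff.1 hN n a
  exact odd_step ho b (Cj.of_cent hc a) hk

theorem N1St.mem {N H : Subgroup G} {g x : G} (h : N1St N g x) (hN : N ≤ H) (hx : x ∈ H) : g * x * g⁻¹ ∈ H := by
  obtain ⟨n, a, b⟩ := h
  exact rg_cm b (mul_mem hx (hN a))

namespace N1Q

variable {φ : K →* G} {g k ρ : G} {C C' : ℕ}

theorem Act.conj (hρ : Act φ ρ Cr) (hk : Act φ k C) (h : ∀ x : K, lkE C' (lkE Cr x) = lkE Cr (lkE C x)) :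
    Act φ (ρ * k * ρ⁻¹) C' := fun x => by
  rw [← r3 x, h, mul_assoc]
  exact ((hρ _).symm.comp (hk _)).comp (hρ _)

theorem Act.norm (h : Act φ g C) : g ∈ 𝐍[φ.range] :=
  mem_normalizer_of_cj_le (cj_le_iff_forall.2 (by rintro _ ⟨x, rfl⟩; exact rg_cm (h x) ⟨_, rfl⟩))

theorem Act.left (h : Act φ g C) (hk : k ∈ 𝐂[φ.range]) : Act φ (k * g) C := fun x =>
  (h x).comp (Cj.of_cent hk ⟨_, rfl⟩)

theorem Act.right (h : Act φ g C) (hk : k ∈ 𝐂[φ.range]) : Act φ (g * k) C := fun x =>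
  (Cj.of_cent hk ⟨_, rfl⟩).comp (h x)

theorem mem_cent (h : ∀ x, Cj g (φ x) (φ x)) : g ∈ 𝐂[φ.range] := by
  rintro _ ⟨x, rfl⟩
  exact (h x).comm.symm

theorem nc1 : ¬ Commute gt (gt * ge) := BD.of (by decide +kernel)
theorem nc2 : ¬ Commute (gt * gf) (gt * ge) := BD.of (by decide +kernel)
theorem tf2 : gt * gf * (gt * gf) = 1 := BD.of (by decide +kernel)
theorem c2 (i : Bool) : gt * ge * gu * (gf * bp gz i) * (gu * gz) = gt * (ge * gf) * bp gz (!i) := by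
  cases i <;> exact BD.of (by decide +kernel)
theorem c3 : gt * ge * gu * (gu * gz) = gt * (gf * (ge * gf)⁻¹) := BD.of (by decide +kernel)
theorem l1 (j : Bool) : gt * ge * bp gu j * gb = gt * gb * ge * bp gu j := by
  cases j <;> exact BD.of (by decide +kernel)
theorem l2 (j : Bool) : gt * ge * bp gu j * ge * bp (gu * gz) j = gt * bp gz (!j) := by
  cases j <;> exact BD.of (by decide +kernel)
theorem k2 (i j : Bool) : lkE (Ck i) gu * gu * (ge * bp gz j) = ge * bp gz (!j) := by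
  cases i <;> cases j <;> exact BD.of (by decide +kernel)

end N1Q

theorem N1F.aut {K : Type*} [Group K] {z b u t : K} (H : N1F z b u t) (α : K ≃* K) :
    (∀ y ∈ [1, z, b, z * b, u, z * u, b * u, z * b * u], α y ∈ [1, z, b, z * b, u, z * u, b * u, z * b * u]) ∧
      (IsConj t (α t) ∨ IsConj (t * u) (α t)) := by
  have az : ∀ α : K ≃* K, α z = z := fun α => by
    rcases H.hz (α z) (by rw [← map_mul, H.zz, map_one]) (fun g => by
      obtain ⟨g, rfl⟩ := α.surjective g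
      exact (H.zc g).map α) with k | k
    · rw [k]; exact (α.map_eq_one_iff.1 k).symm
    · exact k
  have aV : ∀ (α : K ≃* K), ∀ y ∈ [1, z, b, z * b], α y ∈ [1, z, b, z * b] := fun α y hy => by
    obtain ⟨a, c⟩ := (H.hV y).2 hy
    refine (H.hV _).1 ⟨by rw [← map_mul, a, map_one], fun g => ?_⟩
    obtain ⟨g, rfl⟩ := α.surjective g
    have := c g
    simp only [← map_mul, ← map_inv, List.mem_cons, List.not_mem_nil, or_false] at this ⊢
    exact this.imp (fun e => by rw [e, map_one]) fun e => by rw [e, az]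
  have aU : ∀ (α : K ≃* K), ∀ y ∈ [1, z, b, z * b, u, z * u, b * u, z * b * u],
      α y ∈ [1, z, b, z * b, u, z * u, b * u, z * b * u] := fun α y hy => by
    obtain ⟨a, c⟩ := (H.hU y).2 hy
    refine (H.hU _).1 ⟨by rw [← map_mul, a, map_one], fun g => ?_⟩
    obtain ⟨g, rfl⟩ := α.surjective g
    have := aV α _ (c g)
    simpa only [map_mul, map_inv] using this
  have cm : ∀ v ∈ [1, z, b, z * b, u, z * u, b * u, z * b * u], Commute (α t) v := fun v hv => by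
    have := (H.tc _ (aU α.symm v hv)).map α
    rwa [α.apply_symm_apply] at this
  refine ⟨aU α, (H.cl (α t) (by rw [← map_mul, H.tt, map_one]) (cm b (by simp)) (cm u (by simp))).resolve_left
    fun k => H.tU ?_⟩
  have := aU α.symm _ k
  rwa [α.symm_apply_apply] at this

namespace Dat

/-- the table of the layer group `Q = ⟨z, a, u, e, f, t⟩` -/
structure LH (d : Dat G) (e₀ f₀ ρ : G) (φ : N1Q.K →* G) : Prop where
  inj : Function.Injective φ
  z : φ gz = d.z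
  a : φ gb = d.a
  u : φ gu = d.u
  e : φ ge = e₀
  f : φ gf = f₀
  t : φ gt = d.t
  le : ∀ H : Subgroup G, d.z ∈ H → d.a ∈ H → d.u ∈ H → e₀ ∈ H → f₀ ∈ H → d.t ∈ H → φ.range ≤ H
  r : Act φ ρ Cr
  b : Act φ d.b Ca

namespace Cfq

variable {d : Dat G} (h : d.Cfq)
include h

theorem n1_ab : Cj d.a d.b (d.b * d.z) := by
  rw [Cj, h.ab, mul_assoc, mul_assoc, ← mul_assoc d.a, ← h.za]; group
theorem n1_ba : Cj d.b d.a (d.a * d.z) := h.sw.n1_ab

theorem n1_te {e : G} (he : d.Ac e (d.t * d.z) d.u d.a d.b) : Cj d.t e (d.z⁻¹ * e) :=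
  (he.t.to h.zt.symm).flipL

theorem lay_hom {e f ρ : G} (L : d.Lay e f ρ true) : ∃ φ, d.LH e f ρ φ := by
  have ez := h.cz' L.ac.a L.ac.b
  obtain ⟨φ, e1, e2, e3, e4, e5, e6, le⟩ := N1Q.hom h.zz h.aa (Cj.of_comm h.za.symm) h.uu (Cj.of_comm h.zu.symm)
    (Cj.of_comm h.au.symm) L.ee ez L.ac.a L.ac.u L.ff L.fz L.fa L.fu L.fe h.tt (Cj.of_comm h.zt.symm)
    (Cj.of_comm h.at'.symm) (Cj.of_comm h.ut.symm) (h.n1_te L.ac) (L.ft.to h.at'.symm).flipL
  refine ⟨φ, Pc.inj hc φ _ _ zen ?_, e1, e2, e3, e4, e5, e6, le, act hr sr ?_ ?_ ?_ ?_ ?_ ?_,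
    act ha' sa ?_ ?_ ?_ ?_ ?_ ?_⟩
  · have ne : ∀ j k m, (j || k || m) = true → bp d.u j * bp d.a k * bp d.z m ≠ 1 := fun j k m a b => by
      obtain ⟨-, rfl, rfl, -, rfl⟩ := h.el_eq_one (i := false) (j := j) (k := k) (l := false) (m := m)
        (by simpa [el] using b)
      simp at a
    simp only [List.forall_mem_cons, List.not_mem_nil, false_imp_iff, implies_true, and_true, map_mul, e1, e2, e3]
    exact ⟨by simpa using ne false false true rfl, by simpa using ne false true false rfl,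
      by simpa using ne false true true rfl, by simpa using ne true false false rfl,
      by simpa using ne true false true rfl, by simpa using ne true true false rfl,
      by simpa using ne true true true rfl⟩
  all_goals simp only [map_mul, map_inv, e1, e2, e3, e4, e5, e6]
  exacts [L.pz, L.pa, L.pu, L.pe, L.pf, L.pt, Cj.of_comm h.zb.symm, h.n1_ba, Cj.of_comm h.bu, L.ac.b.flip,
    L.fb.flipL, Cj.of_comm h.bt]

theorem n1_uU : d.u ∈ d.U1 := subset_closure (by simp)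
theorem n1_zU : d.z ∈ d.U1 := subset_closure (by simp)
theorem n1_aU : d.a ∈ d.U1 := subset_closure (by simp)
theorem n1_zA : d.z ∈ d.A1 := subset_closure (by simp)
theorem n1_UA : d.U1 ≤ d.A1 := (closure_le _).2 (by
  rintro x (rfl | rfl | rfl)
  exacts [h.u_A1, h.n1_zA, h.a_A1])

theorem n1_nU {g u' z' a' : G} (hu : Cj g d.u u') (hz : Cj g d.z z') (ha : Cj g d.a a') (h1 : u' ∈ d.U1)
    (h2 : z' ∈ d.U1) (h3 : a' ∈ d.U1) : g ∈ 𝐍[d.U1] :=
  mem_norm_closure (by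
    rintro x (rfl | rfl | rfl)
    exacts [rg_cm hu h1, rg_cm hz h2, rg_cm ha h3])

theorem n1_cU {g : G} (hu : Cj g d.u d.u) (hz : Cj g d.z d.z) (ha : Cj g d.a d.a) : g ∈ 𝐂[d.U1] :=
  mem_cent_closure (by simp [hu, hz, ha])

theorem n1_nA {g v : G} (hn : g ∈ 𝐍[d.U1]) (ht : Cj g d.t (d.t * v)) (hv : v ∈ d.U1) : g ∈ 𝐍[d.A1] :=
  mem_norm_closure (by
    rintro x (rfl | rfl | rfl | rfl)
    exacts [rg_cm ht (mul_mem h.t_A1 (h.n1_UA hv)), h.n1_UA (conj_mem_of_mem_normalizer hn h.n1_uU),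
      h.n1_UA (conj_mem_of_mem_normalizer hn h.n1_zU), h.n1_UA (conj_mem_of_mem_normalizer hn h.n1_aU)])

theorem n1_rU {e f ρ : G} (L : d.Lay e f ρ true) : ρ ∈ 𝐍[d.U1] :=
  h.n1_nU L.pu L.pz L.pa h.n1_uU h.n1_aU (mul_mem h.n1_aU h.n1_zU)

theorem n1_adj {e f ρ : G} (L : d.Lay e f ρ true) {v : G} (hv : v ∈ d.U1) :
    ∃ m ∈ 𝐂[d.U1], Cj m d.t (d.t * v) ∨ Cj m (d.t * d.u) (d.t * v) := by
  obtain ⟨j, k, m, rfl⟩ := h.mem_U1.1 hv
  have ce := h.n1_cU L.ac.u (h.cz' L.ac.a L.ac.b) L.ac.a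
  have cf := h.n1_cU L.fu L.fz L.fa
  have c1 : Cj (bp e m) d.t (d.t * bp d.z m) := by
    cases m
    · simpa using Cj.one' d.t
    · exact L.ac.t
  have c2 : Cj (bp f k) d.t (d.t * bp d.a k) := by
    cases k
    · simpa using Cj.one' d.t
    · exact L.ft
  have c3 := c1.comp (c2.mul (Cj.of_cent (bp_mem cf k) (bp_mem h.n1_zU m)))
  have cm := mul_mem (bp_mem cf k) (bp_mem ce m)
  refine ⟨_, cm, ?_⟩
  cases j
  · exact Or.inl (c3.to (by simp [el, mul_assoc]))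
  · refine Or.inr ((c3.mul (Cj.of_cent cm h.n1_uU)).to ?_)
    have := h.A1_cen h.u_A1 _ (mul_mem (bp_mem h.a_A1 k) (bp_mem h.n1_zA m))
    simp only [el, bp_false, bp_true, one_mul, mul_one, mul_assoc] at this ⊢
    rw [this]

theorem n1_regU (ε : d.Eps) {e : G} (he : d.Ac e (d.t * d.z) d.u d.a d.b) {R : Subgroup G} (hR : IsPGroup 2 R)
    (hS : d.S0 ≤ R) {c : G} (hc : c ∈ R) (ha : d.Ac c d.t d.u d.a d.b) (ce : Cj c e e) : c ∈ d.U := by
  obtain ⟨i, j, m, rfl⟩ := h.mem_Z0.1 (h.regZ ε hR hS hc ha)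
  cases i
  · exact h.mem_U.2 ⟨j, m, rfl⟩
  · have c1 := ce.flip
    simp only [el, bp_true, bp_false, mul_one] at c1
    have := c1.unique ((he.t.mul (he.u.bp j)).mul ((h.cz' he.a he.b).bp m))
    exact absurd (mul_eq_left.1 (mul_right_cancel (mul_right_cancel this)).symm) h.z1

theorem n1_fixU {c η : G} (cu : Cj c d.u (d.u * d.z)) (cz : Cj c d.z d.z) (hη : η ∈ d.U) (hc : Cj c η η) :
    ∃ i, η = bp d.z i := by
  obtain ⟨j, m, rfl⟩ := h.mem_U.1 hη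
  cases j
  · exact ⟨m, by simp [el]⟩
  · simp only [el, bp_true, bp_false, mul_one, one_mul] at hc
    have := hc.unique (cu.mul (cz.bp m))
    exact absurd (mul_eq_left.1 (mul_right_cancel this).symm) h.z1

theorem n1_lift (ε : d.Eps) {e f ρ : G} (L : d.Lay e f ρ true) {c₀ : G} {j : Bool}
    (ac : d.Ac c₀ (d.t * e * bp d.u j) (d.u * d.z) d.a d.b) (ce : Cj c₀ e e) :
    ∃ (c : G) (T : Subgroup G) (i : Bool), IsPGroup 2 T ∧ d.S0 ≤ T ∧ e ∈ T ∧ f ∈ T ∧ c ∈ T ∧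
      d.Ac c (d.t * e * bp d.u j) (d.u * d.z) d.a d.b ∧ Cj c e e ∧ Cj c f (f * bp d.z i) ∧
      ∃ i', c * c = bp e (!j) * bp d.z i' := by
  obtain ⟨φ, H⟩ := h.lay_hom L
  have ez := h.cz' L.ac.a L.ac.b
  let N : Subgroup G := closure {d.u, d.z, e, d.a}
  let P : Subgroup G := closure {d.t, d.u, d.a, d.b, e}
  have mN : d.u ∈ N ∧ d.z ∈ N ∧ e ∈ N ∧ d.a ∈ N :=
    ⟨subset_closure (by simp), subset_closure (by simp), subset_closure (by simp), subset_closure (by simp)⟩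
  have mP : d.t ∈ P ∧ d.u ∈ P ∧ d.a ∈ P ∧ d.b ∈ P ∧ e ∈ P :=
    ⟨subset_closure (by simp), subset_closure (by simp), subset_closure (by simp), subset_closure (by simp),
      subset_closure (by simp)⟩
  have SP : d.S0 ≤ P := closure_mono (by simp [Set.insert_subset_iff])
  have NP : N ≤ P := (closure_le _).2 (by
    rintro x (rfl | rfl | rfl | rfl)
    exacts [mP.2.1, SP h.z_S0, mP.2.2.2.2, mP.2.2.1])
  have ZN : zpowers d.z ≤ N := zpowers_le.2 mN.2.1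
  have pP : IsPGroup 2 P := (two_sup h.pS0 (L.ac.norm (mul_mem d.t_S0 h.z_S0) d.u_S0 d.a_S0 d.b_S0) (k := 2)
    (by rw [show 2 ^ 2 = 2 * 2 from rfl, pow_mul, sq e, L.ee, sq]; exact h.zz)).to_le ((closure_le _).2 (by
      rintro x (rfl | rfl | rfl | rfl | rfl)
      exacts [mem_sup_left d.t_S0, mem_sup_left d.u_S0, mem_sup_left d.a_S0, mem_sup_left d.b_S0,
        mem_sup_right (mem_zpowers _)]))
  have cZ : ∀ {g}, Cj g d.z d.z → g ∈ 𝐂[zpowers d.z] := fun a => by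
    rw [Amb.centralizer_zpowers]; exact rg_mem'.2 a
  let p : G → Prop := fun g => Cj g d.z d.z ∧ N1St (zpowers d.z) g d.u ∧ N1St (zpowers d.z) g e ∧
    N1St (zpowers d.z) g d.a ∧ N1St N g d.t ∧ N1St N g d.b
  have nN : ∀ g, p g → g ∈ 𝐍[N] := fun g a => mem_norm_closure (by
    rintro x (rfl | rfl | rfl | rfl)
    exacts [a.2.1.mem ZN mN.1, rg_cm a.1 mN.2.1, a.2.2.1.mem ZN mN.2.2.1, a.2.2.2.1.mem ZN mN.2.2.2])
  let M : Subgroup G := n1Sub p ⟨Cj.one' _, .of (Cj.one' _), .of (Cj.one' _), .of (Cj.one' _), .of (Cj.one' _),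
    .of (Cj.one' _)⟩ fun g k a b =>
      have n1 := centralizer_le_normalizer' _ (cZ a.1)
      ⟨b.1.comp a.1, a.2.1.mul n1 b.2.1, a.2.2.1.mul n1 b.2.2.1, a.2.2.2.1.mul n1 b.2.2.2.1,
        a.2.2.2.2.1.mul (nN g a) b.2.2.2.2.1, a.2.2.2.2.2.mul (nN g a) b.2.2.2.2.2⟩
  have hM : M ≤ 𝐍[P] := fun g (a : p g) => mem_norm_closure (by
    rintro x (rfl | rfl | rfl | rfl | rfl)
    exacts [a.2.2.2.2.1.mem NP mP.1, a.2.1.mem (ZN.trans NP) mP.2.1, a.2.2.2.1.mem (ZN.trans NP) mP.2.2.1,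
      a.2.2.2.2.2.mem NP mP.2.2.2.1, a.2.2.1.mem (ZN.trans NP) mP.2.2.2.2])
  have hC : 𝐂[P] ≤ M := fun g a => (⟨Cj.of_cent a (SP h.z_S0), .of (Cj.of_cent a mP.2.1),
    .of (Cj.of_cent a mP.2.2.2.2), .of (Cj.of_cent a mP.2.2.1), .of (Cj.of_cent a mP.1),
    .of (Cj.of_cent a mP.2.2.2.1)⟩ : p g)
  have h2 : ∀ g ∈ M, Odd (orderOf g) → g ∈ 𝐂[P] := fun g (a : p g) ho => by
    have pZ := pP.to_le (ZN.trans NP)
    have c1 := a.2.1.odd pZ ho (cZ a.1)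
    have c2 := a.2.2.1.odd pZ ho (cZ a.1)
    have c3 := a.2.2.2.1.odd pZ ho (cZ a.1)
    have c4 : g ∈ 𝐂[N] := mem_cent_closure (by simp [c1, c2, c3, a.1])
    have c5 := a.2.2.2.2.1.odd (pP.to_le NP) ho c4
    have c6 := a.2.2.2.2.2.odd (pP.to_le NP) ho c4
    exact mem_cent_closure (by simp [c1, c2, c3, c5, c6])
  have zz := mem_zpowers d.z
  have PM : P ≤ M := (closure_le _).2 (by
    rintro x (rfl | rfl | rfl | rfl | rfl)
    · exact (⟨Cj.of_comm h.zt.symm, .of (Cj.of_comm h.ut.symm), ⟨_, inv_mem zz, (h.n1_te L.ac).to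
        ((show Commute e d.z from ez.comm).inv_right.eq.symm)⟩, .of (Cj.of_comm h.at'.symm), .of (Cj.self _),
        .of (Cj.of_comm h.bt.symm)⟩ : p _)
    · exact (⟨Cj.of_comm h.zu.symm, .of (Cj.self _), .of L.ac.u.flip, .of (Cj.of_comm h.au.symm),
        .of (Cj.of_comm h.ut), .of (Cj.of_comm h.bu.symm)⟩ : p _)
    · exact (⟨Cj.of_comm h.za.symm, .of (Cj.of_comm h.au), .of L.ac.a.flip, .of (Cj.self _),
        .of (Cj.of_comm h.at'), ⟨_, mN.2.1, h.n1_ab⟩⟩ : p _)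
    · exact (⟨Cj.of_comm h.zb.symm, .of (Cj.of_comm h.bu), .of L.ac.b.flip, ⟨_, zz, h.n1_ba⟩,
        .of (Cj.of_comm h.bt), .of (Cj.self _)⟩ : p _)
    · exact (⟨ez, .of L.ac.u, .of (Cj.self _), .of L.ac.a, ⟨_, mN.2.1, L.ac.t⟩, .of L.ac.b⟩ : p _))
  have fM : f ∈ M := (⟨L.fz, .of L.fu, .of L.fe, .of L.fa, ⟨_, mN.2.2.2, L.ft⟩,
    ⟨e * d.a * d.z, mul_mem (mul_mem mN.2.2.1 mN.2.2.2) mN.2.1, L.fb.to (by
      rw [bp_true, mul_assoc, h.ab, ← mul_assoc, ← mul_assoc, L.ac.b.comm]; group)⟩⟩ : p _)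
  have cM : c₀ ∈ M := (⟨h.cz' ac.a ac.b, ⟨_, zz, ac.u⟩, .of ce, .of ac.a,
    ⟨e * bp d.u j, mul_mem mN.2.2.1 (bp_mem mN.1 j), ac.t.to (mul_assoc _ _ _)⟩, .of ac.b⟩ : p _)
  obtain ⟨T, hT, RT, lift⟩ := two_lift hC hM h2 (two_sup pP (hM fM) (k := 2)
    (by rw [show 2 ^ 2 = 2 * 2 from rfl, pow_mul, sq f, L.ff, sq]; exact h.aa)) (sup_le PM (zpowers_le.2 fM))
  obtain ⟨c, cT, hc⟩ := lift c₀ cM
  have PT := le_sup_left.trans RT
  have fT : f ∈ T := RT (mem_sup_right (mem_zpowers f))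
  have tr : ∀ {x y}, y ∈ P → Cj c₀ x y → Cj c x y := fun hy a => by
    have := a.comp (Cj.of_cent (inv_mem hc) hy)
    rwa [show (c₀ * c⁻¹)⁻¹ * c₀ = c by group] at this
  have ac' : d.Ac c (d.t * e * bp d.u j) (d.u * d.z) d.a d.b :=
    ⟨tr (mul_mem (mul_mem mP.1 mP.2.2.2.2) (bp_mem mP.2.1 j)) ac.t, tr (mul_mem mP.2.1 (SP h.z_S0)) ac.u,
      tr mP.2.2.1 ac.a, tr mP.2.2.2.1 ac.b⟩
  have ce' := tr mP.2.2.2.2 ce
  have cz := h.cz' ac'.a ac'.b
  have uU : d.u ∈ d.U := subset_closure (by simp)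
  have zU : d.z ∈ d.U := subset_closure (by simp)
  have nU : c ∈ 𝐍[d.U] := mem_norm_closure (by
    rintro x (rfl | rfl)
    exacts [rg_cm ac'.u (mul_mem uU zU), rg_cm cz zU])
  have i1 : d.t * e * bp d.u j * d.a = d.t * d.a * e * bp d.u j := by
    simpa only [map_mul, n1_map_bp, H.z, H.a, H.u, H.e, H.t] using congrArg φ (l1 j)
  have i2 : d.t * e * bp d.u j * e * bp (d.u * d.z) j = d.t * bp d.z (!j) := by
    simpa only [map_mul, n1_map_bp, H.z, H.a, H.u, H.e, H.t] using congrArg φ (l2 j)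
  have m1 : c⁻¹ * (f⁻¹ * (c * f)) ∈ d.U := by
    refine h.n1_regU ε L.ac hT.pgrp (SP.trans PT)
      (mul_mem (inv_mem cT) (mul_mem (inv_mem fT) (mul_mem cT fT))) ⟨?_, ?_, ?_, ?_⟩ ?_
    · exact (((L.ft.comp (ac'.t.mul ac'.a)).to i1).comp
        ((L.ft.mul L.fe).mul (L.fu.bp j)).symm).comp ac'.t.symm
    · exact ((L.fu.comp ac'.u).comp (L.fu.mul L.fz).symm).comp ac'.u.symm
    · exact ((L.fa.comp ac'.a).comp L.fa.symm).comp ac'.a.symm
    · exact ((L.fb.comp ((ce'.mul (ac'.a.bp true)).mul ac'.b)).comp L.fb.symm).comp ac'.b.symm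
    · exact ((L.fe.comp ce').comp L.fe.symm).comp ce'.symm
  have be : d.Ac (bp e (!j)) (d.t * bp d.z (!j)) d.u d.a d.b ∧ Cj (bp e (!j)) e e ∧ Cj f (bp e (!j)) (bp e (!j)) ∧
      Cj c (bp e (!j)) (bp e (!j)) := by
    refine ⟨?_, ((Cj.self e).bp _).flip, L.fe.bp _, ce'.bp _⟩
    cases j
    · exact L.ac
    · exact ⟨by simpa using Cj.one' d.t, Cj.one' _, Cj.one' _, Cj.one' _⟩
  have m2 : (bp e (!j))⁻¹ * (c * c) ∈ d.U := by
    refine h.n1_regU ε L.ac hT.pgrp (SP.trans PT)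
      (mul_mem (inv_mem (bp_mem (PT mP.2.2.2.2) _)) (mul_mem cT cT)) ⟨?_, ?_, ?_, ?_⟩ ?_
    · exact ((ac'.t.comp ((ac'.t.mul ce').mul (ac'.u.bp j))).to i2).comp be.1.t.symm
    · exact ((ac'.u.comp (ac'.u.mul cz)).to h.u_sw.symm).comp be.1.u.symm
    · exact (ac'.a.comp ac'.a).comp be.1.a.symm
    · exact (ac'.b.comp ac'.b).comp be.1.b.symm
    · exact (ce'.comp ce').comp be.2.1.symm
  obtain ⟨i', e2⟩ := h.n1_fixU ac'.u cz m2 (be.2.2.2.inv.mul ((Cj.self c).mul (Cj.self c)))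
  have e3 : c * c = bp e (!j) * bp d.z i' := by rw [← e2]; group
  set ζ := c * (c⁻¹ * (f⁻¹ * (c * f))) * c⁻¹ with hζ
  have m3 : ζ ∈ d.U := conj_mem_of_mem_normalizer nU m1
  have cf : Cj c f (f * ζ) := by rw [hζ, Cj]; group
  have c2 : Cj (c * c) f f := by rw [e3]; exact (be.2.2.1.mul (L.fz.bp i')).flip
  have e4 := c2.unique (cf.comp (cf.mul rfl))
  have ζζ : ζ * ζ = 1 := h.sq_A1 _ ((closure_mono (by simp [Set.insert_subset_iff]) : d.U ≤ d.A1) m3)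
  have e5 : Cj c ζ ζ := by
    rw [mul_assoc, eq_comm, mul_eq_left] at e4
    exact mul_left_cancel (e4.trans ζζ.symm)
  obtain ⟨i, e6⟩ := h.n1_fixU ac'.u cz m3 e5
  exact ⟨c, T, i, hT.pgrp, SP.trans PT, PT mP.2.2.2.2, fT, cT, ac', ce', e6 ▸ cf, i', e3⟩

theorem n1_end (ε : d.Eps) (ntu : ¬ d.T (d.t * d.u)) {e f ρ : G} (L : d.Lay e f ρ true) {K : Type*} [Group K]
    {χ : K →* G} {z b u e' f' t a' : K} (hχ : Function.Injective χ) (hK : Nat.card K = 512) (H : N1F z b u t) (e1 : χ z = d.z)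
    (e2 : χ b = d.a) (e3 : χ u = d.u) (e4 : χ e' = e) (e5 : χ f' = f) (e6 : χ t = d.t) (e7 : χ a' = d.b) :
    Bd G := by
  have pP : IsPGroup 2 χ.range := H.two.of_equiv (MonoidHom.ofInjective hχ)
  have SP : d.S0 ≤ χ.range := (closure_le _).2 (by
    rintro x (rfl | rfl | rfl | rfl)
    exacts [⟨_, e6⟩, ⟨_, e3⟩, ⟨_, e2⟩, ⟨_, e7⟩])
  have mU : ∀ y ∈ [1, z, b, z * b, u, z * u, b * u, z * b * u], χ y ∈ d.U1 := by
    simp only [List.forall_mem_cons, List.not_mem_nil, false_imp_iff, implies_true, and_true, map_mul, map_one,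
      e1, e2, e3]
    have a1 := h.n1_uU
    have a2 := h.n1_zU
    have a3 := h.n1_aU
    exact ⟨one_mem _, a2, a3, mul_mem a2 a3, a1, mul_mem a2 a1, mul_mem a3 a1, mul_mem (mul_mem a2 a3) a1⟩
  have syl : IsSyl 2 χ.range ⊤ := by
    obtain ⟨R, hR, PR⟩ := exists_isSyl_ge pP (le_top : χ.range ≤ ⊤)
    refine (eq_of_inf_normalizer_le hR.pgrp PR fun x hx => ?_) ▸ hR
    let α : K ≃* K := (MonoidHom.ofInjective hχ).trans ((((MulAut.conj x).subgroupMap χ.range).trans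
      (MulEquiv.subgroupCongr (cj_of_mem_normalizer hx.2))).trans (MonoidHom.ofInjective hχ).symm)
    have hα : ∀ s, Cj x (χ s) (χ (α s)) := fun s =>
      (MonoidHom.apply_ofInjective_symm hχ ⟨x * χ s * x⁻¹,
        conj_mem_of_mem_normalizer hx.2 (show χ s ∈ χ.range from ⟨s, rfl⟩)⟩).symm
    obtain ⟨a1, a2⟩ := H.aut α
    have c1 := hα t
    rw [e6] at c1
    rcases a2 with a2 | a2
    · obtain ⟨p, hp⟩ := isConj_iff.1 a2
      have c2 := Pc.map_cj χ (show Cj p t (α t) from hp)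
      rw [e6] at c2
      have nP : χ p ∈ 𝐍[d.U1] := by
        have a3 := (H.aut (MulAut.conj p)).1
        exact h.n1_nU (e3 ▸ Pc.map_cj χ rfl) (e1 ▸ Pc.map_cj χ rfl) (e2 ▸ Pc.map_cj χ rfl)
          (mU _ (a3 u (by simp))) (mU _ (a3 z (by simp))) (mU _ (a3 b (by simp)))
      have nx : x ∈ 𝐍[d.U1] := h.n1_nU (e3 ▸ hα u) (e1 ▸ hα z) (e2 ▸ hα b)
          (mU _ (a1 u (by simp))) (mU _ (a1 z (by simp))) (mU _ (a1 b (by simp)))
      have c3 := c1.comp c2.symm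
      have := SP (h.reg ε hR.pgrp (SP.trans PR) (mul_mem (inv_mem (PR ⟨p, rfl⟩)) hx.1) c3
        (h.n1_nA (mul_mem (inv_mem nP) nx) (c3.to (mul_one _).symm) (one_mem _)))
      exact (mul_mem_cancel_left (inv_mem (show χ p ∈ χ.range from ⟨p, rfl⟩))).1 this
    · obtain ⟨p, hp⟩ := isConj_iff.1 a2
      have c2 := Pc.map_cj χ (show Cj p (t * u) (α t) from hp)
      rw [map_mul, e6, e3] at c2
      exact (ntu ((d.T_t.cj c1).cj' c2)).elim
  exact ⟨_, syl, by rw [card_range hχ, hK]; norm_num⟩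

theorem n1_core (ε : d.Eps) (ntu : ¬ d.T (d.t * d.u)) {e f ρ : G} (L : d.Lay e f ρ true) {φ : N1Q.K →* G}
    (H : d.LH e f ρ φ) {i j : Bool} {k r : G} (hk : Act φ k (Ck i)) (kk : k * k = φ (ge * bp gz j))
    (hr : Act φ r Cr) (bk : Cj d.b k k) (br : d.b * r * d.b * r = 1) (r3 : Cj (r ^ 3) k k)
    (hm : k * (r * k * r⁻¹) * (r * (r * k * r⁻¹) * r⁻¹) = φ (bp (gt * gf * gz) i)) : Bd G := by
  have hl := hr.conj hk (rk i)
  have ll : r * k * r⁻¹ * (r * k * r⁻¹) = φ (gf * bp gb j) := by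
    rw [conj_mul, kk, ← rsq]; exact hr _
  have b1 : Cj d.b r r⁻¹ := by
    rw [Cj, inv_eq_of_mul_eq_one_right h.bb]; exact eq_inv_of_mul_eq_one_left br
  have e1 : r * (r * k * r⁻¹) * r⁻¹ = r⁻¹ * k * r⁻¹⁻¹ := by
    conv_rhs => rw [← (r3 : _ = _)]
    simp [pow_succ, mul_assoc]
  have bl : Cj d.b (r * k * r⁻¹) (r * (r * k * r⁻¹) * r⁻¹) := e1 ▸ (b1.mul bk).mul b1.inv
  have bl' : Cj d.b (r * (r * k * r⁻¹) * r⁻¹) (r * k * r⁻¹) := by
    have := bl.symm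
    rwa [inv_eq_of_mul_eq_one_right h.bb] at this
  generalize r * (r * k * r⁻¹) * r⁻¹ = l' at *
  generalize r * k * r⁻¹ = l at *
  have e2 : l' = l⁻¹ * k⁻¹ * φ (bp (gt * gf * gz) i) := by rw [← hm]; group
  have e3 := ((bk.mul bl).mul bl').unique (show Cj d.b (k * l * l') _ by rw [hm]; exact H.b _)
  have lk : Cj l k (φ (bp (gb * ge * gf) i) * k) := by
    rw [← lkv, map_mul, map_inv, ← (hl _ : _ = _), ← e3, e2, Cj]; group
  obtain ⟨T, _, _, χ, z, b, u, e', f', t, a', hχ, hK, F, e1, e2, e3, e4, e5, e6, e7⟩ :=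
    n1_T i j hk hl H.b kk ll lk h.bb bk (e2 ▸ bl) (H.z ▸ h.z1)
  exact h.n1_end ε ntu L hχ hK F (e1.trans H.z) (e2.trans H.a) (e3.trans H.u) (e4.trans H.e) (e5.trans H.f)
    (e6.trans H.t) e7

theorem n1_odd {e f ρ : G} {φ : N1Q.K →* G} (H : d.LH e f ρ φ) {g : G} (hn : g ∈ 𝐍[φ.range]) (hc : g ∈ 𝐂[d.V1])
    (ho : Odd (orderOf g)) : g ∈ 𝐂[φ.range] := by
  have ex : ∀ s, ∃ s', Cj g (φ s) (φ s') := fun s => by
    obtain ⟨s', e⟩ := conj_mem_of_mem_normalizer hn (show φ s ∈ φ.range from ⟨s, rfl⟩)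
    exact ⟨s', e.symm⟩
  have cz : φ gz ∈ centralizer {g} := rg_mem.2 (H.z ▸ Cj.of_cent hc (subset_closure (by simp)))
  have ca : φ gb ∈ centralizer {g} := rg_mem.2 (H.a ▸ Cj.of_cent hc (subset_closure (by simp)))
  have st : ∀ {s s'}, Cj g (φ s) (φ s') → φ s' ∈ centralizer {g} ∨ φ (s⁻¹ * s') ∈ centralizer {g} →
      φ s ∈ centralizer {g} := by
    intro s s' c k
    rcases k with k | k
    · exact c.symm.unique (rg_mem.1 k).symm ▸ k
    · obtain ⟨n, hn⟩ := pgrp N1Q.hc (s⁻¹ * s')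
      exact rg_mem.2 (odd_step ho (c.to (by rw [← map_mul, mul_inv_cancel_left])) (rg_mem.1 k) (k := n)
        (by rw [← map_pow, hn, map_one]))
  have cu' : φ gu ∈ centralizer {g} := by
    obtain ⟨s, c⟩ := ex gu
    have cm : ∀ x, Commute s x := fun x => by
      obtain ⟨x', e⟩ := inv_conj_mem_of_mem_normalizer hn (show φ x ∈ φ.range from ⟨x, rfl⟩)
      have c' : Cj g (φ x') (φ x) := by rw [Cj, e]; group
      refine (n1_tr H.inj ((c.mul c').to (map_mul _ _ _).symm) ((c'.mul c).to (map_mul _ _ _).symm)).2 ?_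
      rw [← map_mul, ← map_mul, (uc x').eq]
    exact st c ((cu s (cm _) (cm _) (cm _)).imp (mskV cz ca) (mskV cz ca))
  have sq : ∀ {s s' w}, Cj g (φ s) (φ s') → s * s = w → φ w ∈ centralizer {g} → s' * s' = w := fun c a b =>
    (n1_tr H.inj ((c.mul c).to (map_mul _ _ _).symm) (rg_mem.1 b)).2 (by rw [← map_mul, a])
  have ce' : φ ge ∈ centralizer {g} := by
    obtain ⟨s, c⟩ := ex ge
    exact st c (Or.inr (mskU cz ca cu' (ce s (sq c rels.2.2.2.2.2.2.1 cz))))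
  have cf' : φ gf ∈ centralizer {g} := by
    obtain ⟨s, c⟩ := ex gf
    exact st c (Or.inr (mskU cz ca cu' (cf s (sq c rels.2.2.2.2.2.2.2.2.2.2.1 ca))))
  have ct' : φ gt ∈ centralizer {g} := by
    obtain ⟨s, c⟩ := ex gt
    exact st c ((ct s).imp (mskM cz ca cu' ce' cf') (mskM cz ca cu' ce' cf'))
  exact mem_cent fun x => rg_mem.1 (H.le _ (H.z ▸ cz) (H.a ▸ ca) (H.u ▸ cu') (H.e ▸ ce') (H.f ▸ cf') (H.t ▸ ct')
    ⟨x, rfl⟩)

theorem n1_caseK (ε : d.Eps) (ntu : ¬ d.T (d.t * d.u)) {e f ρ : G} (L : d.Lay e f ρ true) {k₀ : G}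
    (ac₀ : d.Ac k₀ (d.t * e * bp d.u false) (d.u * d.z) d.a d.b) (ce₀ : Cj k₀ e e) : Bd G := by
  obtain ⟨k, T, i, pT, ST, eT, fT, kT, ac, ce, cf, j, kk⟩ := h.n1_lift ε L ac₀ ce₀
  obtain ⟨φ, H⟩ := h.lay_hom L
  have cz := h.cz' ac.a ac.b
  have hk' : Act φ k (Ck i) := by
    refine act (hk i) (sk i) ?_ ?_ ?_ ?_ ?_ ?_ <;> simp only [map_mul, n1_map_bp, H.z, H.a, H.u, H.e, H.f, H.t]
    exacts [cz, ac.a, ac.u, ce, cf, ac.t.to (mul_one _)]
  have kk' : k * k = φ (ge * bp gz j) := by rw [kk, map_mul, n1_map_bp, H.e, H.z]; rfl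
  have pQ : IsPGroup 2 φ.range := (pgrp N1Q.hc).of_equiv (MonoidHom.ofInjective H.inj)
  have AQ : d.A1 ≤ φ.range := (closure_le _).2 (by
    rintro x (rfl | rfl | rfl | rfl)
    exacts [⟨_, H.t⟩, ⟨_, H.u⟩, ⟨_, H.z⟩, ⟨_, H.a⟩])
  have zV : d.z ∈ d.V1 := subset_closure (by simp)
  have aV : d.a ∈ d.V1 := subset_closure (by simp)
  have cV : ∀ {g}, Cj g d.z d.z → Cj g d.a d.a → g ∈ 𝐂[d.V1] := fun a b => mem_cent_closure (by simp [a, b])
  have nV : ∀ {g z' a'}, Cj g d.z z' → Cj g d.a a' → z' ∈ d.V1 → a' ∈ d.V1 → g ∈ 𝐍[d.V1] := fun a b c e =>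
    mem_norm_closure (by
      rintro x (rfl | rfl)
      exacts [rg_cm a c, rg_cm b e])
  have QV : φ.range ≤ 𝐂[d.V1] := H.le _ (cV (Cj.self _) (Cj.of_comm h.za)) (cV (Cj.of_comm h.za.symm) (Cj.self _))
    (cV (Cj.of_comm h.zu.symm) (Cj.of_comm h.au.symm)) (cV (h.cz' L.ac.a L.ac.b) L.ac.a) (cV L.fz L.fa)
    (cV (Cj.of_comm h.zt.symm) (Cj.of_comm h.at'.symm))
  have nF : 𝐍[φ.range] ⊓ 𝐍[d.V1] ≤ 𝐍[𝐍[φ.range] ⊓ 𝐂[d.V1]] :=
    le_normalizer_inf (inf_le_left.trans le_normalizer) (le_normalizer_centralizer inf_le_right)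
  obtain ⟨Q, r, hQ, q1, q2, q3, -, q4, q5, q6, q7, -⟩ := LQ (A := φ.range) (F := 𝐍[φ.range] ⊓ 𝐂[d.V1])
    (R := T ⊓ (𝐍[φ.range] ⊓ 𝐍[d.V1])) (r := ρ) (v := d.b) (h.sylQ ε pQ AQ) (le_inf le_normalizer QV)
    (le_inf (centralizer_le_normalizer' _) (centralizer_anti ((closure_le _).2 (by
      rintro x (rfl | rfl)
      exacts [⟨_, H.z⟩, ⟨_, H.a⟩])))) inf_le_left
    (fun g hg => by
      obtain ⟨n, hn⟩ := exists_odd_part g
      exact ⟨2 * n, pow_mul 2 2 n ▸ h.n1_odd H (pow_mem hg.1 _) (pow_mem hg.2 _) hn⟩)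
    (pT.to_le inf_le_left)
    (le_inf (H.le _ (ST h.z_S0) (ST d.a_S0) (ST d.u_S0) eT fT (ST d.t_S0))
      (le_inf le_normalizer (QV.trans (centralizer_le_normalizer' _))))
    (inf_le_right.trans inf_le_left) (inf_le_right.trans nF) H.r.norm
    (nF ⟨H.r.norm, nV L.pz L.pa aV (mul_mem aV zV)⟩)
    ⟨ST d.b_S0, H.b.norm, nV (Cj.of_comm h.zb.symm) h.n1_ba zV (mul_mem aV zV)⟩ h.bb (L.bp' ▸ one_mem _)
    (mem_cent fun x => by
      have := ((H.r x).comp (H.r _)).comp (H.r _)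
      rwa [r3, ← pow_three] at this)
  have hr' : Act φ r Cr := by
    have := H.r.left q5
    rwa [inv_mul_cancel_right] at this
  have kQ : k ∈ Q := q1 ⟨⟨kT, hk'.norm, nV cz ac.a zV aV⟩, hk'.norm, cV cz ac.a⟩
  have QQ : φ.range ≤ Q := le_trans (le_inf (le_inf (H.le _ (ST h.z_S0) (ST d.a_S0) (ST d.u_S0) eT fT (ST d.t_S0))
      (le_inf le_normalizer (QV.trans (centralizer_le_normalizer' _)))) (le_inf le_normalizer QV)) q1
  have lQ := conj_mem_of_mem_normalizer q4 kQ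
  have lQ' := conj_mem_of_mem_normalizer q4 lQ
  have hl := hr'.conj hk' (rk i)
  have hl' := hr'.conj hl (rl i)
  have r3' : Cj (r ^ 3) k k := Cj.of_cent q7 kQ
  have cm : (φ (bp (gt * gf * gz) i))⁻¹ * (k * (r * k * r⁻¹ * (r * (r * k * r⁻¹) * r⁻¹))) ∈ 𝐂[φ.range] :=
    mem_cent fun x => (((hl' x).comp (hl _)).comp (hk' _)).comp (Pc.map_cj φ (rm i x)).symm
  obtain ⟨n, hn⟩ := q3 (mem_inf.2 ⟨mul_mem (inv_mem (QQ ⟨_, rfl⟩)) (mul_mem kQ (mul_mem lQ lQ')), cm⟩)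
  have hm : k * (r * k * r⁻¹) * (r * (r * k * r⁻¹) * r⁻¹) = φ (bp (gt * gf * gz) i * n) := by
    rw [map_mul, hn]; group
  have e1 : Cj (k * r) (k * (r * k * r⁻¹) * (r * (r * k * r⁻¹) * r⁻¹))
      (k * (r * k * r⁻¹) * (r * (r * k * r⁻¹) * r⁻¹)) := by
    rw [Cj]
    conv_rhs => rw [← mul_one (k * _ * _), ← mul_inv_cancel k, ← mul_assoc]
    conv_rhs => enter [1, 2]; rw [← (r3' : _ = _)]
    simp only [pow_succ]; group
  rw [hm] at e1
  rcases mval i _ (fun s _ => by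
      rw [inv_mul_cancel_left]
      exact H.inj (by rw [map_mul, map_mul, hn]; exact (cm _ ⟨s, rfl⟩).symm))
    (H.inj (((hr' _).comp (hk' _)).unique e1)) with e2 | e2
  · exact h.n1_core ε ntu L H hk' kk' hr' ac.b.flip q6 r3' (e2 ▸ hm)
  · have uc' : φ gu ∈ 𝐂[φ.range] := mem_cent fun x => Pc.map_cj φ (Cj.of_comm (uc x))
    have ru : Cj r (φ gu) (φ gu) := (hr'.six sr).2.2.1
    refine h.n1_core ε ntu L H (j := !j) (hk'.right uc') ?_ hr' (ac.b.flip.mul (H.b.six sa).2.2.1) q6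
      (r3'.mul (Cj.of_cent q7 (QQ ⟨_, rfl⟩))) ?_
    · rw [← k2 i j, map_mul, map_mul, ← kk', ← (hk' gu : _ = _)]
      have : k * φ gu * k⁻¹ * φ gu * (k * k) = k * φ gu * (k⁻¹ * (φ gu * (k * k))) := by group
      rw [this, kk', ← map_mul, (uc _).eq, map_mul, ← kk']; group
    · have e3 : r * (k * φ gu) * r⁻¹ = r * k * r⁻¹ * φ gu := by
        conv_rhs => rw [← (ru : _ = _)]
        group
      have e4 : r * (r * k * r⁻¹ * φ gu) * r⁻¹ = r * (r * k * r⁻¹) * r⁻¹ * φ gu := by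
        conv_rhs => rw [← (ru : _ = _)]
        group
      have e5 : φ gu * φ (bp (gt * gf * gz) i * n) = φ (bp (gt * gf * gz) i * n) * φ gu := by
        rw [← map_mul, (uc _).eq, map_mul]
      rw [e3, e4, ← e2, map_mul, map_mul, map_mul, ← (hk' gu : _ = _), ← (((hl gu).comp (hk' _)) : _ = _),
        mul_assoc _ (φ gu) (φ _), e5, ← hm]
      group

end Cfq

end Dat

end Cfsg.Agent.HSE
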