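import Mathlib
import Cfsg.Agent.HSE.Basic
import Cfsg.Agent.HSE.N1A

/-! Family `N2` with `4 × 4` layers. -/

set_option autoImplicit false
set_option linter.unusedSectionVars false
set_option linter.unusedVariables false

namespace Cfsg.Agent.HSE

open Cfsg Subgroup Cfsg.Agent.PLocal Cfsg.Agent.PLocal.Amb Cfsg.Agent.MacW Cfsg.Agent.X32 N1Q Pc

variable {G : Type*} [Group G] [Finite G]

/-- `g` conjugates `H` into `H'` -/
def N1Mp (g : G) (H H' : Subgroup G) : Prop := ∀ x ∈ H, g * x * g⁻¹ ∈ H'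

theorem N1Mp.comp {g k : G} {H H' H'' : Subgroup G} (a : N1Mp k H H') (b : N1Mp g H' H'') : N1Mp (g * k) H H'' :=
  fun x hx => rg_cm (Cj.comp (k := k) (g := g) rfl rfl) (b _ (a x hx))

theorem N1Mp.norm {g : G} {H : Subgroup G} (a : g ∈ 𝐍[H]) : N1Mp g H H := fun _ hx => conj_mem_of_mem_normalizer a hx

theorem N1Mp.clos {g : G} {s : Set G} {H : Subgroup G} (a : ∀ x ∈ s, g * x * g⁻¹ ∈ H) : N1Mp g (closure s) H :=
  fun _ hx => (closure_le (H.comap (MulAut.conj g).toMonoidHom)).2 a hx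

namespace N1Q

theorem qt : ∀ x : K, Commute x gz ∧ Commute x gb ∧ Msk 60 (gt⁻¹ * (x * gt * x⁻¹)) ∧
    Msk 60 ((gt * ge)⁻¹ * (x * (gt * ge) * x⁻¹)) := BD.of (by decide +kernel)

end N1Q

namespace Dat.Cfq

variable {d : Dat G} (h : d.Cfq)
include h

theorem n1_adjV {e f ρ : G} (L : d.Lay e f ρ true) {H : Subgroup G} (he : e ∈ H) (hf : f ∈ H) {v : G}
    (hv : v ∈ d.V1) : ∃ m ∈ H, m ∈ 𝐂[d.U1] ∧ Cj m d.t (d.t * v) := by
  obtain ⟨k, m, rfl⟩ := h.mem_V1.1 hv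
  have ce := h.n1_cU L.ac.u (h.cz' L.ac.a L.ac.b) L.ac.a
  have cf := h.n1_cU L.fu L.fz L.fa
  have c1 : Cj (bp e m) d.t (d.t * bp d.z m) := by
    cases m
    · simpa using Cj.one' d.t
    · exact L.ac.t
  have c2 : Cj (bp f k) d.t (d.t * bp d.a k) := by
    cases k
    · simpa using Cj.one' d.t
    · exact L.ft
  have c3 := c1.comp (c2.mul (Cj.of_cent (bp_mem cf k) (bp_mem h.n1_zU m)))
  exact ⟨_, mul_mem (bp_mem hf k) (bp_mem he m), mul_mem (bp_mem cf k) (bp_mem ce m),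
    c3.to (by simp [el, mul_assoc])⟩

theorem n1_kill (e1 : d.E1) {g : G} (ac : d.Ac g (d.t * d.u) (d.u * d.z) d.b d.a) {x : G} (hx : x ∈ 𝐍[d.A1])
    (c : Cj x d.t (d.t * d.u)) : False := by
  obtain ⟨n, hn, cn⟩ := h.fuseA1 (Or.inl e1) hx c (mul_mem (subset_closure (by simp)) (subset_closure (by simp)))
  have tA : d.t ∈ d.A2 := subset_closure (by simp)
  have uA : d.u ∈ d.A2 := subset_closure (by simp)
  have zA : d.z ∈ d.A2 := subset_closure (by simp)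
  refine h.noswap e1 (ac.t.comp cn.symm) (cj_le_iff_forall.2 (N1Mp.comp (N1Mp.clos ?_) (.norm (inv_mem hn.2))))
  rintro x (rfl | rfl | rfl | rfl)
  exacts [rg_cm ac.t (mul_mem tA uA), rg_cm ac.u (mul_mem uA zA), rg_cm (h.cz_sw ac.a ac.b) zA, rg_cm ac.a h.b_A2]

theorem n1_f2u {e f₁ f₂ ρ₁ ρ₂ : G} {β : Bool} (L : d.LN e f₁ f₂ ρ₁ ρ₂ true β) : Cj f₂ d.u d.u := by
  have := L.l2.fu.mul L.l2.fz
  change Cj f₂ (d.u * d.z * d.z) (d.u * d.z * d.z) at this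
  rwa [← h.u_sw] at this

theorem n1_y {e f₁ f₂ ρ₁ ρ₂ : G} {β : Bool} (L : d.LN e f₁ f₂ ρ₁ ρ₂ true β) :
    d.Ac (f₁ * (f₂ * f₁)) (d.t * (e * bp d.u β)) d.u (bp d.u β * d.b) (bp d.u β * d.a) ∧
      Cj (f₁ * (f₂ * f₁)) d.z d.z ∧ Cj (f₁ * (f₂ * f₁)) e e := by
  have fu := h.n1_f2u L
  have f1 := L.l1.fe.mul (L.l1.fu.bp β)
  have fe : Cj f₂ e e := by simpa using L.l2.fe.mul (fu.bp β).inv
  have ft : Cj f₂ d.t (d.t * d.b) := L.l2.ft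
  have fa : Cj f₂ d.a (e * bp d.u β * d.b * d.a) := L.l2.fb
  have fb : Cj f₂ d.b d.b := L.l2.fa
  have gb : Cj f₁ d.b (e * d.a * d.b) := L.l1.fb
  have ee : e * e = d.z := L.l1.ee
  have ea := L.l1.ac.a.comm
  have eb := L.l1.ac.b.comm
  have we : bp d.u β * e = e * bp d.u β := (L.l1.ac.u.bp β).comm.symm
  have wa : bp d.u β * d.a = d.a * bp d.u β := ((Cj.of_comm h.au).bp β).comm.symm
  have wb : bp d.u β * d.b = d.b * bp d.u β := ((Cj.of_comm h.bu).bp β).comm.symm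
  have wz : bp d.u β * d.z = d.z * bp d.u β := ((Cj.of_comm h.zu).bp β).comm.symm
  have f1w := L.l1.fu.bp β
  generalize bp d.u β = w at *
  have i1 : d.b * (e * w) * d.b = e * w := by
    rw [← mul_assoc, ← eb, mul_assoc e, ← wb, mul_assoc, mul_assoc, h.bb, mul_one]
  have i2 : d.a * (e * w) * d.a = e * w := by
    rw [← mul_assoc, ← ea, mul_assoc e, ← wa, mul_assoc, mul_assoc, h.aa, mul_one]
  have i3 : d.a * d.b * d.a = d.z * d.b := by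
    rw [h.ab, mul_assoc, h.za, ← mul_assoc, mul_assoc d.b, h.aa, mul_one, h.zb]
  have i4 : d.b * d.a * d.b = d.z * d.a := by
    rw [h.ba, mul_assoc, h.zb, ← mul_assoc, mul_assoc d.a, h.bb, mul_one, h.za]
  refine ⟨⟨?_, (L.l1.fu.comp fu).comp L.l1.fu, ?_, ?_⟩, (L.l1.fz.comp L.l2.fz).comp L.l1.fz,
    (L.l1.fe.comp fe).comp L.l1.fe⟩
  · refine (((L.l1.ft.comp (ft.mul fa)).to (show _ = d.t * (e * w) * d.a from ?_)).comp
      ((L.l1.ft.mul f1).mul L.l1.fa)).to ?_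
    · conv_rhs => rw [← i1]
      simp only [mul_assoc]
    · conv_rhs => rw [← i2]
      simp only [mul_assoc]
  · refine ((L.l1.fa.comp fa).comp ((f1.mul gb).mul L.l1.fa)).to ?_
    calc _ = e * (w * e) * (d.a * d.b * d.a) := by simp only [mul_assoc]
      _ = _ := by rw [we, ← mul_assoc e, ee, i3, ← wz, mul_assoc, ← mul_assoc d.z, h.zz, one_mul]
  · refine ((gb.comp ((fe.mul fa).mul fb)).to (show _ = w * d.a from ?_)).comp (f1w.mul L.l1.fa)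
    calc _ = e * e * w * (d.b * d.a * d.b) := by simp only [mul_assoc]
      _ = _ := by rw [ee, i4, ← wz, mul_assoc, ← mul_assoc d.z, h.zz, one_mul]

theorem n1_true {e f₁ f₂ ρ₁ ρ₂ : G} (L : d.LN e f₁ f₂ ρ₁ ρ₂ true true) : ∃ x ∈ 𝐍[d.A1], Cj x d.t (d.t * d.u) := by
  obtain ⟨ac, cz, -⟩ := h.n1_y L
  generalize f₁ * (f₂ * f₁) = y at *
  have fu := h.n1_f2u L
  have ft : Cj f₂ d.t (d.t * d.b) := L.l2.ft
  have fb : Cj f₂ d.b d.b := L.l2.fa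
  have eb : e * bp d.u true * d.b = d.b * (e * bp d.u true) := L.l2.ac.a.comm
  have c1 : Cj y (d.u * d.a) d.b := (ac.u.mul ac.a).to (by rw [bp_true, ← mul_assoc, h.uu, one_mul])
  have c2 : Cj (f₁⁻¹ * (y⁻¹ * (f₂ * y))) d.t (d.t * d.u) :=
    ((((ac.t.comp (ft.mul L.l2.fe)).to (by rw [mul_assoc, ← eb, ← mul_assoc])).comp (ac.t.mul c1).symm).to
      (by rw [← h.au, ← mul_assoc])).comp (L.l1.ft.mul L.l1.fu).symm
  exact ⟨_, h.A1_norm c2 (((ac.u.comp fu).comp ac.u.symm).comp L.l1.fu.symm)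
    (((cz.comp L.l2.fz).comp cz.symm).comp L.l1.fz.symm)
    (((ac.a.comp (fu.mul fb)).comp ac.a.symm).comp L.l1.fa.symm) h.u_A1 h.n1_zA h.a_A1, c2⟩

theorem n1_c0 (ε : d.Eps) {e f ρ : G} (L : d.Lay e f ρ true) {c₀ : G}
    (ac₀ : d.Ac c₀ (d.t * e * bp d.u true) (d.u * d.z) d.a d.b) (ce₀ : Cj c₀ e e) :
    ∃ x ∈ 𝐍[d.A1], Cj x d.t (d.t * d.u) := by
  obtain ⟨c, T, i, -, -, -, -, -, ac, ce, cf, -⟩ := h.n1_lift ε L ac₀ ce₀
  obtain ⟨φ, H⟩ := h.lay_hom L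
  have cz := h.cz' ac.a ac.b
  have i2 : d.t * e * d.u * (f * bp d.z i) * (d.u * d.z) = d.t * (e * f) * bp d.z (!i) := by
    simpa only [map_mul, n1_map_bp, H.z, H.a, H.u, H.e, H.t, H.f] using congrArg φ (c2 i)
  have i3 : d.t * e * d.u * (d.u * d.z) = d.t * (f * (e * f)⁻¹) := by
    simpa only [map_mul, map_inv, H.z, H.a, H.u, H.e, H.t, H.f] using congrArg φ c3
  have c1 : Cj (c⁻¹ * (ρ * (c * (ρ * c)))) d.t (d.t * d.u * bp d.a (!i)) :=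
    (((((ac.t.comp ((L.pt.mul L.pe).mul L.pu)).comp ((ac.t.mul cf).mul ac.u)).to i2).comp
      ((L.pt.mul (L.pe.mul L.pf)).mul (L.pz.bp _))).to (by rw [← i3]; rfl)).comp
      ((ac.t.mul ac.u).mul (ac.a.bp _)).symm
  obtain ⟨m, -, cm, hm⟩ := h.n1_adjV L (H := ⊤) trivial trivial
    (bp_mem (show d.a ∈ d.V1 from subset_closure (by simp)) (!i))
  have c2 := (c1.to (by rw [mul_assoc, ← ((Cj.of_comm h.au.symm).bp (!i)).comm.symm.symm.symm, ← mul_assoc])).comp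
    (hm.mul (Cj.of_cent cm h.n1_uU)).symm
  have nc := h.n1_nU ac.u cz ac.a (mul_mem h.n1_uU h.n1_zU) h.n1_zU h.n1_aU
  have nr := h.n1_rU L
  exact ⟨_, h.n1_nA (mul_mem (inv_mem (centralizer_le_normalizer' _ cm))
    (mul_mem (inv_mem nc) (mul_mem nr (mul_mem nc (mul_mem nr nc))))) c2 h.n1_uU, c2⟩

theorem n1_caseA (e1 : d.E1) (nt : ¬ d.T (d.t * d.u * d.z)) {e f₁ f₂ ρ₁ ρ₂ y : G} (L₁ : d.Lay e f₁ ρ₁ true)
    (L₂ : d.sw.Lay e f₂ ρ₂ true) (yt : Cj y d.t (d.t * e)) (yu : Cj y d.u d.u) (yz : Cj y d.z d.z)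
    (ya : Cj y d.a d.b) : False := by
  obtain ⟨φ, H⟩ := h.lay_hom L₁
  obtain ⟨ψ, J⟩ := h.sw.lay_hom L₂
  have zV : d.z ∈ d.V1 := subset_closure (by simp)
  have aV : d.a ∈ d.V1 := subset_closure (by simp)
  let p : G → Prop := fun g => Cj g d.u d.u ∧ Cj g d.z d.z ∧ Cj g d.a d.a ∧ N1St d.V1 g d.t
  let F : Subgroup G := n1Sub p ⟨Cj.one' _, Cj.one' _, Cj.one' _, .of (Cj.one' _)⟩ fun g k a b =>
    ⟨b.1.comp a.1, b.2.1.comp a.2.1, b.2.2.1.comp a.2.2.1, a.2.2.2.mul (centralizer_le_normalizer' _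
      (mem_cent_closure (by simp [a.2.1, a.2.2.1]))) b.2.2.2⟩
  have AQ : d.A1 ≤ φ.range := (closure_le _).2 (by
    rintro x (rfl | rfl | rfl | rfl)
    exacts [⟨_, H.t⟩, ⟨_, H.u⟩, ⟨_, H.z⟩, ⟨_, H.a⟩])
  have adj : ∀ g ∈ F, ∃ m ∈ φ.range, m⁻¹ * g ∈ 𝐂[d.A1] := fun g (a : p g) => by
    obtain ⟨v, hv, c⟩ := a.2.2.2
    obtain ⟨m, mQ, cm, hm⟩ := h.n1_adjV L₁ (H := φ.range) ⟨_, H.e⟩ ⟨_, H.f⟩ hv
    refine ⟨m, mQ, mem_cent_closure ?_⟩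
    rintro x (rfl | rfl | rfl | rfl)
    exacts [c.comp hm.symm, a.1.comp (Cj.of_cent cm h.n1_uU).symm, a.2.1.comp (Cj.of_cent cm h.n1_zU).symm,
      a.2.2.1.comp (Cj.of_cent cm h.n1_aU).symm]
  have syl : IsSyl 2 φ.range F := by
    refine ⟨?_, (pgrp N1Q.hc).of_equiv (MonoidHom.ofInjective H.inj), fun R hR h1 h2 r hr => ?_⟩
    · rintro _ ⟨x, rfl⟩
      obtain ⟨a1, a2, a3, -⟩ := qt x
      exact (⟨H.u ▸ Pc.map_cj φ (Cj.of_comm (uc x).symm), H.z ▸ Pc.map_cj φ (Cj.of_comm a1),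
        H.a ▸ Pc.map_cj φ (Cj.of_comm a2), _, mskV (H.z ▸ zV) (H.a ▸ aV) a3, by
          rw [← H.t, ← map_mul, mul_inv_cancel_left]; exact Pc.map_cj φ rfl⟩ : p _)
    · obtain ⟨m, mQ, cm⟩ := adj r (h2 hr)
      exact (mul_mem_cancel_left (inv_mem mQ)).1 (AQ ((h.sylA1 (Or.inl e1)).max (R ⊓ 𝐂[d.A1]) (hR.to_le inf_le_left)
        (le_inf (AQ.trans h1) h.A1_cen) inf_le_right (mem_inf.2 ⟨mul_mem (inv_mem (h1 mQ)) hr, cm⟩)))
  have Jz : ψ gz = d.z := J.z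
  have Jb : ψ gb = d.b := J.a
  have Ju : ψ gu = d.u * d.z := J.u
  have Jt : ψ gt = d.t := J.t
  have QF : cj(y⁻¹, ψ.range) ≤ F := cj_le_iff_forall.2 (by
    rintro _ ⟨x, rfl⟩
    obtain ⟨a1, a2, -, a3⟩ := qt x
    have b1 : Cj (ψ x) d.z d.z := Jz ▸ Pc.map_cj ψ (Cj.of_comm a1)
    have b2 : Cj (ψ x) d.b d.b := Jb ▸ Pc.map_cj ψ (Cj.of_comm a2)
    have b3 : Cj (ψ x) d.u d.u := by
      have := (Pc.map_cj ψ (Cj.of_comm (uc x).symm)).mul b1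
      rwa [Ju, ← h.u_sw] at this
    have b4 : Cj (ψ x) (d.t * e) (d.t * e * ψ ((gt * ge)⁻¹ * (x * (gt * ge) * x⁻¹))) := by
      rw [← Jt, ← J.e, ← map_mul, ← map_mul, mul_inv_cancel_left]; exact Pc.map_cj ψ rfl
    rw [inv_inv, mul_assoc]
    exact (⟨(yu.comp b3).comp yu.symm, (yz.comp b1).comp yz.symm, (ya.comp b2).comp ya.symm, _,
      mskV (H := d.V1.comap (MulAut.conj y⁻¹).toMonoidHom) (Jz ▸ rg_cm yz.symm zV) (Jb ▸ rg_cm ya.symm aV) a3,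
      (yt.comp b4).comp (yt.symm.mul rfl)⟩ : p _))
  obtain ⟨o, ho, l⟩ := syl.exists_cj_le (isPGroup_cj _ ((pgrp N1Q.hc).of_equiv (MonoidHom.ofInjective J.inj))) QF
  obtain ⟨m, mQ, cm⟩ := adj o ho
  have hY : N1Mp (m⁻¹ * (o * y⁻¹)) ψ.range φ.range :=
    .comp (cj_le_iff_forall.1 (cj_mul o y⁻¹ _ ▸ l)) (.norm (le_normalizer (inv_mem mQ)))
  have tr : ∀ {x x'}, x ∈ d.A1 → Cj y x x' → Cj (m⁻¹ * (o * y⁻¹)) x' x := fun a b =>
    mul_assoc m⁻¹ o y⁻¹ ▸ b.symm.comp (Cj.of_cent cm a)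
  have ct := tr h.t_A1 yt
  have cu := tr h.u_A1 yu
  have cz := tr h.n1_zA yz
  have ca := tr h.a_A1 ya
  generalize m⁻¹ * (o * y⁻¹) = c at *
  have U21 : N1Mp c d.U2 d.U1 := .clos (by
    rintro x (rfl | rfl | rfl)
    exacts [rg_cm cu h.n1_uU, rg_cm cz h.n1_zU, rg_cm ca h.n1_aU])
  have U12 : N1Mp c⁻¹ d.U1 d.U2 := .clos (by
    rintro x (rfl | rfl | rfl)
    exacts [rg_cm cu.symm (subset_closure (by simp)), rg_cm cz.symm (subset_closure (by simp)),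
      rg_cm ca.symm (subset_closure (by simp))])
  obtain ⟨s, hs⟩ := hY _ ⟨gt, rfl⟩
  obtain ⟨q, hq⟩ := hY _ ⟨gt * gf, rfl⟩
  have cs : Cj c (ψ gt) (φ s) := hs.symm
  have cq : Cj c (ψ (gt * gf)) (φ q) := hq.symm
  have ct' : Cj c (ψ (gt * ge)) (φ gt) := by rwa [map_mul, Jt, J.e, H.t]
  have mu : ∀ {x x' s s' : N1Q.K}, Cj c (ψ x) (φ s) → Cj c (ψ x') (φ s') → Cj c (ψ (x * x')) (φ (s * s')) :=
    fun a b => by rw [map_mul, map_mul]; exact a.mul b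
  have c1 : Cj c (ψ 1) (φ 1) := by rw [map_one, map_one]; exact Cj.one c
  have tw := two s ((n1_tr H.inj (mu cs cs) c1).2 (congrArg ψ (BD.of (by decide +kernel))))
    (fun k => nc1 (J.inj ((n1_tr H.inj (mu cs ct') (mu ct' cs)).1 k))) q
    ((n1_tr H.inj (mu cq cq) c1).2 (congrArg ψ tf2))
    (fun k => nc2 (J.inj ((n1_tr H.inj (mu cq ct') (mu ct' cq)).1 k)))
  obtain ⟨σ, nσ, v, hv, cσ⟩ : ∃ σ ∈ 𝐍[d.U1], ∃ v ∈ d.U1, Cj σ (φ q) (φ s * v) := by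
    have mk : ∀ {x}, Msk 56 x → φ x ∈ d.U1 := mskU (H.z ▸ h.n1_zU) (H.a ▸ h.n1_aU) (H.u ▸ h.n1_uU)
    have nr := h.n1_rU L₁
    rcases tw with k | k | k
    · exact ⟨1, one_mem _, _, mk k, (Cj.one' _).to (by rw [← map_mul, mul_inv_cancel_left])⟩
    · exact ⟨ρ₁, nr, _, mk k, (H.r _).to (by rw [← map_mul, mul_inv_cancel_left])⟩
    · exact ⟨ρ₁ * ρ₁, mul_mem nr nr, _, mk k, ((H.r _).comp (H.r _)).to (by rw [← map_mul, mul_inv_cancel_left])⟩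
  have cρ : Cj ρ₂ (d.t * e) (ψ (gt * gf)) := by rw [map_mul, Jt, J.f]; exact L₂.pt.mul L₂.pe
  have cn := (((ct.symm.comp cρ).comp cq).comp cσ).comp (cs.symm.mul rfl)
  have mn : N1Mp (c⁻¹ * (σ * (c * (ρ₂ * c⁻¹)))) d.U1 d.U2 :=
    (((U12.comp (.norm (h.sw_U1 ▸ h.sw.n1_rU L₂))).comp U21).comp (.norm nσ)).comp U12
  rw [Jt] at cn
  obtain ⟨m', cm', k⟩ := h.sw.n1_adj L₂ (h.sw_U1 ▸ U12 v hv)
  rcases k with k | k
  · have k1 := cn.comp k.symm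
    have k2 := mn.comp (.norm (inv_mem (centralizer_le_normalizer' _ (h.sw_U1 ▸ cm'))))
    have UA : d.U2 ≤ d.A2 := h.sw_U1 ▸ h.sw_A1 ▸ h.sw.n1_UA
    refine h.noswap e1 k1 (cj_le_iff_forall.2 (N1Mp.clos ?_))
    rintro x (rfl | rfl | rfl | rfl)
    exacts [rg_cm k1 (subset_closure (Or.inl rfl)), UA (k2 _ h.n1_uU), UA (k2 _ h.n1_zU), UA (k2 _ h.n1_aU)]
  · exact nt (mul_assoc d.t d.u d.z ▸ (d.T_t.cj cn).cj' k)

/-- `S₁ = S₀⟨e⟩` (order 64, `Z(S₁) = U`) is normalized by `f₁, f₂, w, g`.  For `c₀ = w f₁ f₂ f₁` resp. `f₁ f₂ f₁ g⁻¹` (`β = 0`), `two_lift` for the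
normalizer of the flag `⟨z⟩ < U < U⟨e⟩ < U⟨e,b⟩ < U⟨e,b,t⟩ < S₁` (`odd_flag`) gives `c` acting on `S₁` as `c₀` with `⟨S₁, f₂, c⟩` a 2-group; then
2-elements of it centralizing `S₁` lie in `U` (`regZ`).

Proof of `caseN1`.  `M₂ = ⟨e₂, f₂⟩ ≅ 4 × 4` inverted by `t`, `Q₂ = ⟨u⟩ × M₂⟨t⟩` (order 64, `Z(Q₂) = U₂ = ⟨u,z,b⟩`), its four
`E₁₆` are `U₂⟨t m⟩`; same for side 1.  `y = f₁ f₂ f₁` maps `t ↦ t e₂`, `u ↦ u`, `z ↦ z`, `a ↦ u^β b`, so `A₁ ↦ A₂' = U₂⟨t e⟩`.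
* `β = 1`: `x = f₁⁻¹ y⁻¹ f₂ y ∈ N(A₁)` maps `t ↦ t u`.  In (a), (a') `t u ∉ T`.  In (c0) `fuseA1` gives `n ∈ N⁺`,
`t ↦ t u`, and `g⁻¹ n` contradicts `noswap`.  So `β = 0`.
* (a): `y Q₁ y⁻¹` and `Q₂` are Sylow (order 64, `sylA1` transported) in the group `F'` of translations of `A₂'` by `V₂`; they are
conjugate by `o' ∈ C(A₂')` (`two_join`).  With `y' = o' y`, `ρ' = y' ρ₁ y'⁻¹` normalizes `Q₂`, acts fixed point freely on `Q₂/A₂'`, so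
`n = ρ'^i ρ₂^j` maps `A₂'` to `A₂`.  `n y' : A₁ ↦ A₂`, `t ↦ T ∩ A₂ = t V₂`; adjusting by `M₂`, `noswap` is contradicted.
* (c0): `c` (from `f₁ f₂ f₁ g⁻¹`) normalizes `S₁, Q₂`: `t ↦ t e u z`, `u ↦ u z`, fixes `a, b, e`, `f₂ ↦ f₂ ζ`, `ζ ∈ Z(S₁) = U`.
`c²` centralizes `S₁`, lies in `U`, so fixes `f₂`: `ζ c(ζ) = 1`, `ζ ∈ ⟨z⟩`.  Then modulo `V₂`: `t ~ t e u ~ t f u` (`ρ₂`) `~ t e f` (`c`)
`~ t e` (`ρ₂`) `~ t u` (`c⁻¹`) in `N(Q₂) ≤ N(U₂)`, so an element of `N(A₂)` maps `t` to `t u`; `fuseA2`, `noswap` as before.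
* (a'): `k := c` (from `w f₁ f₂ f₁`): `t ↦ t e`, `u ↦ u z`, fixes `a, b, e`; `f ↦ f z^φ` (`f = f₂`, as above), `k² = e z^i`.
`F = Q₂⟨k, ρ₂ k ρ₂⁻¹⟩ C(Q₂)` (= elements of `N(Q₂)` acting trivially on `V₂`, `U₂/V₂`, `M₂U₂/U₂`…; define it as you like, e.g. as the set
of `g` acting on `Q₂` as an element of the table group), `R = Q₂⟨a, k⟩`; `LQ` (`sylQ2`, `v = a`, `r = ρ₂`) gives `K ∋ k`, `ρ ≡ ρ₂` on `Q₂`.
`l = ρ k ρ⁻¹`, `l' = ρ l ρ⁻¹ = a l a`, `m = k l l'` acts on `Q₂` as `(t f)^φ`, so `m ∈ (t f)^φ U₂`; `ρ m ρ⁻¹ = k⁻¹ m k` leaves two values and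
`k ↦ k u z` exchanges them: `m = (t f z)^φ`.  `a m a = k l' l` then determines `l k l⁻¹`.  `T = K⟨a⟩` has order 512, pc gens
`z b u e f t k l a` (4 tables `φ`, sign of `k²`; script `tools/hsd_n1.py`).  In all four: `U₂` is the only normal `E₈`
(its elements are the involutions with class size `≤ 4`), `C_T(U₂) = Q₂`, `T ∩ Q₂ = t M₂` is one `T`-class.  So if `x ∈ N(T)` is a
2-element, then `x p` fixes `t` for some `p ∈ T`, normalizes `A₂ = U₂⟨t⟩`, lies in `S₀` (`reg2`): `T` is Sylow in `G`.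
`thompson` for `u` with `M` = the index 2 subgroup `[K,ρ]⟨a, t⟩ ∌ u`, `R = C_T(u)` (order 128): the involutions of `M` with
centralizer `≥ 128` are `z, b, b z`; after conjugating by `ρ` (`C_T(b) = K`) `u ↦ z` and `M₂ ≤ R` goes to a `4 × 4` in `T`
not having `z` as a square; by the table every `4 × 4` of `T` has `z` among its squares.  So `u ∉ X`, and `early`. -/
theorem caseN1 (nt : d.NT) {e f₁ f₂ ρ₁ ρ₂ : G} {β : Bool} (L : d.LN e f₁ f₂ ρ₁ ρ₂ true β)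
    (sy : d.SymN e f₁ f₂ β) : Bd G := by
  cases β
  · obtain ⟨ac, cz, ce⟩ := h.n1_y L
    have L2 : d.sw.Lay e f₂ ρ₂ true := by simpa using L.l2
    generalize f₁ * (f₂ * f₁) = y at *
    simp only [bp_false, mul_one, one_mul] at ac sy
    rcases sy with ⟨e1, -, k⟩ | ⟨k, w, hw, we, -⟩ | ⟨e1, g, gc, ge, -⟩
    · exact (h.n1_caseA e1 k L.l1 L2 ac.t ac.u cz ac.a).elim
    · have ε : d.Eps := Or.inr ⟨w, hw.to'⟩
      have we' : Cj w e e := by simpa using we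
      exact h.sw.n1_caseK (h.sw_eps ε) (fun a => k (T.cj' (g := e) a ((L.l1.ac.t.mul L.l1.ac.u).to
        (by rw [mul_assoc, h.zu]; rfl)))) L2 (k₀ := w * y)
        ⟨(ac.t.comp ((h.wt hw.mem).mul we')).to (mul_one _).symm,
          (ac.u.mul cz).comp (hw.u.mul (h.cz_sw hw.a hw.b)), ac.b.comp hw.a, ac.a.comp hw.b⟩ (ce.comp we')
    · have ge' : Cj g e e := by simpa using ge
      obtain ⟨x, hx, c⟩ := h.n1_c0 (Or.inl e1) L.l1 (c₀ := y * g)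
        ⟨gc.t.comp (ac.t.mul ac.u), gc.u.comp (ac.u.mul cz), gc.a.comp ac.b, gc.b.comp ac.a⟩ (ge'.comp ce)
      exact (h.n1_kill e1 gc hx c).elim
  · obtain ⟨x, hx, c⟩ := h.n1_true L
    rcases sy with ⟨-, k, -⟩ | ⟨k, -⟩ | ⟨e1, g, gc, -⟩
    exacts [(k (d.T_t.cj c)).elim, (k (d.T_t.cj c)).elim, (h.n1_kill e1 gc hx c).elim]

end Dat.Cfq

end Cfsg.Agent.HSE
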