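import Mathlib
import Cfsg.Agent.Comp.Basic

/-! The finite part of `HSD/Types`: partial automorphisms of `S₀ = 2² × D₈` on the codes
`t = 1, u = 2, a = 4, b = 8, z = 16` (`32` = undefined), and a checked case tree. -/

set_option autoImplicit false

namespace Cfsg.Agent.HSE.Ty

open Cfsg.Agent.Comp

noncomputable section

def mu (x y : ℕ) : ℕ := force x fun x => force y fun y =>
  Nat.xor (Nat.xor x y) (cond (tb x 3 && tb y 2) 16 0)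

def cd (i j k l m : Bool) : ℕ :=
  Nat.add (Nat.add (Nat.add (Nat.add (cond i 1 0) (cond j 2 0)) (cond k 4 0)) (cond l 8 0)) (cond m 16 0)

/-- a partial map: defined on `a`, defined on `b`, the images of `t, u, a, b, z` -/
structure Pm where
  (da db : Bool) (c0 c1 c2 c3 c4 : ℕ)

def Pm.ap (c : Pm) (v : ℕ) : ℕ := force v fun v =>
  cond (Nat.blt v 32 && (c.da || !tb v 2) && (c.db || !tb v 3))
    (mu (mu (mu (mu (cond (tb v 0) c.c0 0) (cond (tb v 1) c.c1 0)) (cond (tb v 2) c.c2 0))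
      (cond (tb v 3) c.c3 0)) (cond (tb v 4) c.c4 0)) 32

abbrev N4 := ℕ × ℕ × ℕ × ℕ

def tot (c : N4) : Pm := ⟨true, true, c.1, c.2.1, c.2.2.1, c.2.2.2, 16⟩

def ev (K : List Pm) (w : List ℕ) (v : ℕ) : ℕ :=
  List.rec (motive := fun _ => ℕ) v (fun i _ x => (getL (tot (1, 2, 4, 8)) K i).ap x) w

def base : List Pm := [tot (1, 2, 20, 8), tot (1, 2, 4, 24), ⟨false, true, 1, 26, 0, 24, 8⟩,
  ⟨true, false, 1, 2, 20, 0, 4⟩]

def mem (x : ℕ) (l : List ℕ) : Bool := anyL l fun y => Nat.beq x y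
def nb (i x : ℕ) : Bool := force x fun x => Nat.blt x 32 && !tb x i
def nv (i x : ℕ) : Bool := force x fun x => !tb x 0 && !tb x 1 && !tb x i

def bad (e1 : Bool) (No : List ℕ) (f : ℕ → ℕ) : Bool :=
  (Nat.blt (f 1) 32 && mem (f 1) No) || (anyL [1, 2, 3, 17, 18, 19] fun v => Nat.beq (f v) 0) ||
  (Nat.beq (f 1) 1 &&
    ((nb 3 (f 2) && nb 3 (f 16) && nb 3 (f 4) && !(Nat.beq (f 2) 2 && nv 3 (f 16) && nv 3 (f 4))) ||
    (nb 2 (f 2) && nb 2 (f 16) && nb 2 (f 8) && Nat.blt (f 18) 32 &&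
      !(Nat.beq (f 18) 18 && nv 2 (f 16) && nv 2 (f 8))) ||
    (e1 && nb 2 (f 2) && nb 2 (f 16) && nb 2 (f 4))))

def Lp : List N4 := [(1, 2, 4, 8), (2, 1, 4, 8), (2, 1, 4, 11), (3, 2, 4, 8), (3, 2, 4, 10),
  (17, 2, 4, 8), (17, 2, 4, 10), (17, 2, 6, 8), (17, 2, 6, 10), (17, 18, 4, 8), (17, 18, 4, 11),
  (17, 18, 7, 8), (17, 18, 7, 11), (18, 17, 4, 8), (18, 17, 7, 8), (19, 2, 4, 8), (19, 2, 6, 8)]
def Ls : List N4 := [(2, 17, 8, 4), (3, 18, 8, 4), (17, 2, 11, 7), (17, 18, 10, 6), (18, 1, 8, 4),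
  (19, 18, 8, 4)]
def Wd (s : Bool) : List (List ℕ) := cond s
  [[0],[0,0,0],[0,0],[0,0,0,4,0],[0,0,0,3,0],[0,0,0,4,0,0,4,0,0,4,4,0],[0,4,0,3,0],[0,4,0,3,0,4,0],
    [0,0,3,0,0,3,3,0],[0,4,0,3,0,4,4,0],[0,0,0,4,0,0,4,0,0],[0,0,0,3,0,0,3,0,0,3,3,0],
    [0,0,0,3,0,0,2,3,0,0,3,0]]
  [[0],[0,0],[0,0,4,0],[0,0,3,0],[0,0,0,4,0],[0,0,0,3,0],[0,4,0,4,0,4,4,0],[0,3,0,3,0,3,3,0],
    [0,3,0,2,3,0,3,0],[0,3,0,3,3,0],[0,4,0,4,4,0],[0,4,0,4,0,0],[0,0,3,0,3,3,0],[0,3,0,3,3,0,0],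
    [0,3,0,0,3,3,0],[0,0,4,0,4,4,0],[0,4,0,0,4,4,0]]

def cnd (s i j m i' j' m' p q p' q' : Bool) : N4 :=
  (cd i j false false m, cd i' j' false false m', cd p q (!s) s false, cd p' q' s (!s) false)

theorem surv : ∀ s i j m i' j' m' p q p' q' : Bool,
    (anyL (Wd s) fun w => bad s [] (ev (tot (cnd s i j m i' j' m' p q p' q') :: base) w)) = true ∨
      cnd s i j m i' j' m' p q p' q' ∈ cond s Ls Lp := by
  decide +kernel

def isAc (f : ℕ → ℕ) (u a b x0 x1 x2 x3 : ℕ) : Bool :=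
  Nat.beq (f 1) x0 && Nat.beq (f u) x1 && Nat.beq (f a) x2 && Nat.beq (f b) x3 &&
    Nat.blt x0 32 && Nat.blt x1 32 && Nat.blt x2 32 && Nat.blt x3 32

def dn (e1 : Bool) (No : List ℕ) (u a b : ℕ) (f g : ℕ → ℕ) : ℕ → Bool
  | 0 => e1 && Nat.beq (f 1) u && Nat.blt u 32 && mem 16 No && mem (mu 1 16) No &&
      mem (mu u 16) No && mem (mu 1 u) No && mem (mu (mu 1 u) 16) No
  | k + 1 => mem 16 No && mem u No && mem (mu u 16) No && match k with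
    | 0 => isAc f u a b (mu 1 16) u a b && mem (mu 1 u) No && mem (mu (mu 1 u) 16) No
    | 1 => isAc f u a b (mu 1 16) u a b && e1 && isAc g u a b (mu 1 u) (mu u 16) b a
    | 2 => isAc f u a b (mu 1 16) u a b && isAc g u a b (mu 1 u) u a b
    | 3 => isAc f u a b (mu (mu 1 u) 16) u (mu a u) b && isAc g u a b (mu 1 u) u a (mu b u)
    | _ => isAc f u a b (mu (mu 1 u) 16) u (mu a u) b && isAc g u a b (mu 1 u) u a b && e1

def fr : ℕ → ℕ × ℕ × ℕ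
  | 0 => (2, 4, 8)
  | 1 => (3, 4, 8)
  | 2 => (18, 8, 4)
  | _ => (19, 8, 4)

inductive Tr
  | bad (w : List ℕ)
  | non
  | done (k f : ℕ) (w w' : List ℕ)
  | split (y : ℕ) (no yes : Tr)
  | nil
  | cons (s r : Tr)

def Tr.cb (w : List ℕ) (r : Tr) : Tr := .cons (.bad w) r

def cands (e1 : Bool) (y : ℕ) : List N4 := (Lp ++ cond e1 Ls []).filter fun c => Nat.beq c.1 y

def chk (e1 ok : Bool) : Tr → List Pm → List ℕ → Option (List N4) → Bool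
  | .bad w, K, No, _ => bad e1 No (ev K w)
  | .non, _, No, _ => allL [0, 2, 3, 16, 17, 18, 19] fun y => mem y No
  | .done k f w w', K, No, _ => ok && dn e1 No (fr f).1 (fr f).2.1 (fr f).2.2 (ev K w) (ev K w') k
  | .split y s r, K, No, _ => nb 2 y && nb 3 y && chk e1 ok s K (y :: No) none &&
      chk e1 ok r K No (some (cands e1 y))
  | .nil, _, _, some [] => true
  | .cons s r, K, No, some (c :: L) => chk e1 ok s (tot c :: K) No none && chk e1 ok r K No (some L)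
  | _, _, _, _ => false

def tr0 : Tr :=
  .split 0 (.split 16 (.split 2 (.split 18 (.split 3 (.split 17 (.split 19 .non <| .cb [4,0,4,0]
  <| .cons (.done 0 3 [0] []) <| .cb [0,0] <| .nil) <| .cons (.split 19 (.done 1 0 [0] []) <| .cb
  [0,1] <| .cb [0,1] <| .cb [0,1] <| .nil) <| .cb [3,0,3,3,0] <| .cb [0,4,0,4,0] <| .cb
  [0,4,0,4,0] <| .cons (.split 19 (.done 1 1 [0] []) <| .cb [0,1] <| .cb [0,1] <| .cb [0,1] <|
  .nil) <| .cb [3,0,3,3,0] <| .cb [4,0,4,0] <| .cb [4,0,4,0] <| .cb [4,0,3,0] <| .cb [3,0,4,4,0]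
  <| .nil) <| .cons (.split 19 (.bad [0,3,0,3,0]) <| .cons (.done 3 0 [0,1] [1]) <| .cons (.done 5
  0 [0] [1]) <| .cb [0,1] <| .nil) <| .cons (.split 17 (.split 19 (.done 0 1 [0] []) <| .cb [0,1]
  <| .cb [0,1] <| .cb [0,1] <| .nil) <| .cb [1,4,0,4,1] <| .cons (.done 5 2 [1,3] [0,1]) <| .cb
  [1,4,0,4,1] <| .cons (.done 4 0 [0,1] [1]) <| .cb [1,0,1] <| .cb [1,0,1] <| .cb [1,0,1] <| .cb
  [1,0,1] <| .cb [5,0,4,0] <| .cb [1,0,1] <| .nil) <| .cons (.done 2 0 [0,0] [0]) <| .nil) <| .cb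
  [0,4,0,4,0] <| .cons (.split 3 (.split 17 (.split 19 (.done 0 2 [0] []) <| .cb [1,0,1] <| .cb
  [1,0,1] <| .cb [0,1] <| .nil) <| .cb [1,0] <| .cb [1,0] <| .cb [1,0] <| .cb [1,0] <| .cb [0,1]
  <| .cb [0,1] <| .cb [0,1] <| .cb [0,1] <| .cb [1,0] <| .cb [0,1] <| .nil) <| .cb [1,0,1] <| .cb
  [1,0,1] <| .cb [0,1] <| .nil) <| .cb [0,0,0] <| .nil) <| .cons (.split 3 (.split 19 (.split 18
  (.bad [0,3,0,3,0]) <| .cons (.done 3 1 [0,1] [1]) <| .cons (.done 5 1 [0] [1]) <| .cb [0,1] <|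
  .nil) <| .cb [1,0,1] <| .cb [1,0,1] <| .cb [0,0,0] <| .nil) <| .cb [1,0,1] <| .cb [1,0,1] <| .cb
  [1,0,0,1] <| .nil) <| .cons (.split 3 (.split 19 (.split 17 (.split 18 (.done 0 0 [0] []) <| .cb
  [0,1] <| .cb [0,1] <| .cb [0,1] <| .nil) <| .cb [1,0,1] <| .cb [1,0,1] <| .cb [1,0,1] <| .cb
  [1,0,1] <| .cb [1,4,0,4,1] <| .cons (.done 5 3 [1,3] [0,1]) <| .cb [1,4,0,4,1] <| .cons (.done 4
  1 [0,1] [1]) <| .cb [1,0,1] <| .cb [5,0,4,0] <| .nil) <| .cb [1,0,1] <| .cb [1,0,1] <| .cb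
  [0,0,0] <| .nil) <| .cb [1,0,1] <| .cb [1,0,1] <| .cb [1,0,0,1] <| .nil) <| .cons (.split 3
  (.split 19 (.done 2 1 [0,0] [0]) <| .cb [1,0] <| .cb [1,0] <| .cb [1,0] <| .nil) <| .cb
  [0,1,1,0] <| .cb [4,0,4,1] <| .cb [1,0,1] <| .nil) <| .nil) <| .nil) <| .nil

def tr1 : Tr :=
  .split 0 (.split 16 (.split 2 (.split 18 (.split 3 (.split 19 (.split 17 .non <| .cons (.done 1
  0 [0] []) <| .cb [0,1,0,1] <| .cb [0,1,0,1] <| .cb [5,0,5,0] <| .cons (.done 1 1 [0] []) <| .cb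
  [0,1,0,1] <| .cb [0,1,0,1] <| .cb [5,0,5,0] <| .nil) <| .cb [1,0] <| .cb [1,0] <| .nil) <| .cons
  (.done 3 0 [0,1,0,1] [0]) <| .cons (.done 4 0 [1,0,1,2] [0]) <| .nil) <| .cb [1,0] <| .cb [1,0]
  <| .nil) <| .cons (.split 3 (.split 19 (.done 3 1 [0,1,0,1] [0]) <| .cb [2,0] <| .cb [2,0] <|
  .nil) <| .cb [1,0,1] <| .cb [1,0,1] <| .nil) <| .cons (.split 3 (.split 19 (.done 4 1 [1,0,1,2]
  [0]) <| .cb [2,0] <| .cb [2,0] <| .nil) <| .cb [1,0,1] <| .cb [1,0,1] <| .nil) <| .nil) <| .nil)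
  <| .nil

def tr2 : Tr :=
  .split 0 (.split 16 (.split 2 (.split 3 (.split 17 (.split 18 (.split 19 .non <| .cb [1,0] <|
  .cb [1,0] <| .nil) <| .cb [1,0] <| .cb [1,0] <| .nil) <| .cb [0,1,0,1] <| .cb [0,1,0,1] <| .cb
  [0,1,0,1] <| .cb [0,1,0,1] <| .cb [0,1,0,1] <| .cb [0,1,0,1] <| .cb [0,1,0,1] <| .cb [0,1,0,1]
  <| .nil) <| .cb [0,1,0,1,0] <| .cb [0,1,0,1,0] <| .nil) <| .cb [0,1,0,1,0] <| .cb [0,1,0,1,0] <|
  .nil) <| .nil) <| .nil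

theorem chk0 : chk true true tr0 base [] none = true := by decide +kernel
theorem chk1 : chk false true tr1 (tot (1, 18, 8, 4) :: base) [] none = true := by decide +kernel
theorem chk2 : chk false false tr2 (tot (1, 19, 8, 4) :: base) [] none = true := by decide +kernel

theorem bits : ∀ x < 32, cd (tb x 0) (tb x 1) (tb x 2) (tb x 3) (tb x 4) = x := by decide +kernel

theorem cd_lt : ∀ i j k l m : Bool, cd i j k l m < 32 := by decide +kernel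

theorem mem_iff {x : ℕ} {l : List ℕ} : mem x l = true ↔ x ∈ l := by simp [mem, anyL_iff]

end

end Cfsg.Agent.HSE.Ty
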