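import Cfsg.Agent.HSE.I1Tab

/-! Type (I, I), `4 × 4 × 4` layers: the groups `Q = E⟨t⟩` and `S₁`. -/

set_option autoImplicit false
set_option linter.unusedSectionVars false
set_option linter.unusedVariables false
set_option maxRecDepth 100000

namespace Cfsg.Agent.HSE.I1

open Cfsg Subgroup Cfsg.Agent.PLocal Cfsg.Agent.PLocal.Amb Cfsg.Agent.MacW
open Cfsg.Agent.Comp Cfsg.Agent.X32 Pc

variable {G : Type*} [Group G] [Finite G]

theorem exists_aut {K : Type*} [Group K] {φ : K →* G} (hφ : Function.Injective φ) {g : G}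
    (hg : g ∈ 𝐍[φ.range]) : ∃ σ : K →* K, ∀ k, Cj g (φ k) (φ (σ k)) := by
  choose σ hσ using fun k : K => (conj_mem_of_mem_normalizer hg ⟨k, rfl⟩ : g * φ k * g⁻¹ ∈ φ.range)
  exact ⟨MonoidHom.mk' σ fun a b => hφ (by rw [map_mul, hσ, hσ, hσ, map_mul]; group),
    fun k => (hσ k).symm⟩

theorem norm_range {K : Type*} [Group K] {φ : K →* G} {g : G}
    (h : ∀ k, ∃ k', Cj g (φ k) (φ k')) : g ∈ 𝐍[φ.range] :=
  mem_normalizer_fintype (by
    rintro _ ⟨k, rfl⟩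
    obtain ⟨k', e⟩ := h k
    exact ⟨k', Eq.symm e⟩)

section
variable {T : Tab} [Fact T.OK]

theorem mem_of_gen (φ : TG T →* G) (p : TG T → Prop) (gs : List (TG T))
    (hcl : ∀ k, p k → k = 1 ∨ ∃ s ∈ gs, p (s * k) ∧ (s * k).v < k.v) {H : Subgroup G}
    (hH : ∀ s ∈ gs, φ s ∈ H) (k : TG T) (hk : p k) : φ k ∈ H := by
  induction hn : k.v using Nat.strong_induction_on generalizing k with
  | _ n ih =>
    rcases hcl k hk with rfl | ⟨s, hs, a, b⟩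
    · rw [map_one]; exact one_mem _
    · have := ih _ (hn ▸ b) _ a rfl
      rw [map_mul] at this
      exact (mul_mem_cancel_left (hH s hs)).1 this

/-- the label of an element modulo the first `n` generators -/
def lab (n : ℕ) (k : TG T) : ℕ := Nat.shiftRight k.v n

instance instLab (n m : ℕ) (k : TG T) {a : ℕ} [TG.EV k a] :
    BD (lab n k = m) (Nat.beq (Nat.shiftRight a n) m) := ⟨by
  rw [← TG.EV.h (a := k), beq_iff]; rfl⟩

end

theorem gens_range {L : List Lv} [Fact (tab L).OK] (hc : chk L = true) {φ : TG (tab L) →* G} {g : G}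
    (h : ∀ i < len L, g * φ (gn i) * g⁻¹ ∈ φ.range) : g ∈ 𝐍[φ.range] :=
  norm_range (gn_ind hc ⟨1, by rw [map_one]; exact Cj.one g⟩ fun i hi v ⟨k, hk⟩ => by
    obtain ⟨k', e⟩ := h i hi
    exact ⟨k * k', by rw [map_mul, map_mul]; exact hk.mul (Eq.symm e)⟩)

variable {d : Dat G}

section Q
open I1Q

/-- `Q = ⟨z, c, u, e, f, k, t⟩` -/
structure QH (d : Dat G) (φ : K →* G) (c e f k : G) : Prop where
  inj : Function.Injective φ
  all : d.z = φ gz ∧ c = φ gb ∧ d.u = φ gu ∧ e = φ ge ∧ f = φ gf ∧ k = φ gh ∧ d.t = φ gt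
  le : ∀ H : Subgroup G, d.z ∈ H → c ∈ H → d.u ∈ H → e ∈ H → f ∈ H → k ∈ H → d.t ∈ H → φ.range ≤ H

theorem qhom (h : d.Cfq) {c e f k : G} (hc : c = d.a ∨ c = d.b) (ee : e * e = d.z)
    (ec : Cj e c c) (eu : Cj e d.u d.u) (et : Cj e d.t (d.t * d.z)) (ff : f * f = c)
    (fz : Cj f d.z d.z) (fu : Cj f d.u d.u) (fe : Cj f e e) (ft : Cj f d.t (d.t * c))
    (kk : k * k = d.u) (kz : Cj k d.z d.z) (kc : Cj k c c) (ke : Cj k e e) (kf : Cj k f f)
    (kt : Cj k d.t (d.t * d.u)) : ∃ φ, QH d φ c e f k := by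
  have fl : ∀ {x y : G}, Cj x d.t (d.t * y) → Cj x y y → Cj d.t x (x * y) := fun {x y} h1 h2 => by
    have := h1.flipR
    rw [inv_eq_of_mul_eq_one_right h.tt] at this
    exact this.to h2.comm.symm
  have ez : Cj e d.z d.z := ee ▸ (Cj.self e).mul (Cj.self e)
  have fc : Cj f c c := ff ▸ (Cj.self f).mul (Cj.self f)
  have ku : Cj k d.u d.u := kk ▸ (Cj.self k).mul (Cj.self k)
  obtain ⟨φ, p1, p2, p3, p4, p5, p6, p7, p8⟩ := I1Q.hom (z := d.z) (b := c) (u := d.u) (e := e)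
    (f := f) (h := k) (t := d.t) h.zz (by rcases hc with rfl | rfl; exacts [h.aa, h.bb])
    (by rcases hc with rfl | rfl; exacts [.of_comm h.za.symm, .of_comm h.zb.symm]) h.uu
    (.of_comm h.zu.symm) (by rcases hc with rfl | rfl; exacts [.of_comm h.au.symm, .of_comm h.bu.symm])
    ee ez ec eu ff fz fc fu fe kk kz kc ku ke kf h.tt (.of_comm h.zt.symm)
    (by rcases hc with rfl | rfl; exacts [.of_comm h.at'.symm, .of_comm h.bt.symm])
    (.of_comm h.ut.symm) (fl et ez) (fl ft fc) (fl kt ku)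
  refine ⟨φ, Pc.inj I1Q.hc φ gs [gz, gb, gz * gb, gu, gz * gu, gb * gu, gz * gb * gu]
    (BD.of (by decide +kernel)) ?_, ⟨p1.symm, p2.symm, p3.symm, p4.symm, p5.symm, p6.symm, p7.symm⟩, p8⟩
  simp only [List.forall_mem_cons, List.not_mem_nil, false_imp_iff, implies_true, and_true, map_mul,
    p1, p2, p3]
  rcases hc with rfl | rfl <;>
    simp only [h.el_u, h.el_a, h.el_b, h.el_z, h.el_one, h.el_mul, ne_eq, h.el_eq_iff] <;> decide

theorem q_cen : ∀ v : K, Msk 120 v → ∀ g : K, Cj g v v := BD.of (by decide +kernel)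
theorem q_gen : ∀ k : K, Msk 120 k → k = 1 ∨ ∃ s ∈ [gz, gb, gu], Msk 120 (s * k) ∧ (s * k).v < k.v :=
  BD.of (by decide +kernel)
theorem q_xor : ∀ x y : K, lab 3 (x * y) = Nat.xor (lab 3 x) (lab 3 y) := BD.of (by decide +kernel)
theorem q_adj : ∀ x : K, lab 3 x = 8 → ∃ m, Cj m x gt := BD.of (by decide +kernel)

variable {φ : K →* G} {c e f k : G}

theorem QH.card (H : QH d φ c e f k) : Nat.card φ.range = 128 := (card_range H.inj).trans I1Q.card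
theorem QH.pgrp (H : QH d φ c e f k) : IsPGroup 2 φ.range := .of_card (n := 7) H.card

theorem QH.memU (H : QH d φ c e f k) {U : Subgroup G} (h1 : d.z ∈ U) (h2 : c ∈ U) (h3 : d.u ∈ U)
    {v : K} (hv : Msk 120 v) : φ v ∈ U :=
  mem_of_gen φ _ _ q_gen (by simp only [List.forall_mem_cons, ← H.all.1, ← H.all.2.1, ← H.all.2.2.1,
    h1, h2, h3, List.not_mem_nil, false_imp_iff, implies_true, and_true]) v hv

/-- action on `U` by `O` and on the labels by `F` -/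
def AcF (φ : K →* G) (g : G) (O : K → K) (F : ℕ → ℕ) : Prop :=
  (∀ k, Msk 120 k → Msk 120 (O k) ∧ Cj g (φ k) (φ (O k))) ∧
    ∀ k, ∃ k', Cj g (φ k) (φ k') ∧ lab 3 k' = F (lab 3 k)

theorem AcF.comp {g g' : G} {O O' : K → K} {F F' : ℕ → ℕ} (h : AcF φ g O F) (h' : AcF φ g' O' F') :
    AcF φ (g * g') (fun k => O (O' k)) (fun n => F (F' n)) :=
  ⟨fun k hk => ⟨(h.1 _ (h'.1 k hk).1).1, (h'.1 k hk).2.comp (h.1 _ (h'.1 k hk).1).2⟩, fun k => by
    obtain ⟨k', a, b⟩ := h'.2 k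
    obtain ⟨k'', a', b'⟩ := h.2 k'
    exact ⟨k'', a.comp a', by rw [b', b]⟩⟩

theorem acF (hφ : Function.Injective φ) {g : G} (hg : g ∈ 𝐍[φ.range]) {C F : ℕ} {x y : K}
    (h1 : ∀ s ∈ [gz, gb, gu], Cj g (φ s) (φ (lkE C s))) (h2 : Cj g (φ x) (φ y))
    (h3 : (∀ k : K, Msk 120 k → Msk 120 (lkE C k : K) ∧ lk F (lab 3 k) = 0 ∧ lab 3 (lkE C k : K) = 0 ∧
        ((k = 1 ∧ lkE C k = 1) ∨
        ∃ s ∈ [gz, gb, gu], Msk 120 (s * k) ∧ (s * k).v < k.v ∧ lkE C (s * k) = lkE C s * lkE C k)) ∧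
      (∀ s ∈ [ge, gf, gh], Msk 120 (s * s) ∧ ∀ k : K, k * k = lkE C (s * s) → lab 3 k = lk F (lab 3 s)) ∧
      lab 3 y = lk F (lab 3 x) ∧
      ∀ k : K, k = 1 ∨ ∃ s ∈ [gz, gb, gu, ge, gf, gh, x], (s * k).v < k.v ∧
        lk F (lab 3 k) = Nat.xor (lk F (lab 3 s)) (lk F (lab 3 (s * k))) ) :
    AcF φ g (lkE C) (lk F) := by
  obtain ⟨σ, hσ⟩ := exists_aut hφ hg
  obtain ⟨a1, a2, a3, a4⟩ := h3
  have b1 := act_tab φ g (Msk 120) (lkE C) _ h1 fun k hk => (a1 k hk).2.2.2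
  have b2 : ∀ k, Msk 120 k → σ k = lkE C k := fun k hk => hφ ((hσ k).unique (b1 k hk))
  have b3 : ∀ s ∈ [gz, gb, gu, ge, gf, gh, x], lab 3 (σ s) = lk F (lab 3 s) := by
    have c1 : ∀ s, Msk 120 s → lab 3 (σ s) = lk F (lab 3 s) := fun s hs => by
      rw [b2 s hs, (a1 s hs).2.1, (a1 s hs).2.2.1]
    have c2 : ∀ s ∈ [ge, gf, gh], lab 3 (σ s) = lk F (lab 3 s) := fun s hs =>
      (a2 s hs).2 _ (by rw [← map_mul, b2 _ (a2 s hs).1])
    simp only [List.forall_mem_cons, List.not_mem_nil, false_imp_iff, implies_true, and_true] at c2 ⊢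
    exact ⟨c1 _ (BD.of (by decide +kernel)), c1 _ (BD.of (by decide +kernel)),
      c1 _ (BD.of (by decide +kernel)), c2.1, c2.2.1, c2.2.2, hφ ((hσ x).unique h2) ▸ a3⟩
  refine ⟨fun k hk => ⟨(a1 k hk).1, b1 k hk⟩, fun k => ⟨σ k, hσ k, ?_⟩⟩
  induction hn : k.v using Nat.strong_induction_on generalizing k with
  | _ n ih =>
    rcases a4 k with rfl | ⟨s, hs, p, q⟩
    · rw [map_one, (a1 1 (BD.of (by decide +kernel))).2.1]; rfl
    · have := ih _ (hn ▸ p) _ rfl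
      rw [map_mul, q_xor, b3 s hs] at this
      rw [q, ← this]
      exact (Nat.xor_xor_cancel_left _ _).symm

theorem AcF.adj {g : G} {O : K → K} {F : ℕ → ℕ} (h : AcF φ g O F) {x : K} (hx : F (lab 3 x) = 8) :
    ∃ c, Cj c (φ x) (φ gt) ∧ ∀ k, Msk 120 k → Msk 120 (O k) ∧ Cj c (φ k) (φ (O k)) := by
  obtain ⟨k', a, b⟩ := h.2 x
  obtain ⟨m, hm⟩ := q_adj k' (b.trans hx)
  exact ⟨φ m * g, a.comp (map_cj φ hm), fun k hk =>
    ⟨(h.1 k hk).1, (h.1 k hk).2.comp (map_cj φ (q_cen _ (h.1 k hk).1 m))⟩⟩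

end Q

section S
open I1S

/-- `S₁ = S₀⟨e, k⟩` -/
structure SH (d : Dat G) (ψ : K →* G) (e k : G) : Prop where
  inj : Function.Injective ψ
  all : d.z = ψ gz ∧ d.u = ψ gu ∧ e = ψ ge ∧ k = ψ gh ∧ d.t = ψ gt ∧ d.a = ψ ga ∧ d.b = ψ gb
  le : ∀ H : Subgroup G, d.z ∈ H → d.u ∈ H → e ∈ H → k ∈ H → d.t ∈ H → d.a ∈ H → d.b ∈ H →
    ψ.range ≤ H

theorem shom (h : d.Cfq) {e k : G} (ee : e * e = d.z) (ae : d.Ac e (d.t * d.z) d.u d.a d.b)
    (kk : k * k = d.u) (ak : d.Ac k (d.t * d.u) d.u d.a d.b) (ke : Cj k e e) :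
    ∃ ψ, SH d ψ e k := by
  have fl : ∀ {x y : G}, Cj x d.t (d.t * y) → Cj x y y → Cj d.t x (x * y) := fun {x y} h1 h2 => by
    have := h1.flipR
    rw [inv_eq_of_mul_eq_one_right h.tt] at this
    exact this.to h2.comm.symm
  have ez := h.cz' ae.a ae.b
  obtain ⟨φ, p1, p2, p3, p4, p5, p6, p7, p8⟩ := I1S.hom (z := d.z) (u := d.u) (e := e) (h := k)
    (t := d.t) (a := d.a) (b := d.b) h.zz h.uu (.of_comm h.zu.symm) ee ez ae.u kk (h.cz' ak.a ak.b)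
    ak.u ke h.tt (.of_comm h.zt.symm) (.of_comm h.ut.symm) (fl ae.t ez) (fl ak.t ak.u) h.aa
    (.of_comm h.za.symm) (.of_comm h.au) ae.a.flip ak.a.flip (.of_comm h.at') h.bb
    (.of_comm h.zb.symm) (.of_comm h.bu) ae.b.flip ak.b.flip (.of_comm h.bt) (by
      rw [Cj, h.ba, mul_assoc, mul_assoc, ← mul_assoc d.b, ← h.zb]; group)
  refine ⟨φ, Pc.inj I1S.hc φ gs [gz, gu, gz * gu] (BD.of (by decide +kernel)) ?_,
    ⟨p1.symm, p2.symm, p3.symm, p4.symm, p5.symm, p6.symm, p7.symm⟩, p8⟩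
  simp only [List.forall_mem_cons, List.not_mem_nil, false_imp_iff, implies_true, and_true, map_mul,
    p1, p2]
  simp only [h.el_u, h.el_z, h.el_one, h.el_mul, ne_eq, h.el_eq_iff]
  decide

end S

theorem card_U2 (h : d.Cfq) : Nat.card d.U2 = 8 := by
  rw [h.card_of (fun x : Bool × Bool × Bool => d.el false x.1 false x.2.1 x.2.2)
    (fun x y e => by simpa [h.el_eq_iff, Prod.ext_iff] using e) (by simp [h.mem_U2])]
  simp

end Cfsg.Agent.HSE.I1
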