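import Cfsg.Agent.HSE.I1b

/-! Type (I, I), `4 × 4 × 4` layers: construction of the elements `k`, `o`, `ρ`. -/

set_option autoImplicit false
set_option linter.unusedSectionVars false
set_option linter.unusedVariables false
set_option linter.unusedSimpArgs false
set_option maxRecDepth 100000

namespace Cfsg.Agent.HSE.I1

open Cfsg Subgroup Cfsg.Agent.PLocal Cfsg.Agent.PLocal.Amb Cfsg.Agent.MacW
open Cfsg.Agent.Comp Cfsg.Agent.X32 Pc

variable {G : Type*} [Group G] [Finite G] {d : Dat G} {e k f₁ f₂ ρ₁ ρ₂ w : G}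

section S
open I1S

theorem s_cen : ∀ n : K, (∀ g ∈ gs, g * n = n * g) → n ∈ [1, gz, gu, gz * gu] :=
  BD.of (by decide +kernel)

theorem SH.cen {ψ : K →* G} (S : SH d ψ e k) {n : G} (h1 : n ∈ ψ.range) (h2 : n ∈ 𝐂[ψ.range]) :
    n = 1 ∨ n = d.z ∨ n = d.u ∨ n = d.z * d.u := by
  obtain ⟨n, rfl⟩ := h1
  have := s_cen n fun g _ => S.inj (by rw [map_mul, map_mul]; exact h2 _ ⟨g, rfl⟩)
  simp only [List.mem_cons, List.not_mem_nil, or_false] at this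
  rcases this with rfl | rfl | rfl | rfl <;> simp [S.all]

theorem step1 (h : d.Cfq) (L : d.LI e k f₁ f₂ ρ₁ ρ₂ true false) (W : d.WI w e k f₁ f₂ true false) :
    ∃ o c, d.Ac c (d.t * e) (d.u * d.z) d.a d.b ∧ Cj c e e ∧ Cj c k (e * k⁻¹) ∧
      (Cj c f₂ f₂ ∨ Cj c f₂ (f₂ * d.z)) ∧ c * c = e ∧
      d.Ac o (d.t * d.b * e) d.u d.b (d.a * d.b * e) ∧ Cj o e e ∧ Cj o k k ∧ Cj o c c := by
  have ε : d.Eps := .inr ⟨w, W.toE2.to'⟩
  obtain ⟨ψ, S⟩ := li_s h L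
  obtain ⟨p1, p2, p3, p4, p5, p6, p7⟩ := S.all
  have F1 : Act ψ f₁ (lkE sF1) := S.act sF1 L.l1.fz L.l1.fu L.l1.fe L.hf1.flip L.l1.ft L.l1.fa L.l1.fb (by
    simp only [bp_true, S.all, ← map_mul, ← map_inv, S.inj.eq_iff]; exact BD.of (by decide +kernel))
  have F2 : Act ψ f₂ (lkE sF2) := S.act sF2 L.l2.fz (f2u h L) (f2e h L) L.hf2.flip L.l2.ft L.l2.fb
    L.l2.fa (by
    simp only [Dat.sw, bp_true, bp_false, mul_one, S.all, ← map_mul, ← map_inv, S.inj.eq_iff]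
    exact BD.of (by decide +kernel))
  have Wa : Act ψ w (lkE sW) := S.act sW (h.cz_sw W.a W.b) W.u W.we W.wh (h.wt W.mem) W.a W.b (by
    simp only [bp_true, bp_false, mul_one, S.all, ← map_mul, ← map_inv, S.inj.eq_iff]
    exact BD.of (by decide +kernel))
  have C0 := Wa.comp (F1.comp (F2.comp F1))
  have E0 := Act.inn (ψ := ψ) p3
  have R0 := (F1.comp F2).comp E0
  have V0 := (Act.inn (ψ := ψ) p5).comp F2
  set c₀ := w * (f₁ * (f₂ * f₁))
  set A := ψ.range with hA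
  have me : e ∈ A := ⟨_, p3.symm⟩
  have n0 : c₀ ∈ 𝐍[A ⊔ 𝐂[A]] := norm_D C0.norm
  have s0 : c₀ * c₀ ∈ A ⊔ 𝐂[A] := mem_D me ((C0.comp C0).cent E0 (BD.of (by decide +kernel)))
  have cm : ∀ {g : G}, g ∈ 𝐍[A] → (g * c₀) * (c₀ * g)⁻¹ ∈ 𝐂[A] → g ∈ 𝐍[(A ⊔ 𝐂[A]) ⊔ zpowers c₀] :=
    fun {g} h1 h2 => norm_ext (norm_D h1) (by
      have := mul_mem (mem_sup_left (mem_sup_right h2 : _ ∈ A ⊔ 𝐂[A]) : _ ∈ (A ⊔ 𝐂[A]) ⊔ zpowers c₀)
        (mem_sup_right (mem_zpowers c₀))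
      convert this using 1
      group)
  have ff : f₂ * f₂ = d.b := L.l2.ff
  have tf : Cj d.t f₂ (d.b * f₂) := by
    have : Cj d.t⁻¹ f₂ (d.b * f₂) := L.l2.ft.flipR
    rwa [inv_eq_of_mul_eq_one_right h.tt] at this
  obtain ⟨Q, ρ, q1, q2, q3, q4, q5, q6, q7, -, -, q10⟩ := LQ (F := (A ⊔ 𝐂[A]) ⊔ zpowers c₀)
    (R := A ⊔ zpowers f₂) (r := f₁ * f₂ * e) (v := d.t * f₂) (h.sylQ0 ε S.pgrp S.S0)
    (le_sup_left.trans le_sup_left) (le_sup_right.trans le_sup_left)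
    (sup_le (D_le A) (zpowers_le.2 C0.norm)) (fun g hg => by
      obtain ⟨j, hj⟩ := pow_D S.pgrp (sq_ext n0 s0 hg)
      exact ⟨j + 1, by rwa [pow_succ', pow_mul, pow_two]⟩)
    (two_sup S.pgrp F2.norm (k := 2) (by
      rw [show 2 ^ 2 = 2 * 2 from rfl, pow_mul, pow_two, pow_two, ff, h.bb]))
    le_sup_left (sup_le le_normalizer (zpowers_le.2 F2.norm))
    (sup_le ((le_sup_left.trans le_sup_left).trans le_normalizer) (zpowers_le.2 (cm F2.norm
      ((F2.comp C0).cent (C0.comp F2) (BD.of (by decide +kernel))))))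
    R0.norm (cm R0.norm ((R0.comp C0).cent (C0.comp R0) (BD.of (by decide +kernel))))
    (mul_mem (mem_sup_left ⟨_, p5.symm⟩) (mem_sup_right (mem_zpowers _))) (by
      calc d.t * f₂ * (d.t * f₂) = (d.t * f₂ * d.t⁻¹) * (d.t * d.t) * f₂ := by group
        _ = 1 := by rw [tf, h.tt, mul_one, mul_assoc, ff, h.bb])
    ((((V0.comp R0).comp V0).comp R0).cent1 (BD.of (by decide +kernel)))
    (by rw [pow_three]; exact (R0.comp (R0.comp R0)).cent1 (BD.of (by decide +kernel)))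
  have AQ : A ≤ Q := le_trans (le_inf le_sup_left (le_sup_left.trans le_sup_left)) q2
  obtain ⟨c₁, m1, hc1⟩ := q5 c₀ (mem_sup_right (mem_zpowers c₀))
  have C1 := C0.of_cent (g' := c₁) (by simpa using inv_mem hc1)
  have P := R0.of_cent q7
  have pz : Cj ρ d.z d.z := P.cj p1 p1 (BD.of (by decide +kernel))
  have pu : Cj ρ d.u d.u := P.cj p2 p2 (BD.of (by decide +kernel))
  have zu2 : d.z * d.u * (d.z * d.u) = 1 := by
    rw [mul_assoc, ← mul_assoc d.u, ← h.zu, mul_assoc, h.uu, mul_one, h.zz]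
  have pc : Cj ρ c₁ c₁ := by
    have a1 : c₁⁻¹ * (ρ * c₁ * ρ⁻¹) ∈ 𝐂[A] := by
      have := conj_mem_of_mem_normalizer (normalizer_le_normalizer_centralizer _ P.norm)
        ((P.comp C1).cent' (C1.comp P) (BD.of (by decide +kernel)))
      have := inv_conj_mem_of_mem_normalizer (normalizer_le_normalizer_centralizer _ P.norm)
        (conj_mem_of_mem_normalizer (normalizer_le_normalizer_centralizer _ P.norm) this)
      convert this using 1
      group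
    have a2 := S.cen (q4 (mem_inf.2 ⟨mul_mem (inv_mem m1) (conj_mem_of_mem_normalizer q6 m1), a1⟩)) a1
    refine odd_step q10 (n := c₁⁻¹ * (ρ * c₁ * ρ⁻¹)) (by simp [Cj]) ?_ (k := 1) ?_
    · rcases a2 with e | e | e | e <;> rw [e]
      exacts [Cj.one _, pz, pu, pz.mul pu]
    · rcases a2 with e | e | e | e <;> rw [e, pow_one, pow_two]
      exacts [one_mul _, h.zz, h.uu, zu2]
  have cz : Cj c₁ d.z d.z := C1.cj p1 p1 (BD.of (by decide +kernel))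
  have cu : Cj c₁ d.u (d.u * d.z) := C1.cj (b := gu * gz) p2 (by rw [p1, p2, ← map_mul]) (BD.of (by decide +kernel))
  have ce : Cj c₁ e e := C1.cj p3 p3 (BD.of (by decide +kernel))
  have uc : d.u ∈ 𝐂[A] := (Act.inn (ψ := ψ) p2).cent1 (BD.of (by decide +kernel))
  have uz : d.u * d.z ≠ d.u := by simpa using h.z1
  obtain ⟨c, m, C, pc, cc⟩ : ∃ c ∈ Q, Act ψ c (fun x => lkE sW (lkE sF1 (lkE sF2 (lkE sF1 x)))) ∧
      Cj ρ c c ∧ c * c = e := by
    have a1 := (C1.comp C1).cent' E0 (BD.of (by decide +kernel))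
    have a2 := S.cen (q4 (mem_inf.2 ⟨mul_mem (inv_mem (AQ me)) (mul_mem m1 m1), a1⟩)) a1
    have a3 : Cj c₁ (e⁻¹ * (c₁ * c₁)) (e⁻¹ * (c₁ * c₁)) := ce.inv.mul ((Cj.self _).mul (Cj.self _))
    rcases a2 with a | a | a | a
    · exact ⟨c₁, m1, C1, pc, (inv_mul_eq_one.1 a).symm⟩
    · refine ⟨c₁ * d.u, mul_mem m1 (AQ ⟨_, p2.symm⟩), C1.of_cent (by
        simpa [mul_assoc] using conj_mem_of_mem_normalizer
          (normalizer_le_normalizer_centralizer _ C1.norm) uc), pc.mul pu, ?_⟩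
      calc c₁ * d.u * (c₁ * d.u) = (c₁ * d.u * c₁⁻¹) * (e * (e⁻¹ * (c₁ * c₁))) * d.u := by group
        _ = e := by
          rw [cu, a]; simp only [S.all, ← map_mul]; exact congrArg _ (BD.of (by decide +kernel))
    · rw [a] at a3; exact absurd (cu.unique a3) uz
    · rw [a] at a3; exact absurd (by simpa using (cz.mul cu).unique a3) h.z1
  have cz : Cj c d.z d.z := C.cj p1 p1 (BD.of (by decide +kernel))
  have cu : Cj c d.u (d.u * d.z) := C.cj (b := gu * gz) p2 (by rw [p1, p2, ← map_mul]) (BD.of (by decide +kernel))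
  have ce : Cj c e e := C.cj p3 p3 (BD.of (by decide +kernel))
  have O := P.comp (Act.inn (ψ := ψ) (g := e⁻¹) (m := ge⁻¹) (by rw [p3, map_inv]))
  refine ⟨ρ * e⁻¹, c, ⟨C.cj (b := gt * ge) p5 (by rw [p5, p3, ← map_mul]) (BD.of (by decide +kernel)), cu,
    C.cj p6 p6 (BD.of (by decide +kernel)), C.cj p7 p7 (BD.of (by decide +kernel))⟩, ce,
    C.cj (b := ge * gh⁻¹) p4 (by rw [p4, p3, ← map_inv, ← map_mul]) (BD.of (by decide +kernel)), ?_, cc,
    ⟨O.cj (b := gt * gb * ge) p5 (by rw [p5, p7, p3, ← map_mul, ← map_mul]) (BD.of (by decide +kernel)),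
      O.cj p2 p2 (BD.of (by decide +kernel)), O.cj p6 p7 (BD.of (by decide +kernel)),
      O.cj (b := ga * gb * ge) p7 (by rw [p6, p7, p3, ← map_mul, ← map_mul]) (BD.of (by decide +kernel))⟩,
    O.cj p3 p3 (BD.of (by decide +kernel)), O.cj p4 p4 (BD.of (by decide +kernel)),
    ce.flip.symm.comp pc⟩
  have a1 : f₂⁻¹ * (c * f₂ * c⁻¹) ∈ 𝐂[A] := by
    have := conj_mem_of_mem_normalizer (normalizer_le_normalizer_centralizer _ C.norm)
      ((C.comp F2).cent' (F2.comp C) (BD.of (by decide +kernel)))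
    convert this using 1
    group
  have a2 := S.cen (q4 (mem_inf.2 ⟨by
    have := mul_mem (inv_conj_mem_of_mem_normalizer (q3 (mem_sup_right (mem_zpowers f₂))) m) (inv_mem m)
    convert this using 1
    group, a1⟩)) a1
  have a3 : Cj c f₂ (f₂ * (f₂⁻¹ * (c * f₂ * c⁻¹))) := by simp [Cj]
  have a4 : ∀ n n', Cj c f₂ (f₂ * n) → Cj c n n' → n * n' = 1 := fun n n' b1 b2 => by
    have := (b1.comp (b1.mul b2)).unique (cc ▸ (f2e h L).flip)
    simpa [mul_assoc] using this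
  rcases a2 with a | a | a | a <;> rw [a] at a3
  · exact .inl (by simpa using a3)
  · exact .inr a3
  · have := a4 _ _ a3 cu
    rw [← mul_assoc, h.uu, one_mul] at this
    exact absurd this h.z1
  · have := a4 _ _ a3 (cz.mul cu)
    rw [← mul_assoc d.z, ← mul_assoc, zu2, one_mul] at this
    exact absurd this h.z1

end S

section Q
open I1Q

theorem q_m : ∀ n : K, (∀ g ∈ gs, g * n = n * g) → lkE qK (lkE qR (n * (gf * gt))) = n * (gf * gt) →
    n * (gf * gt) = gz * gb * gf * gt ∨ n * (gf * gt) = gu * gf * gt := BD.of (by decide +kernel)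

theorem step2 (h : d.Cfq) (ε : d.Eps) {φ : K →* G} {f c : G} (H : QH d φ d.b e f k)
    (L : d.sw.Lay e f ρ₂ true) (ph : Cj ρ₂ (k * e * d.u) (k * e * d.u)) (ka : Cj k d.a d.a)
    (C : Act φ c (lkE qK)) (ca : Cj c d.a d.a) (cc : c * c = e) :
    ∃ ρ l, d.sw.Lay e f ρ true ∧ Cj ρ (k * e * d.u) (k * e * d.u) ∧ Cj ρ c l ∧
      Cj ρ l (d.a * l * d.a) ∧ Cj ρ (d.a * l * d.a) c ∧ ∃ s : Bool,
        c * l * (d.a * l * d.a) = cond s (d.z * d.b * f * d.t) (d.u * f * d.t) := by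
  obtain ⟨p1, p2, p3, p4, p5, p6, p7⟩ := H.all
  have R := H.actR h L ph
  have R' : Act φ ρ₂⁻¹ fun x => lkE qR (lkE qR x) := R.inv (BD.of (by decide +kernel))
  have Aa := H.actA h L ka
  have ai : d.a⁻¹ = d.a := inv_eq_of_mul_eq_one_right h.aa
  set A := φ.range with hA
  have L0 := (R.comp C).comp R'
  set l₀ := ρ₂ * c * ρ₂⁻¹ with hl₀
  have me : e ∈ A := ⟨_, p4.symm⟩
  have n1 : c ∈ 𝐍[A ⊔ 𝐂[A]] := norm_D C.norm
  have s1 : c * c ∈ A ⊔ 𝐂[A] := mem_sup_left (cc ▸ me)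
  set D := (A ⊔ 𝐂[A]) ⊔ zpowers c with hD
  have cD : c ∈ D := mem_sup_right (mem_zpowers c)
  have n2 : l₀ ∈ 𝐍[D] := norm_ext (norm_D L0.norm) (by
    have := mul_mem (mem_sup_left (mem_sup_right ((L0.comp C).cent
      ((Act.inner φ (ge * gf)).comp (C.comp L0)) (BD.of (by decide +kernel))) : _ ∈ A ⊔ 𝐂[A]) : _ ∈ D)
      (mul_mem (mem_sup_left (mem_sup_left ⟨ge * gf, rfl⟩ : _ ∈ A ⊔ 𝐂[A])) cD)
    convert this using 1
    group)
  have ll : l₀ * l₀ = f := by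
    have := (L.pe : _ = _)
    rw [← this, ← cc, hl₀]; group
  have s2 : l₀ * l₀ ∈ D := mem_sup_left (mem_sup_left ⟨_, (ll.trans p5).symm⟩)
  set F := D ⊔ zpowers l₀ with hF
  have lF : l₀ ∈ F := mem_sup_right (mem_zpowers _)
  have cF : c ∈ F := mem_sup_left cD
  have AF : A ≤ F := (le_sup_left.trans le_sup_left).trans le_sup_left
  have CF : 𝐂[A] ≤ F := (le_sup_right.trans le_sup_left).trans le_sup_left
  have nF : ∀ {g : G}, g ∈ 𝐍[A] → g * c * g⁻¹ ∈ F → g * l₀ * g⁻¹ ∈ F → g ∈ 𝐍[F] := fun {g} a1 a2 a3 =>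
    mem_normalizer_of_cj_le (by
      rw [hF, hD, cj_sup, cj_sup, cj_of_mem_normalizer (norm_D a1), MonoidHom.map_zpowers,
        MonoidHom.map_zpowers]
      exact sup_le (sup_le (sup_le AF CF) (zpowers_le.2 a2)) (zpowers_le.2 a3))
  have mF : ∀ {g : G} {O : K → K}, Act φ g O →
      (∀ x, O x = ge * gt * lkE qK (lkE qR (lkE qK (lkE qR (lkE qR x)))) * (ge * gt)⁻¹) → g ∈ F :=
    fun a1 a2 => by
      have := mul_mem (CF (a1.cent ((Act.inner φ (ge * gt)).comp (C.comp L0)) a2))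
        (mul_mem (AF ⟨ge * gt, rfl⟩) (mul_mem cF lF))
      rwa [inv_mul_cancel_right] at this
  have ac : Cj d.a c c := ca.flip
  have nA : d.a ∈ 𝐍[A ⊔ zpowers c] := norm_ext Aa.norm (rg_cm ac (mem_sup_right (mem_zpowers c)))
  obtain ⟨Q, ρ, q1, q2, q3, q4, -, q6, q7, q8, q9, q10⟩ := LQ (F := F)
    (R := (A ⊔ zpowers c) ⊔ zpowers d.a) (r := ρ₂) (v := d.a) (h.sw.sylQ (h.sw_eps ε) H.pgrp
      (h.sw_A1 ▸ H.A2)) AF CF
    (sup_le (sup_le (D_le A) (zpowers_le.2 C.norm)) (zpowers_le.2 L0.norm)) (fun g hg => by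
      obtain ⟨j, hj⟩ := pow_D H.pgrp (sq_ext n1 s1 (sq_ext n2 s2 hg))
      exact ⟨j + 1 + 1, by rwa [pow_succ', pow_mul, pow_two, pow_succ', pow_mul, pow_two]⟩)
    (two_sup (two_sup H.pgrp C.norm (k := 3) (by
      have e2 : e * e = d.z := L.ee
      rw [show 2 ^ 3 = 2 * (2 * 2) from rfl, pow_mul, pow_mul, pow_two, pow_two, pow_two, cc, e2, h.zz]))
      nA (k := 1) (by rw [pow_one, pow_two, h.aa]))
    (le_sup_left.trans le_sup_left)
    (sup_le (sup_le le_normalizer (zpowers_le.2 C.norm)) (zpowers_le.2 Aa.norm))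
    (sup_le (sup_le (AF.trans le_normalizer) (zpowers_le.2 (le_normalizer cF))) (zpowers_le.2
      (nF Aa.norm (rg_cm ac cF) (by
        rw [ai]; exact mF ((Aa.comp L0).comp Aa) (BD.of (by decide +kernel))))))
    R.norm (nF R.norm lF (mF ((R.comp L0).comp R') (BD.of (by decide +kernel))))
    (mem_sup_right (mem_zpowers _)) h.aa (by rw [show d.a * ρ₂ * d.a * ρ₂ = 1 from L.bp']; exact one_mem _)
    (by rw [pow_three]; exact (R.comp (R.comp R)).cent1 (BD.of (by decide +kernel)))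
  have cQ : c ∈ Q := q2 ⟨mem_sup_left (mem_sup_right (mem_zpowers c)), cF⟩
  have AQ : A ≤ Q := le_trans (le_inf (le_sup_left.trans le_sup_left) AF) q2
  have tr : ∀ {x y : G}, Cj ρ₂ x y → y ∈ A → Cj ρ x y := fun a b => by
    simpa using a.comp (Cj.of_cent q7 b)
  have mz : d.z ∈ A := ⟨_, p1.symm⟩
  have mb : d.b ∈ A := ⟨_, p2.symm⟩
  have mu : d.u ∈ A := ⟨_, p3.symm⟩
  have mf : f ∈ A := ⟨_, p5.symm⟩
  have e1 : d.a * (ρ * c * ρ⁻¹) * d.a = ρ⁻¹ * c * ρ := by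
    have a1 : d.a * ρ * d.a = ρ⁻¹ := eq_inv_of_mul_eq_one_left q8
    calc d.a * (ρ * c * ρ⁻¹) * d.a = (d.a * ρ * d.a⁻¹) * (d.a * c * d.a⁻¹) * (d.a * ρ * d.a⁻¹)⁻¹ *
          (d.a * d.a) := by group
      _ = _ := by rw [ac, h.aa, ai, a1]; group
  have pl : Cj ρ (ρ * c * ρ⁻¹) (d.a * (ρ * c * ρ⁻¹) * d.a) := by
    rw [e1, Cj]
    have := (Cj.of_cent q9 cQ : _ = _)
    calc ρ * (ρ * c * ρ⁻¹) * ρ⁻¹ = ρ⁻¹ * (ρ ^ 3 * c * (ρ ^ 3)⁻¹) * ρ := by
          rw [pow_three]; simp [mul_assoc]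
      _ = _ := by rw [this]
  have pl' : Cj ρ (d.a * (ρ * c * ρ⁻¹) * d.a) c := by rw [e1, Cj]; group
  refine ⟨ρ, ρ * c * ρ⁻¹, { L with
    pt := tr L.pt ⟨_, p7.symm⟩, pu := tr L.pu (mul_mem mu mz), pz := tr L.pz mb
    pa := tr L.pa (mul_mem mb mz), pe := tr L.pe mf, pf := tr L.pf (inv_mem (mul_mem me mf))
    bp' := q8, odd := q10 }, tr ph (mul_mem (mul_mem ⟨_, p6.symm⟩ me) mu), rfl, pl, pl', ?_⟩
  have P := R.of_cent q7
  have P' : Act φ ρ⁻¹ fun x => lkE qR (lkE qR x) := P.inv (BD.of (by decide +kernel))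
  have L1 := (P.comp C).comp P'
  set l := ρ * c * ρ⁻¹
  have lQ : l ∈ Q := conj_mem_of_mem_normalizer q6 cQ
  have a1 := ((C.comp L1).comp ((Aa.comp L1).comp Aa)).cent (Act.inner φ (gf * gt))
    (BD.of (by decide +kernel))
  obtain ⟨n, hn⟩ := q4 (mem_inf.2 ⟨mul_mem (mul_mem (mul_mem cQ lQ) (pl.mem q6 lQ))
    (inv_mem (AQ ⟨gf * gt, rfl⟩)), a1⟩)
  have e2 : c * l * (d.a * l * d.a) = φ (n * (gf * gt)) := by
    rw [map_mul, hn, inv_mul_cancel_right]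
  have a2 : Cj (c * ρ) (c * l * (d.a * l * d.a)) (c * l * (d.a * l * d.a)) :=
    (((show Cj ρ c l from rfl).mul pl).mul pl').comp (by rw [Cj]; group)
  rw [e2] at a2 ⊢
  rcases q_m n (fun g _ => H.inj (by rw [map_mul, map_mul, hn]; exact a1 _ ⟨g, rfl⟩))
    (H.inj (((C.comp P) _).unique a2)) with a | a
  · exact ⟨true, by rw [a]; simp [H.all]⟩
  · exact ⟨false, by rw [a]; simp [H.all]⟩

end Q

end Cfsg.Agent.HSE.I1
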