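import Cfsg.Agent.HSE.I1c

/-! Type (I, I), `4 × 4 × 4` layers: the group `T` of order `1024`. -/

set_option autoImplicit false
set_option linter.unusedSectionVars false
set_option linter.unusedVariables false
set_option linter.unusedSimpArgs false
set_option maxRecDepth 100000
set_option synthInstance.maxSize 4000

namespace Cfsg.Agent.HSE

open Cfsg Subgroup Cfsg.Agent.PLocal Cfsg.Agent.PLocal.Amb Cfsg.Agent.MacW
open Cfsg.Agent.Comp Cfsg.Agent.X32 Pc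

variable {G : Type*} [Group G] [Finite G]

/-- the data of the 2-group `T = ⟨z,b,u,e,f,h,t,k,l,a⟩` of order `1024` -/
structure Dat.Cfq.TI (d : Dat G) (e h f ρ o k l : G) (s : Bool) : Prop where
  lay : d.sw.Lay e f ρ true
  ach : d.Ac h (d.t * d.u) d.u d.a d.b
  he : Cj h e e
  hf : Cj h f f
  hh : h * h = d.u
  ph : Cj ρ (h * e * d.u) (h * e * d.u)
  ack : d.Ac k (d.t * e) (d.u * d.z) d.a d.b
  ke : Cj k e e
  kh : Cj k h (e * h⁻¹)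
  kf : Cj k f (f * d.z)
  kk : k * k = e
  pk : Cj ρ k l
  pl : Cj ρ l (d.a * l * d.a)
  pl' : Cj ρ (d.a * l * d.a) k
  m : k * l * (d.a * l * d.a) = cond s (d.z * d.b * f * d.t) (d.u * f * d.t)
  aco : d.Ac o (d.t * d.b * e) d.u d.b (d.a * d.b * e)
  oe : Cj o e e
  oh : Cj o h h
  ok : Cj o k k

namespace I1

open Dat.Cfq

variable {d : Dat G} {e k f ρ o c l : G} {s : Bool}

theorem exists_TI (h : d.Cfq) {f₁ f₂ ρ₁ ρ₂ w : G} (L : d.LI e k f₁ f₂ ρ₁ ρ₂ true false)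
    (W : d.WI w e k f₁ f₂ true false) : ∃ ρ o c l s, TI d e k f₂ ρ o c l s := by
  have ε : d.Eps := .inr ⟨w, W.toE2.to'⟩
  obtain ⟨o, c, a1, a2, a3, a4, a5, a6, a7, a8, a9⟩ := step1 h L W
  obtain ⟨φ, H⟩ := li_q2 h L
  have L2 : d.sw.Lay e f₂ ρ₂ true := by simpa using L.l2
  have a4 := a4.resolve_left (H.notK0 h ε (H.actR h L2 L.p2h) a1 a2 a3)
  obtain ⟨ρ, l, b1, b2, b3, b4, b5, s, b6⟩ := step2 h ε H L2 L.p2h L.ach.a (H.actK h a1 a2 a3 a4) a1.a a5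
  exact ⟨ρ, o, c, l, s, b1, L.ach, L.he, L.hf2, L.hh, b2, a1, a2, a3, a4, a5, b3, b4, b5, b6, a6, a7,
    a8, a9⟩

theorem ti_q (h : d.Cfq) (H : TI d e k f ρ o c l s) : ∃ φ, QH d φ d.b e f k := by
  have tr : ∀ {x : G}, Cj x (d.u * d.z) (d.u * d.z) → Cj x d.z d.z → Cj x d.u d.u := fun a b => by
    have := a.mul b
    rwa [← h.u_sw] at this
  have ez : Cj e d.z d.z := h.cz' H.lay.ac.b H.lay.ac.a
  exact qhom h (.inr rfl) H.lay.ee H.lay.ac.a (tr H.lay.ac.u ez) H.lay.ac.t H.lay.ff H.lay.fz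
    (tr H.lay.fu H.lay.fz) H.lay.fe H.lay.ft H.hh (h.cz' H.ach.a H.ach.b) H.ach.b H.he H.hf H.ach.t

section
variable {T : Tab} [Fact T.OK]

noncomputable abbrev kz : TG T := gn 0
noncomputable abbrev kb : TG T := gn 1
noncomputable abbrev ku : TG T := gn 2
noncomputable abbrev ke : TG T := gn 3
noncomputable abbrev kf : TG T := gn 4
noncomputable abbrev kh : TG T := gn 5
noncomputable abbrev kt : TG T := gn 6
noncomputable abbrev kk : TG T := gn 7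
noncomputable abbrev kl : TG T := gn 8
noncomputable abbrev ka : TG T := gn 9
noncomputable abbrev ks : List (TG T) := [kz, kb, ku, ke, kf, kh, kt, kk, kl, ka]

/-- the group `T` inside `G` -/
structure TH (d : Dat G) (φ : TG T →* G) (e f k c l : G) : Prop where
  inj : Function.Injective φ
  all : d.z = φ kz ∧ d.b = φ kb ∧ d.u = φ ku ∧ e = φ ke ∧ f = φ kf ∧ k = φ kh ∧ d.t = φ kt ∧
    c = φ kk ∧ l = φ kl ∧ d.a = φ ka

end

section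
open I1Q

theorem ti_rel (h : d.Cfq) (H : TI d e k f ρ o c l s) :
    (d.z * d.z = 1 ∧ d.b * d.b = 1 ∧ Cj d.b d.z d.z ∧ d.u * d.u = 1 ∧ Cj d.u d.z d.z ∧
      Cj d.u d.b d.b ∧ e * e = d.z ∧ Cj e d.z d.z ∧ Cj e d.b d.b ∧ Cj e d.u d.u ∧ f * f = d.b ∧
      Cj f d.z d.z ∧ Cj f d.b d.b ∧ Cj f d.u d.u ∧ Cj f e e ∧ k * k = d.u ∧ Cj k d.z d.z ∧
      Cj k d.b d.b ∧ Cj k d.u d.u ∧ Cj k e e ∧ Cj k f f ∧ d.t * d.t = 1 ∧ Cj d.t d.z d.z ∧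
      Cj d.t d.b d.b ∧ Cj d.t d.u d.u ∧ Cj d.t e (e * d.z) ∧ Cj d.t f (f * d.b) ∧
      Cj d.t k (k * d.u)) ∧
    (c * c = e ∧ Cj c d.z d.z ∧ Cj c d.b d.b ∧ Cj c d.u (d.z * d.u) ∧ Cj c e e ∧ Cj c f (d.z * f) ∧
      Cj c k (d.u * e * k) ∧ Cj c d.t (d.z * e * d.t)) ∧
    (l * l = f ∧ Cj l d.z d.z ∧ Cj l d.b d.b ∧ Cj l d.u (d.b * d.u) ∧ Cj l e (d.b * e) ∧ Cj l f f ∧
      Cj l k (d.z * d.u * f * k) ∧ Cj l d.t (d.b * f * d.t)) ∧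
    (d.a * d.a = 1 ∧ Cj d.a c c ∧ Cj d.a d.z d.z ∧ Cj d.a d.b (d.b * d.z) ∧ Cj d.a d.u d.u ∧ Cj d.a e e ∧
      Cj d.a f (f⁻¹ * e⁻¹) ∧ Cj d.a k k ∧ Cj d.a d.t d.t) ∧
    Cj l c (cond s (d.b * e * f * c) (d.z * e * f * c)) ∧
    Cj d.a l (cond s (l⁻¹ * c⁻¹ * d.z * d.b * f * d.t) (l⁻¹ * c⁻¹ * d.u * f * d.t)) := by
  obtain ⟨φ, Q⟩ := ti_q h H
  have R := Q.actR h H.lay H.ph
  have R' : Act φ ρ⁻¹ fun x => lkE qR (lkE qR x) := R.inv (BD.of (by decide +kernel))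
  have A := Q.actA h H.lay H.ach.a
  have C := Q.actK h H.ack H.ke H.kh H.kf
  have L := (R.comp C).comp R'
  rw [show ρ * c * ρ⁻¹ = l from H.pk] at L
  have ai : d.a⁻¹ = d.a := inv_eq_of_mul_eq_one_right h.aa
  have ac : Cj d.a c c := H.ack.a.flip
  have ll : l * l = f := (H.pk.mul H.pk).unique (H.kk ▸ H.lay.pe)
  have key : ∀ μ : K, c * l * (d.a * l * d.a) = φ μ →
      Cj l c (φ (lkE qR (lkE qK (lkE qR (lkE qR (lkE qA μ)))) * μ⁻¹) * c) ∧ Cj d.a l (l⁻¹ * c⁻¹ * φ μ) :=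
    fun μ e => by
      have e1 : Cj d.a l (d.a * l * d.a) := by rw [Cj, ai]
      have e2 : Cj d.a (d.a * l * d.a) l := by
        rw [Cj, ai, ← mul_assoc, ← mul_assoc, h.aa, one_mul, mul_assoc, h.aa, mul_one]
      have e3 := ((ac.mul e1).mul e2).unique (e ▸ A μ)
      refine ⟨?_, e1.to (by rw [← e]; group)⟩
      rw [map_mul, ← (L _ : _ = _), ← e3, map_inv, ← e, Cj]
      group
  refine ⟨?_, ⟨H.kk, ?_⟩, ⟨ll, ?_⟩, ⟨h.aa, ac, ?_⟩, ?_⟩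
  · simp only [Cj, Q.all, ← map_mul, ← map_inv, Q.inj.eq_iff, map_eq_one_iff φ Q.inj]
    exact BD.of (by decide +kernel)
  · simp only [Q.all, ← map_mul, ← map_inv]
    refine ⟨?_, ?_, ?_, ?_, ?_, ?_, ?_⟩ <;> exact C.cj rfl rfl (BD.of (by decide +kernel))
  · simp only [Q.all, ← map_mul, ← map_inv]
    refine ⟨?_, ?_, ?_, ?_, ?_, ?_, ?_⟩ <;> exact L.cj rfl rfl (BD.of (by decide +kernel))
  · simp only [Q.all, ← map_mul, ← map_inv]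
    refine ⟨?_, ?_, ?_, ?_, ?_, ?_, ?_⟩ <;> exact A.cj rfl rfl (BD.of (by decide +kernel))
  · have m := H.m
    cases s
    · obtain ⟨a1, a2⟩ := key (gu * gf * gt) (m.trans (by simp only [cond_false, Q.all, map_mul]))
      refine ⟨a1.to ?_, a2.to (by simp only [cond_false, Q.all, map_mul, mul_assoc])⟩
      simp only [cond_false, Q.all, ← map_mul, mul_left_inj, Q.inj.eq_iff]
      exact BD.of (by decide +kernel)
    · obtain ⟨a1, a2⟩ := key (gz * gb * gf * gt) (m.trans (by simp only [cond_true, Q.all, map_mul]))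
      refine ⟨a1.to ?_, a2.to (by simp only [cond_true, Q.all, map_mul, mul_assoc])⟩
      simp only [cond_true, Q.all, ← map_mul, mul_left_inj, Q.inj.eq_iff]
      exact BD.of (by decide +kernel)

end

theorem thT (h : d.Cfq) (H : TI d e k f ρ o c l true) : ∃ φ : I1T.K →* G, TH d φ e f k c l := by
  obtain ⟨⟨qz, qb, qbz, qu, quz, qub, qe, qez, qeb, qeu, qf, qfz, qfb, qfu, qfe, qh,
    qhz, qhb, qhu, qhe, qhf, qt, qtz, qtb, qtu, qte, qtf, qth⟩,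
    ⟨k0, k1, k2, k3, k4, k5, k6, k7⟩, ⟨l0, l1, l2, l3, l4, l5, l6, l7⟩,
    ⟨a0, a8, a1, a2, a3, a4, a5, a6, a7⟩, l8, a9⟩ := ti_rel h H
  obtain ⟨φ, p0, p1, p2, p3, p4, p5, p6, p7, p8, p9, -⟩ := I1T.hom qz qb qbz qu quz qub qe qez qeb qeu qf qfz
    qfb qfu qfe qh qhz qhb qhu qhe qhf qt qtz qtb qtu qte qtf qth
    k0 k1 k2 k3 k4 k5 k6 k7 l0 l1 l2 l3 l4 l5 l6 l7 l8 a0 a1 a2 a3 a4 a5 a6 a7 a8 a9
  refine ⟨φ, Pc.inj I1T.hc φ ks [kz] (BD.of (by decide +kernel)) ?_, p0.symm, p1.symm, p2.symm,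
    p3.symm, p4.symm, p5.symm, p6.symm, p7.symm, p8.symm, p9.symm⟩
  simpa using p0 ▸ h.z1

theorem thF (h : d.Cfq) (H : TI d e k f ρ o c l false) : ∃ φ : I1F.K →* G, TH d φ e f k c l := by
  obtain ⟨⟨qz, qb, qbz, qu, quz, qub, qe, qez, qeb, qeu, qf, qfz, qfb, qfu, qfe, qh,
    qhz, qhb, qhu, qhe, qhf, qt, qtz, qtb, qtu, qte, qtf, qth⟩,
    ⟨k0, k1, k2, k3, k4, k5, k6, k7⟩, ⟨l0, l1, l2, l3, l4, l5, l6, l7⟩,
    ⟨a0, a8, a1, a2, a3, a4, a5, a6, a7⟩, l8, a9⟩ := ti_rel h H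
  obtain ⟨φ, p0, p1, p2, p3, p4, p5, p6, p7, p8, p9, -⟩ := I1F.hom qz qb qbz qu quz qub qe qez qeb qeu qf qfz
    qfb qfu qfe qh qhz qhb qhu qhe qhf qt qtz qtb qtu qte qtf qth
    k0 k1 k2 k3 k4 k5 k6 k7 l0 l1 l2 l3 l4 l5 l6 l7 l8 a0 a1 a2 a3 a4 a5 a6 a7 a8 a9
  refine ⟨φ, Pc.inj I1F.hc φ ks [kz] (BD.of (by decide +kernel)) ?_, p0.symm, p1.symm, p2.symm,
    p3.symm, p4.symm, p5.symm, p6.symm, p7.symm, p8.symm, p9.symm⟩
  simpa using p0 ▸ h.z1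


end I1

end Cfsg.Agent.HSE
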